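import Groth.Agent.LefAlgz.PuncHH
import Groth.Agent.Adic7.Limit
import Groth.Agent.H9FormalCoh.Basic
import Groth.Agent.ResolveX.MVOne

/-!
# Formal sections along a hypersurface as sections near it

For a nonzerodivisor `f` on `M` with `H¹(M/fM)` finite, the formal sections on a punctured spectrum are the sections
on neighbourhoods of the hypersurface.
-/

noncomputable section

set_option autoImplicit false
set_option linter.style.haveILetI false
set_option backward.isDefEq.respectTransparency false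
set_option backward.isDefEq.respectTransparency.types false

universe u

open CategoryTheory CategoryTheory.Limits AlgebraicGeometry Opposite TopologicalSpace Abelian

namespace Groth.Agent.LefAlgz.ColimSec

open Groth.Agent Groth.Agent.H9Lef
open Groth.Agent.TildeTorsion (D P eq_zero_of_cover pow_smul_injective)

variable {A : Type u} [CommRing A] [IsNoetherianRing A] {M : Type u} [AddCommGroup M] [Module A M]

theorem HVres_secHV {U V : (Spec (CommRingCat.of A)).Opens} (h : V ≤ U) (z : Sct A M U) :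
    Formal2.HVres A M 0 h (secHV M U z) = secHV M V (sres h z) := by
  refine (SiteBase.huZero (Coh.toAb (Formal2.tmod A M)) V).injective ?_
  refine (ResolveX.huZero_res (Coh.toAb (Formal2.tmod A M)) (homOfLE h) _).trans ?_
  have e : ∀ (W : (Spec (CommRingCat.of A)).Opens) (w : Sct A M W),
      SiteBase.huZero (Coh.toAb (Formal2.tmod A M)) W (secHV M W w) = w := fun W w =>
    (SiteBase.huZero_mk₀ _ W _).trans (AddEquiv.apply_symm_apply _ w)
  rw [e, e]
  rfl

theorem eq_zero_of_local {U : (Spec (CommRingCat.of A)).Opens} (z : Sct A M U)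
    (h : ∀ x ∈ U, ∃ (V : (Spec (CommRingCat.of A)).Opens) (i : V ≤ U), x ∈ V ∧ sres i z = 0) : z = 0 :=
  eq_zero_of_cover (A := CommRingCat.of A) (M := ModuleCat.of A M) z h

theorem smul_inj {W : (Spec (CommRingCat.of A)).Opens} {s : A} (hs : W ≤ D (A := CommRingCat.of A) s)
    {z : Sct A M W} (h : s • z = 0) : z = 0 :=
  pow_smul_injective (A := CommRingCat.of A) (M := ModuleCat.of A M) hs 1 (by rw [pow_one]; exact h)

theorem exists_div {W : (Spec (CommRingCat.of A)).Opens} {s : A} (hs : W ≤ D (A := CommRingCat.of A) s) (m : M) :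
    ∃ z : Sct A M W, s • z = sec M W m := by
  haveI := away_toOpen (R := CommRingCat.of A) (ModuleCat.of A M) s
  obtain ⟨w, hw⟩ := ((Module.End.isUnit_iff _).1
    (IsLocalizedModule.map_units (sec M (D (A := CommRingCat.of A) s)) ⟨s, Submonoid.mem_powers s⟩)).2
    (sec M (D (A := CommRingCat.of A) s) m)
  refine ⟨sres hs w, ?_⟩
  rw [← map_smul, show s • w = sec M (D (A := CommRingCat.of A) s) m from hw, sres_sec]

theorem exists_frac_at {U : (Spec (CommRingCat.of A)).Opens} (z : Sct A M U) {p : PrimeSpectrum A}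
    (hp : (p : ↥(Spec (CommRingCat.of A))) ∈ U) :
    ∃ (a : A) (h : D (A := CommRingCat.of A) a ≤ U) (k : ℕ) (m : M), a ∉ p.asIdeal ∧
      a ^ k • sres h z = sec M (D (A := CommRingCat.of A) a) m := by
  obtain ⟨_, ⟨a, rfl⟩, hpa, hle⟩ := PrimeSpectrum.isTopologicalBasis_basic_opens.exists_subset_of_mem_open
    (show p ∈ (U : Set (Spec (CommRingCat.of A))) from hp) U.isOpen
  haveI := away_toOpen (R := CommRingCat.of A) (ModuleCat.of A M) a
  obtain ⟨⟨m, ⟨_, k, rfl⟩⟩, hk⟩ := IsLocalizedModule.surj (Submonoid.powers a)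
    (sec M (D (A := CommRingCat.of A) a)) (sres (show D (A := CommRingCat.of A) a ≤ U from hle) z)
  exact ⟨a, hle, k, m, hpa, hk⟩

theorem exists_smul_eq_zero_of_res (𝔞 : Ideal A)
    (z : Sct A M (LocCoh.puncturedOpen A 𝔞)) (a : A) (h : D (A := CommRingCat.of A) a ≤ LocCoh.puncturedOpen A 𝔞)
    (hz : sres h z = 0) : ∃ k : ℕ, a ^ k • z = 0 := by
  obtain ⟨r, g, hg⟩ := Submodule.fg_iff_exists_fin_generating_family.1 (IsNoetherian.noetherian 𝔞)
  have key : ∀ i, ∃ k : ℕ, a ^ k • chart hg z i = 0 := fun i => by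
    haveI := away_toOpen (R := CommRingCat.of A) (ModuleCat.of A M) (g i)
    haveI := away_toOpen (R := CommRingCat.of A) (ModuleCat.of A M) (g i * a)
    obtain ⟨⟨m, ⟨_, l, rfl⟩⟩, hl⟩ := IsLocalizedModule.surj (Submonoid.powers (g i))
      (sec M (D (A := CommRingCat.of A) (g i))) (chart hg z i)
    have hl' : g i ^ l • chart hg z i = sec M (D (A := CommRingCat.of A) (g i)) m := hl
    have hle : D (A := CommRingCat.of A) (g i * a) ≤ D (A := CommRingCat.of A) (g i) :=
      PrimeSpectrum.basicOpen_mul_le_left (g i) a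
    have hle' : D (A := CommRingCat.of A) (g i * a) ≤ D (A := CommRingCat.of A) a :=
      PrimeSpectrum.basicOpen_mul_le_right (g i) a
    have h0 : sec M (D (A := CommRingCat.of A) (g i * a)) m = 0 := by
      have e := congrArg (sres hle) hl'
      rw [map_smul, sres_sec, chart, sres_sres, ← sres_sres hle' h, hz, map_zero, smul_zero] at e
      exact e.symm
    obtain ⟨⟨_, k, rfl⟩, hk⟩ := (IsLocalizedModule.eq_zero_iff (Submonoid.powers (g i * a))
      (sec M (D (A := CommRingCat.of A) (g i * a)))).1 h0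
    refine ⟨k, (bijective_smul (ℓ := ℓg g M) (g := g) i (k + l)).1 ?_⟩
    show g i ^ (k + l) • a ^ k • chart hg z i = g i ^ (k + l) • (0 : Lg g M i)
    rw [smul_zero, pow_add, mul_smul, smul_comm (g i ^ l), hl', ← mul_smul, ← mul_pow, ← map_smul]
    change sec M (D (A := CommRingCat.of A) (g i)) ((g i * a) ^ k • m) = 0
    rw [show (g i * a) ^ k • m = 0 from hk, map_zero]
  choose k hk using key
  refine ⟨Finset.univ.sup k, chart_injective hg (z' := 0) fun i => ?_⟩
  obtain ⟨e, he⟩ := Nat.exists_eq_add_of_le (Finset.le_sup (f := k) (Finset.mem_univ i))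
  show sres (D_le hg i) (a ^ Finset.univ.sup k • z) = sres (D_le hg i) 0
  rw [map_zero, map_smul, he, add_comm, pow_add, mul_smul]
  exact (congrArg _ (hk i)).trans (smul_zero _)

section Krull

variable [Module.Finite A M] {f : A}

theorem exists_smul_eq_zero_of_forall {p : PrimeSpectrum A} (hfp : f ∈ p.asIdeal) {m : M}
    (h : ∀ n : ℕ, ∃ s ∉ p.asIdeal, ∃ w, f ^ n • w = s • m) : ∃ s ∉ p.asIdeal, s • m = 0 := by
  let S := p.asIdeal.primeCompl
  let R := Localization.AtPrime p.asIdeal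
  let P := LocalizedModule S M
  let g : M →ₗ[A] P := LocalizedModule.mkLinearMap S M
  haveI : Module.Finite R P := Module.Finite.of_isLocalizedModule S g
  have hne : Ideal.span {algebraMap A R f} ≠ ⊤ := by
    rw [Ne, Ideal.span_singleton_eq_top]
    intro hu
    exact (IsLocalization.AtPrime.isUnit_to_map_iff R p.asIdeal f).1 hu hfp
  have hm : g m ∈ (⨅ n : ℕ, Ideal.span {algebraMap A R f} ^ n • (⊤ : Submodule R P)) := by
    refine (Submodule.mem_iInf _).2 fun n => ?_
    obtain ⟨s, hs, w, hw⟩ := h n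
    obtain ⟨u, hu⟩ := (IsLocalization.map_units R (⟨s, hs⟩ : S))
    have e : algebraMap A R (f ^ n) • g w = (u : R) • g m := by
      rw [hu, algebraMap_smul, algebraMap_smul, ← map_smul, ← map_smul, hw]
    have e' : g m = algebraMap A R (f ^ n) • ((u⁻¹ : Rˣ) : R) • g w := by
      rw [smul_comm, e, smul_smul, Units.inv_mul, one_smul]
    rw [e']
    refine Submodule.smul_mem_smul ?_ trivial
    rw [Ideal.span_singleton_pow, map_pow]
    exact Ideal.mem_span_singleton_self _
  rw [Ideal.iInf_pow_smul_eq_bot_of_isLocalRing _ hne, Submodule.mem_bot] at hm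
  obtain ⟨⟨s, hs⟩, hs0⟩ := (IsLocalizedModule.eq_zero_iff S g).1 hm
  exact ⟨s, hs, hs0⟩

theorem exists_smul_submodule_eq_zero {p : PrimeSpectrum A} (N : Submodule A M)
    (h : ∀ m ∈ N, ∃ s ∉ p.asIdeal, s • m = 0) : ∃ s ∉ p.asIdeal, ∀ m ∈ N, s • m = 0 := by
  classical
  obtain ⟨k, g, hg⟩ := Submodule.fg_iff_exists_fin_generating_family.1 (IsNoetherian.noetherian N)
  choose s hs hs0 using fun i => h (g i) (hg ▸ Submodule.subset_span ⟨i, rfl⟩)
  refine ⟨∏ i, s i, fun hmem => ?_, fun m hm => ?_⟩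
  · obtain ⟨i, -, hi⟩ := (Ideal.IsPrime.prod_mem_iff (p := p.asIdeal)).1 hmem
    exact hs i hi
  · rw [← hg] at hm
    induction hm using Submodule.span_induction with
    | mem x hx =>
      obtain ⟨i, rfl⟩ := hx
      rw [← Finset.mul_prod_erase _ _ (Finset.mem_univ i), mul_comm, mul_smul, hs0, smul_zero]
    | zero => rw [smul_zero]
    | add x y _ _ hx hy => rw [smul_add, hx, hy, add_zero]
    | smul c x _ hx => rw [smul_comm, hx, smul_zero]

theorem exists_smul_eq_zero_of_nakayama {p : PrimeSpectrum A} (hfp : f ∈ p.asIdeal)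
    (h : ∀ m : M, ∃ s ∉ p.asIdeal, ∃ w, f • w = s • m) (m : M) : ∃ s ∉ p.asIdeal, s • m = 0 := by
  let S := p.asIdeal.primeCompl
  let R := Localization.AtPrime p.asIdeal
  let P := LocalizedModule S M
  let g : M →ₗ[A] P := LocalizedModule.mkLinearMap S M
  haveI : Module.Finite R P := Module.Finite.of_isLocalizedModule S g
  have hne : Ideal.span {algebraMap A R f} ≤ Ideal.jacobson ⊥ := by
    rw [IsLocalRing.jacobson_eq_maximalIdeal _ bot_ne_top, Ideal.span_singleton_le_iff_mem]
    exact fun hu => (IsLocalization.AtPrime.isUnit_to_map_iff R p.asIdeal f).1 hu hfp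
  have htop : (⊤ : Submodule R P) ≤ Ideal.span {algebraMap A R f} • (⊤ : Submodule R P) := by
    intro x _
    obtain ⟨⟨y, ⟨t, ht⟩⟩, hy⟩ := IsLocalizedModule.surj S g x
    obtain ⟨s, hs, w, hw⟩ := h y
    obtain ⟨u, hu⟩ := (IsLocalization.map_units R (⟨s * t, S.mul_mem hs ht⟩ : S))
    have e : algebraMap A R f • g w = (u : R) • x := by
      rw [hu, algebraMap_smul, algebraMap_smul, ← map_smul, hw, map_smul, mul_smul]
      exact congrArg (s • ·) hy.symm
    have e' : x = algebraMap A R f • ((u⁻¹ : Rˣ) : R) • g w := by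
      rw [smul_comm, e, smul_smul, Units.inv_mul, one_smul]
    rw [e']
    exact Submodule.smul_mem_smul (Ideal.mem_span_singleton_self _) trivial
  have hbot := Submodule.eq_bot_of_le_smul_of_le_jacobson_bot _ _ Module.Finite.fg_top htop hne
  obtain ⟨⟨s, hs⟩, hs0⟩ := (IsLocalizedModule.eq_zero_iff S g).1
    ((Submodule.mem_bot R).1 (hbot ▸ (Submodule.mem_top : g m ∈ _)))
  exact ⟨s, hs, hs0⟩

end Krull

section Limit

variable (𝔞 : Ideal A) (f : A)

/-- The quotient by a power of the hypersurface. -/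
abbrev Q (M : Type u) [AddCommGroup M] [Module A M] (n : ℕ) : Type u := Formal2.quotPow A (Ideal.span {f}) M n

/-- The projection. -/
abbrev q (n : ℕ) : M →ₗ[A] Q f M n := Formal2.quotPowπ A (Ideal.span {f}) M n

/-- The transition. -/
abbrev tr (n : ℕ) : Q f M (n + 1) →ₗ[A] Q f M n := Formal2.quotPowTrans A (Ideal.span {f}) M n

/-- The compatible families of sections. -/
def Lim (M : Type u) [AddCommGroup M] [Module A M] :
    Submodule A (∀ n, Sct A (Q f M n) (LocCoh.puncturedOpen A 𝔞)) where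
  carrier := {y | ∀ n, smap (tr f n) _ (y (n + 1)) = y n}
  zero_mem' := fun n => map_zero _
  add_mem' := fun {x y} hx hy n => by rw [Pi.add_apply, map_add, hx n, hy n]; rfl
  smul_mem' := fun a x hx n => by rw [Pi.smul_apply, map_smul, hx n]; rfl

/-- The families coming from the module. -/
def toLim : M →ₗ[A] Lim 𝔞 f M :=
  (LinearMap.pi fun n => (sec (Q f M n) (LocCoh.puncturedOpen A 𝔞)).comp (q f n)).codRestrict _ fun m n => by
    show smap (tr f n) _ (sec (Q f M (n + 1)) (LocCoh.puncturedOpen A 𝔞) (q f (n + 1) m)) =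
      sec (Q f M n) (LocCoh.puncturedOpen A 𝔞) (q f n m)
    rw [smap_sec]
    rfl

theorem toLim_apply (m : M) (n : ℕ) :
    (toLim 𝔞 f m).1 n = sec (Q f M n) (LocCoh.puncturedOpen A 𝔞) (q f n m) := rfl

variable {f} (hreg : IsSMulRegular M f)

/-- Multiplication by `f` between consecutive quotients. -/
def mulQ (n : ℕ) : Q f M n →ₗ[A] Q f M (n + 1) :=
  Submodule.mapQ _ _ (f • LinearMap.id) fun m hm => by
    obtain ⟨w, rfl⟩ := mem_span_pow_smul_top.1 hm
    exact mem_span_pow_smul_top.2 ⟨w, by rw [pow_succ', mul_smul]; rfl⟩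

/-- The reduction to the first quotient. -/
def red0 (n : ℕ) : Q f M n →ₗ[A] Q f M 0 :=
  Submodule.mapQ _ _ LinearMap.id (Submodule.smul_mono_left (Ideal.pow_le_pow_right (by omega)))

include hreg in
theorem mulQ_injective (n : ℕ) : Function.Injective (mulQ (M := M) (f := f) n) := by
  refine (injective_iff_map_eq_zero _).2 fun z hz => ?_
  obtain ⟨m, rfl⟩ := Submodule.Quotient.mk_surjective _ z
  obtain ⟨w, hw⟩ := mem_span_pow_smul_top.1 ((Submodule.Quotient.mk_eq_zero _).1 hz)
  refine (Submodule.Quotient.mk_eq_zero _).2 (mem_span_pow_smul_top.2 ⟨w, hreg ?_⟩)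
  show f • f ^ (n + 1) • w = f • m
  rw [← mul_smul, ← pow_succ']
  exact hw

theorem range_mulQ (n : ℕ) : LinearMap.range (mulQ (M := M) (f := f) n) = LinearMap.ker (red0 (n + 1)) := by
  refine le_antisymm ?_ fun z hz => ?_
  · rintro _ ⟨z, rfl⟩
    obtain ⟨m, rfl⟩ := Submodule.Quotient.mk_surjective _ z
    exact (Submodule.Quotient.mk_eq_zero _).2 (mem_span_pow_smul_top.2 ⟨m, by rw [pow_one]; rfl⟩)
  · obtain ⟨m, rfl⟩ := Submodule.Quotient.mk_surjective _ z
    obtain ⟨w, hw⟩ := mem_span_pow_smul_top.1 ((Submodule.Quotient.mk_eq_zero _).1 hz)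
    exact ⟨Submodule.Quotient.mk w, congrArg Submodule.Quotient.mk (by
      rw [zero_add, pow_one] at hw
      exact hw)⟩

theorem tr_mk (n : ℕ) (m : M) :
    tr f n (Submodule.Quotient.mk (p := Ideal.span {f} ^ (n + 1 + 1) • (⊤ : Submodule A M)) m) =
      Submodule.Quotient.mk (p := Ideal.span {f} ^ (n + 1) • (⊤ : Submodule A M)) m := by
  simp only [tr, Formal2.quotPowTrans, Submodule.mapQ_apply, LinearMap.id_apply]

theorem mulQ_mk (n : ℕ) (m : M) :
    mulQ (f := f) n (Submodule.Quotient.mk (p := Ideal.span {f} ^ (n + 1) • (⊤ : Submodule A M)) m) =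
      Submodule.Quotient.mk (p := Ideal.span {f} ^ (n + 1 + 1) • (⊤ : Submodule A M)) (f • m) := by
  simp only [mulQ, Submodule.mapQ_apply, LinearMap.id_apply, LinearMap.smul_apply]

theorem tr_mulQ (n : ℕ) : (mulQ (M := M) n).comp (tr f n) = f • LinearMap.id := by
  refine LinearMap.ext fun z => ?_
  obtain ⟨m, rfl⟩ := Submodule.Quotient.mk_surjective _ z
  rw [LinearMap.comp_apply, tr_mk, mulQ_mk, LinearMap.smul_apply, LinearMap.id_apply, ← Submodule.Quotient.mk_smul]

theorem mulQ_tr (n : ℕ) : (tr f n).comp (mulQ (M := M) n) = f • LinearMap.id := by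
  refine LinearMap.ext fun z => ?_
  obtain ⟨m, rfl⟩ := Submodule.Quotient.mk_surjective _ z
  rw [LinearMap.comp_apply, mulQ_mk, tr_mk, LinearMap.smul_apply, LinearMap.id_apply, ← Submodule.Quotient.mk_smul]

theorem red0_tr (n : ℕ) : (red0 (M := M) (f := f) n).comp (tr f n) = red0 (n + 1) := by
  refine LinearMap.ext fun z => ?_
  obtain ⟨m, rfl⟩ := Submodule.Quotient.mk_surjective _ z
  rw [LinearMap.comp_apply, tr_mk]
  simp only [red0, Submodule.mapQ_apply, LinearMap.id_apply]

variable (U : (Spec (CommRingCat.of A)).Opens)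

theorem smap_comp {N P : Type u} [AddCommGroup N] [Module A N] [AddCommGroup P] [Module A P] (φ : M →ₗ[A] N)
    (ψ : N →ₗ[A] P) (z : Sct A M U) : smap ψ U (smap φ U z) = smap (ψ.comp φ) U z := by
  apply (secHV P U).injective
  rw [← HVmap_secHV, ← HVmap_secHV, ← HVmap_secHV]
  exact H9FormalCoh.HVmap_comp A φ ψ 0 U _

theorem smap_f (z : Sct A M U) : smap (f • LinearMap.id) U z = f • z := by
  refine sub_eq_zero.1 (eq_zero_of_local _ fun x hx => ?_)
  obtain ⟨a, h, k, m, ha, hk⟩ := exists_frac_at z (p := (x : PrimeSpectrum A)) hx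
  refine ⟨_, h, ha, pow_smul_injective (A := CommRingCat.of A) (M := ModuleCat.of A M) le_rfl k ?_⟩
  show a ^ k • sres h (smap (f • LinearMap.id) U z - f • z) = 0
  rw [map_sub, map_smul, ← smap_sres, smul_sub, ← map_smul, hk, smap_sec, smul_comm, hk, ← map_smul, sub_eq_zero]
  rfl

theorem secHV_zero : secHV M U 0 = 0 :=
  map_zero ((Ext.addEquiv₀.trans (SiteBase.secEquiv (Opens.grothendieckTopology _) U (Coh.toAb (Formal2.tmod A M)))).symm)

theorem smap_injective_of {N : Type u} [AddCommGroup N] [Module A N] {φ : M →ₗ[A] N} (hφ : Function.Injective φ) :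
    Function.Injective (smap φ U) := fun z w e => (secHV M U).injective
  (((H9FormalCoh.exact0 A φ (LinearMap.range φ).mkQ hφ (Submodule.ker_mkQ _).symm U).1)
    (by rw [HVmap_secHV, HVmap_secHV, e]))

theorem exists_of_smap_eq_zero' {N P : Type u} [AddCommGroup N] [Module A N] [AddCommGroup P] [Module A P]
    {φ : M →ₗ[A] N} {ψ : N →ₗ[A] P} (hφ : Function.Injective φ) (h : LinearMap.range φ = LinearMap.ker ψ)
    {z : Sct A N U} (hz : smap ψ U z = 0) : ∃ w, smap φ U w = z := by
  obtain ⟨y, hy⟩ := (H9FormalCoh.exact0 A φ ψ hφ h U).2 (secHV N U z) (by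
    rw [HVmap_secHV, hz, secHV_zero])
  obtain ⟨w, rfl⟩ := (secHV M U).surjective y
  exact ⟨w, (secHV N U).injective (by rw [← hy, HVmap_secHV])⟩

theorem smul_eq_zero_of_killed {c : A} (h : ∀ m : M, c • m = 0) (z : Sct A M U) : c • z = 0 := by
  refine eq_zero_of_local _ fun x hx => ?_
  obtain ⟨a, hle, k, m, ha, hk⟩ := exists_frac_at z (p := (x : PrimeSpectrum A)) hx
  refine ⟨_, hle, ha, pow_smul_injective (A := CommRingCat.of A) (M := ModuleCat.of A M) le_rfl k ?_⟩
  show a ^ k • sres hle (c • z) = 0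
  rw [map_smul, smul_comm, hk, ← map_smul, h, map_zero]

theorem killed_Q (n : ℕ) (x : Q f M n) : f ^ (n + 1) • x = 0 := by
  obtain ⟨m, rfl⟩ := Submodule.Quotient.mk_surjective _ x
  rw [← Submodule.Quotient.mk_smul, Submodule.Quotient.mk_eq_zero]
  exact mem_span_pow_smul_top.2 ⟨m, rfl⟩

variable {𝔞}

theorem red0_eq_zero (z : Lim 𝔞 f M) (h : z.1 0 = 0) :
    ∀ n, smap (red0 (f := f) n) (LocCoh.puncturedOpen A 𝔞) (z.1 n) = 0
  | 0 => by rw [h, map_zero]
  | n + 1 => by rw [← red0_tr, ← smap_comp, z.2 n, red0_eq_zero z h n]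

theorem eq_zero_of_le (z : Lim 𝔞 f M) {n : ℕ} (h : z.1 n = 0) : ∀ {m : ℕ}, m ≤ n → z.1 m = 0 := by
  intro m hm
  induction hm using Nat.decreasingInduction with
  | self => exact h
  | of_succ k hk ih => rw [← z.2 k, ih, map_zero]

include hreg in
theorem exists_smul_of_zero (z : Lim 𝔞 f M) (h : z.1 0 = 0) :
    ∃ y : Lim 𝔞 f M, z = f • y ∧
      ∀ n, smap (mulQ (M := M) (f := f) n) (LocCoh.puncturedOpen A 𝔞) (y.1 n) = z.1 (n + 1) := by
  choose w hw using fun n => exists_of_smap_eq_zero' (LocCoh.puncturedOpen A 𝔞) (mulQ_injective hreg n)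
    (range_mulQ n) (red0_eq_zero z h (n + 1))
  have hz : ∀ n, z.1 n = f • w n := fun n => by
    rw [← z.2 n, ← hw n, smap_comp, mulQ_tr, smap_f]
  refine ⟨⟨w, fun n => smap_injective_of _ (mulQ_injective hreg n) ?_⟩, Subtype.ext (funext hz), hw⟩
  rw [smap_comp, tr_mulQ, smap_f, ← hz, hw]

include hreg in
theorem exists_pow_of_zero : ∀ (n : ℕ) (z : Lim 𝔞 f M), z.1 n = 0 → ∃ y : Lim 𝔞 f M, z = f ^ (n + 1) • y
  | 0, z, h => by
    obtain ⟨y, hy, -⟩ := exists_smul_of_zero hreg z h
    exact ⟨y, by rw [pow_one]; exact hy⟩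
  | n + 1, z, h => by
    obtain ⟨w, hw, hμ⟩ := exists_smul_of_zero hreg z (eq_zero_of_le z h (Nat.zero_le _))
    obtain ⟨y, hy⟩ := exists_pow_of_zero n w
      (smap_injective_of _ (mulQ_injective hreg n) (by rw [hμ, h, map_zero]))
    exact ⟨y, by rw [hw, hy, smul_smul, ← pow_succ']⟩

include hreg in
/-- The formal sections form a finite module. -/
theorem finite_lim [IsAdicComplete (Ideal.span {f}) A] [Module.Finite A M] (h : FinH 𝔞 1 (Q f M 0)) :
    Module.Finite A (Lim 𝔞 f M) := by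
  let L := Lim 𝔞 f M
  let π : ∀ n, L →ₗ[A] Sct A (Q f M n) (LocCoh.puncturedOpen A 𝔞) := fun n => (LinearMap.proj n).comp L.subtype
  let P : ∀ n, Submodule A (Sct A (Q f M n) (LocCoh.puncturedOpen A 𝔞)) := fun n => LinearMap.range (π n)
  let fn : ∀ n, P (n + 1) →ₗ[A] P n := fun n => (smap (tr f n) (LocCoh.puncturedOpen A 𝔞)).restrict fun x hx => by
    obtain ⟨z, rfl⟩ := hx
    exact ⟨z, (z.2 n).symm⟩
  have hkill : ∀ n (z : L), π n (f ^ (n + 1) • z) = 0 := fun n z => by
    rw [map_smul]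
    exact smul_eq_zero_of_killed _ (killed_Q n) _
  obtain ⟨-, -, hfin⟩ := Adic7.limit_quotient_system A (Ideal.span {f}) (Submodule.fg_span_singleton f)
    (fun n => P n) fn (fun n x => by
      obtain ⟨_, z, rfl⟩ := x
      exact ⟨⟨π (n + 1) z, z, rfl⟩, Subtype.ext (z.2 n)⟩)
    (fun n => le_antisymm (fun x hx => by
      obtain ⟨_, z, rfl⟩ := x
      have h0 : π n z = 0 := (z.2 n).symm.trans (congrArg Subtype.val (LinearMap.mem_ker.1 hx))
      obtain ⟨y, hy⟩ := exists_pow_of_zero hreg n z h0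
      exact mem_span_pow_smul_top.2 ⟨⟨π (n + 1) y, y, rfl⟩, Subtype.ext (by
        show f ^ (n + 1) • π (n + 1) y = π (n + 1) z
        rw [hy, map_smul])⟩) fun x hx => by
      obtain ⟨w, rfl⟩ := mem_span_pow_smul_top.1 hx
      obtain ⟨_, z, rfl⟩ := w
      refine LinearMap.mem_ker.2 (Subtype.ext ?_)
      show smap (tr f n) (LocCoh.puncturedOpen A 𝔞) (f ^ (n + 1) • π (n + 1) z) = 0
      rw [map_smul]
      exact smul_eq_zero_of_killed _ (killed_Q n) _)
    L (fun n => (π n).rangeRestrict) (fun n => LinearMap.ext fun z => Subtype.ext (z.2 n))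
    (fun z hz => Subtype.ext (funext fun n => congrArg Subtype.val (hz n)))
    (fun x hx => ⟨⟨fun n => (x n).1, fun n => congrArg Subtype.val (hx n)⟩, fun n => Subtype.ext rfl⟩)
  refine hfin inferInstance ?_
  haveI := finite_coker_sec 𝔞 (Q f M 0) h (LocCoh.puncturedOpen A 𝔞) rfl
  haveI : Module.Finite A (Sct A (Q f M 0) (LocCoh.puncturedOpen A 𝔞)) :=
    Module.Finite.of_submodule_quotient (LinearMap.range (sec (Q f M 0) (LocCoh.puncturedOpen A 𝔞)))
  exact Module.Finite.of_injective (P 0).subtype Subtype.val_injective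

variable (𝔞)

theorem exists_frac_mk (n : ℕ) (z : Sct A (Q f M n) (LocCoh.puncturedOpen A 𝔞)) {p : PrimeSpectrum A}
    (hp : (p : ↥(Spec (CommRingCat.of A))) ∈ LocCoh.puncturedOpen A 𝔞) :
    ∃ s ∉ p.asIdeal, ∃ m : M, s • z =
      sec (Q f M n) (LocCoh.puncturedOpen A 𝔞) (q f n m) := by
  obtain ⟨a, h, k, x, ha, hk⟩ := exists_frac_at z hp
  obtain ⟨m, rfl⟩ := Submodule.Quotient.mk_surjective _ x
  obtain ⟨K, hK⟩ := exists_smul_eq_zero_of_res 𝔞 (a ^ k • z - sec (Q f M n) (LocCoh.puncturedOpen A 𝔞) (q f n m)) a h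
    (by rw [map_sub, map_smul, hk, sres_sec]; exact sub_self _)
  refine ⟨a ^ (K + k), fun hm => ha (p.isPrime.mem_of_pow_mem _ hm), a ^ K • m, ?_⟩
  rw [smul_sub, sub_eq_zero, ← mul_smul, ← pow_add] at hK
  rw [hK, map_smul (q f n), map_smul]

/-- Elements at which a family of sections is a fraction. -/
def Fine (y : ∀ n, Sct A (Q f M n) (LocCoh.puncturedOpen A 𝔞)) (s : A) : Prop :=
  ∃ m : M, ∀ n, s • y n = sec (Q f M n) (LocCoh.puncturedOpen A 𝔞) (q f n m)

include hreg in
theorem exists_fine [IsAdicComplete (Ideal.span {f}) A] [Module.Finite A M] (h : FinH 𝔞 1 (Q f M 0))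
    (y : Lim 𝔞 f M) {p : PrimeSpectrum A} (hp : (p : ↥(Spec (CommRingCat.of A))) ∈ LocCoh.puncturedOpen A 𝔞)
    (hfp : f ∈ p.asIdeal) : ∃ s ∉ p.asIdeal, Fine 𝔞 y.1 s := by
  haveI := finite_lim hreg h
  let N := LinearMap.range (toLim 𝔞 f : M →ₗ[A] Lim 𝔞 f M)
  have hN : ∀ z : Lim 𝔞 f M ⧸ N, ∃ s ∉ p.asIdeal, ∃ w, f • w = s • z := fun z => by
    obtain ⟨z, rfl⟩ := Submodule.Quotient.mk_surjective _ z
    obtain ⟨s, hs, m, hm⟩ := exists_frac_mk 𝔞 0 (z.1 0) hp
    obtain ⟨w, hw, -⟩ := exists_smul_of_zero hreg (s • z - toLim 𝔞 f m) (by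
      show s • z.1 0 - (toLim 𝔞 f m).1 0 = 0
      rw [hm, toLim_apply, sub_self])
    refine ⟨s, hs, Submodule.Quotient.mk w, ?_⟩
    rw [← Submodule.Quotient.mk_smul, ← Submodule.Quotient.mk_smul, ← hw, Submodule.Quotient.eq, sub_sub_cancel_left]
    exact Submodule.neg_mem _ ⟨m, rfl⟩
  obtain ⟨s, hs, hs0⟩ := exists_smul_eq_zero_of_nakayama hfp hN (Submodule.Quotient.mk y)
  obtain ⟨m, hm⟩ := (Submodule.Quotient.mk_eq_zero N).1 ((Submodule.Quotient.mk_smul N s y).trans hs0)
  exact ⟨s, hs, m, fun n => (congrArg (fun v : Lim 𝔞 f M => v.1 n) hm.symm).trans (toLim_apply 𝔞 f m n)⟩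

/-- The elements without formal sections. -/
abbrev Null : Submodule A M := LinearMap.ker (toLim 𝔞 f : M →ₗ[A] Lim 𝔞 f M)

theorem exists_null [Module.Finite A M] {p : PrimeSpectrum A}
    (hp : (p : ↥(Spec (CommRingCat.of A))) ∈ LocCoh.puncturedOpen A 𝔞) (hfp : f ∈ p.asIdeal) :
    ∃ s ∉ p.asIdeal, ∀ m ∈ Null (f := f) (M := M) 𝔞, s • m = 0 := by
  refine exists_smul_submodule_eq_zero _ fun m hm => exists_smul_eq_zero_of_forall hfp fun n => ?_
  cases n with
  | zero => exact ⟨1, fun h => p.isPrime.ne_top ((Ideal.eq_top_iff_one _).2 h), m, by rw [pow_zero]⟩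
  | succ n =>
    obtain ⟨_, ⟨a, rfl⟩, hpa, hle⟩ := PrimeSpectrum.isTopologicalBasis_basic_opens.exists_subset_of_mem_open
      (show p ∈ (LocCoh.puncturedOpen A 𝔞 : Set (Spec (CommRingCat.of A))) from hp) (LocCoh.puncturedOpen A 𝔞).isOpen
    haveI := away_toOpen (R := CommRingCat.of A) (ModuleCat.of A (Q f M n)) a
    have h0 : sec (Q f M n) (LocCoh.puncturedOpen A 𝔞) (q f n m) = 0 := by
      rw [← toLim_apply, LinearMap.mem_ker.1 hm]
      rfl
    have h1 : sec (Q f M n) (D (A := CommRingCat.of A) a) (q f n m) = 0 := by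
      rw [← sres_sec (show D (A := CommRingCat.of A) a ≤ LocCoh.puncturedOpen A 𝔞 from hle), h0, map_zero]
    obtain ⟨⟨_, k, rfl⟩, hk⟩ := (IsLocalizedModule.eq_zero_iff (Submonoid.powers a)
      (sec (Q f M n) (D (A := CommRingCat.of A) a))).1 h1
    exact ⟨a ^ k, fun hmem => hpa (p.isPrime.mem_of_pow_mem _ hmem),
      mem_span_pow_smul_top.1 ((Submodule.Quotient.mk_eq_zero _).1 ((Submodule.Quotient.mk_smul _ _ m).trans hk))⟩

include hreg in
set_option maxHeartbeats 1600000 in
/-- Formal sections along a hypersurface are the sections near it. -/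
theorem formalCohColimBijective [IsAdicComplete (Ideal.span {f}) A] [Module.Finite A M]
    (h : FinH 𝔞 1 (Q f M 0)) :
    Formal2.FormalCohColimBijective A (Ideal.span {f}) M 0 (LocCoh.puncturedOpen A 𝔞) := by
  constructor
  · intro V hV x hx
    obtain ⟨z, rfl⟩ := (secHV M V).surjective x
    have hz : ∀ n, smap (q f n) V z = 0 := fun n => (secHV (Q f M n) V).injective (by
      rw [← HVmap_secHV, secHV_zero]; exact hx n)
    let W : (Spec (CommRingCat.of A)).Opens :=
      sSup {W | ∃ h : W ≤ V, sres h z = 0}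
    have hWV : W ≤ V := sSup_le fun W hW => hW.1
    refine ⟨W, ⟨⟨hWV.trans hV.1, fun p hp hfp => ?_⟩, hWV⟩, ?_⟩
    · let p' : PrimeSpectrum A := p
      have hfp' : f ∈ p'.asIdeal := hfp (Ideal.mem_span_singleton_self f)
      obtain ⟨a, hle, k, m, ha, hk⟩ := exists_frac_at z (p := p') (hV.2 p hp hfp)
      obtain ⟨t, ht, htm⟩ := exists_smul_eq_zero_of_forall hfp' (m := m) fun n => by
        cases n with
        | zero => exact ⟨1, fun h => p'.isPrime.ne_top ((Ideal.eq_top_iff_one _).2 h), m, by rw [pow_zero]⟩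
        | succ n =>
          haveI := away_toOpen (R := CommRingCat.of A) (ModuleCat.of A (Q f M n)) a
          have h1 : sec (Q f M n) (D (A := CommRingCat.of A) a) (q f n m) = 0 := by
            rw [← smap_sec, ← hk, map_smul, smap_sres, hz, map_zero, smul_zero]
          obtain ⟨⟨_, l, rfl⟩, hl⟩ := (IsLocalizedModule.eq_zero_iff (Submonoid.powers a)
            (sec (Q f M n) (D (A := CommRingCat.of A) a))).1 h1
          exact ⟨a ^ l, fun hmem => ha (p'.isPrime.mem_of_pow_mem _ hmem),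
            mem_span_pow_smul_top.1 ((Submodule.Quotient.mk_eq_zero _).1 ((Submodule.Quotient.mk_smul _ _ m).trans hl))⟩
      refine TopologicalSpace.Opens.mem_sSup.2 ⟨D (A := CommRingCat.of A) (a * t), ⟨?_, ?_⟩,
        show a * t ∉ p'.asIdeal from fun hm => (p'.isPrime.mem_or_mem hm).elim ha ht⟩
      · exact (PrimeSpectrum.basicOpen_mul_le_left a t).trans hle
      · refine pow_smul_injective (A := CommRingCat.of A) (M := ModuleCat.of A M) le_rfl (k + 1) ?_
        show (a * t) ^ (k + 1) • sres ((PrimeSpectrum.basicOpen_mul_le_left a t).trans hle : D (A := CommRingCat.of A) (a * t) ≤ V) z = 0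
        have e := congrArg (sres (show D (A := CommRingCat.of A) (a * t) ≤ D (A := CommRingCat.of A) a from
          PrimeSpectrum.basicOpen_mul_le_left a t)) hk
        rw [map_smul, sres_sres, sres_sec] at e
        refine Eq.trans (b := (a * t ^ (k + 1)) • a ^ k •
          sres ((PrimeSpectrum.basicOpen_mul_le_left a t).trans hle : D (A := CommRingCat.of A) (a * t) ≤ V) z) ?_ ?_
        · rw [smul_smul]
          congr 1
          ring
        · refine (congrArg ((a * t ^ (k + 1)) • ·) e).trans ?_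
          rw [← map_smul, pow_succ, ← mul_assoc, mul_smul, htm, smul_zero, map_zero]
    · rw [HVres_secHV, ← secHV_zero]
      refine congrArg _ (eq_zero_of_local _ fun x hx => ?_)
      obtain ⟨W', ⟨hW', hW0⟩, hxW'⟩ := TopologicalSpace.Opens.mem_sSup.1 hx
      exact ⟨W', le_sSup (α := (Spec (CommRingCat.of A)).Opens) ⟨hW', hW0⟩, hxW', by rw [sres_sres]; exact hW0⟩
  · intro y hy
    choose z hz using fun n => (secHV (Q f M n) _).surjective (y n)
    let yL : Lim 𝔞 f M := ⟨z, fun n => (secHV (Q f M n) _).injective (by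
      rw [← HVmap_secHV, hz, hz]; exact hy n)⟩
    let ι := {i : A × A × M // (∀ m ∈ Null (f := f) (M := M) 𝔞, i.2.1 • m = 0) ∧
      ∀ n, i.1 • z n = sec (Q f M n) (LocCoh.puncturedOpen A 𝔞) (q f n i.2.2)}
    let W : ι → (Spec (CommRingCat.of A)).Opens := fun i =>
      LocCoh.puncturedOpen A 𝔞 ⊓ (D (A := CommRingCat.of A) i.1.1 ⊓ D (A := CommRingCat.of A) i.1.2.1)
    choose x hx using fun i : ι => exists_div (W := W i) (s := i.1.1) (inf_le_right.trans inf_le_left) i.1.2.2
    let V : (Spec (CommRingCat.of A)).Opens := iSup W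
    have hVU : V ≤ LocCoh.puncturedOpen A 𝔞 := iSup_le fun i => inf_le_left
    have hVad : Formal2.Admissible A (Ideal.span {f}) (LocCoh.puncturedOpen A 𝔞) V := ⟨hVU, fun p hp hfp => by
      let p' : PrimeSpectrum A := p
      have hfp' : f ∈ p'.asIdeal := hfp (Ideal.mem_span_singleton_self f)
      obtain ⟨s, hs, m, hm⟩ := exists_fine 𝔞 hreg h yL (p := p') hp hfp'
      obtain ⟨t, ht, ht0⟩ := exists_null 𝔞 (M := M) (p := p') hp hfp'
      exact TopologicalSpace.Opens.mem_iSup.2 ⟨⟨(s, t, m), ht0, hm⟩, hp, hs, ht⟩⟩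
    obtain ⟨g, hg, -⟩ := (modulesSpecToSheaf.obj (tilde (R := CommRingCat.of A) (ModuleCat.of A M))).existsUnique_gluing'
      W V (fun i => homOfLE (le_iSup W i)) le_rfl x fun i j => by
        show sres (inf_le_left : W i ⊓ W j ≤ W i) (x i) = sres (inf_le_right : W i ⊓ W j ≤ W j) (x j)
        have hi : W i ⊓ W j ≤ D (A := CommRingCat.of A) i.1.1 := inf_le_left.trans (inf_le_right.trans inf_le_left)
        have hj : W i ⊓ W j ≤ D (A := CommRingCat.of A) j.1.1 := inf_le_right.trans (inf_le_right.trans inf_le_left)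
        have ht : W i ⊓ W j ≤ D (A := CommRingCat.of A) i.1.2.1 := inf_le_left.trans (inf_le_right.trans inf_le_right)
        refine sub_eq_zero.1 (smul_inj hi (smul_inj hj (smul_inj ht ?_)))
        have ei := congrArg (sres (inf_le_left : W i ⊓ W j ≤ W i)) (hx i)
        have ej := congrArg (sres (inf_le_right : W i ⊓ W j ≤ W j)) (hx j)
        rw [map_smul, sres_sec] at ei ej
        rw [smul_sub (i.1.1), smul_sub (j.1.1), ei, ← mul_smul (j.1.1) (i.1.1), mul_comm, mul_smul, ej, ← map_smul,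
          ← map_smul, ← map_sub, ← map_smul]
        have hnull : j.1.1 • i.1.2.2 - i.1.1 • j.1.2.2 ∈ Null (f := f) (M := M) 𝔞 := LinearMap.mem_ker.2 (Subtype.ext (funext fun n => by
          show (toLim 𝔞 f (j.1.1 • i.1.2.2 - i.1.1 • j.1.2.2)).1 n = 0
          rw [toLim_apply, map_sub, map_sub, map_smul, map_smul, map_smul, map_smul, ← i.2.2 n, ← j.2.2 n, smul_comm,
            sub_self]))
        rw [i.2.1 _ hnull, map_zero]
    refine ⟨V, hVad, secHV M V g, fun n => ?_⟩
    show Formal2.HVres A (Q f M n) 0 hVU (y n) = Formal2.HVmap A (q f n) 0 V (secHV M V g)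
    rw [← hz, HVres_secHV, HVmap_secHV]
    refine congrArg _ (sub_eq_zero.1 (eq_zero_of_local _ fun p hp => ?_))
    obtain ⟨i, hi⟩ := TopologicalSpace.Opens.mem_iSup.1 hp
    refine ⟨W i, le_iSup W i, hi, smul_inj (W := W i) (s := i.1.1) (inf_le_right.trans inf_le_left) ?_⟩
    have hgi : sres (le_iSup W i) g = x i := hg i
    rw [map_sub, smul_sub, sres_sres, ← smap_sres, hgi, ← map_smul, ← map_smul, i.2.2 n, hx i, sres_sec, smap_sec,
      sub_self]

end Limit

end Groth.Agent.LefAlgz.ColimSec
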