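import Groth.Agent.LefAlgz.StabCrit

/-!
# From annihilators of local cohomology to the hypotheses of algebraization
-/

noncomputable section

set_option autoImplicit false
set_option linter.style.haveILetI false
set_option backward.isDefEq.respectTransparency false
set_option backward.isDefEq.respectTransparency.types false

universe u

open CategoryTheory Limits IsLocalRing

namespace Groth.Agent.LefAlgz

open Groth.Agent

variable {R : Type u} [CommRing R]

/-- Submodules of first cohomology of finite modules killed by a power of `I` are finite. -/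
def CofinOne (I : Ideal R) : Prop :=
  ∀ (M : Type u) [AddCommGroup M] [Module R M] [Module.Finite R M] (P : Submodule R (LocCoh.H I 1 M)) (n : ℕ),
    (∀ a ∈ I ^ n, ∀ z ∈ P, a • z = 0) → Module.Finite R P

/-- The annihilators of the first three local cohomology modules, with `f`, generate `I` up to radical. -/
def AnnCond (I : Ideal R) (f : R) : Prop :=
  (∀ i, i ≤ 2 → I ≤ (Module.annihilator R (LocCoh.H I i R) ⊔ Ideal.span {f}).radical) ∧
    ∃ d, I ≤ Ideal.radical (Submodule.comap (LinearMap.lsmul R R (f ^ d))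
      (Module.annihilator R (LocCoh.H I 3 R)) ⊔ Ideal.span {f})

theorem AnnCond.pow {I : Ideal R} {f : R} (h : AnnCond I f) {N : ℕ} (hN : 1 ≤ N) : AnnCond I (f ^ N) := by
  have key : ∀ J J' : Ideal R, J ≤ J' → (J ⊔ Ideal.span {f}).radical ≤ (J' ⊔ Ideal.span {f ^ N}).radical := by
    intro J J' hJ
    rw [Ideal.radical_le_radical_iff]
    refine sup_le ((le_sup_left.trans' hJ).trans Ideal.le_radical) ((Ideal.span_singleton_le_iff_mem _).2 ?_)
    exact ⟨N, Ideal.mem_sup_right (Ideal.mem_span_singleton_self _)⟩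
  refine ⟨fun i hi => (h.1 i hi).trans (key _ _ le_rfl), ?_⟩
  obtain ⟨d, hd⟩ := h.2
  refine ⟨d, hd.trans (key _ _ fun a ha => ?_)⟩
  obtain ⟨e, he⟩ := Nat.exists_eq_add_of_le (Nat.le_mul_of_pos_left d hN)
  show (f ^ N) ^ d * a ∈ Module.annihilator R _
  rw [← pow_mul, he, pow_add, mul_comm (f ^ d), mul_assoc]
  exact Ideal.mul_mem_left _ _ ha

variable [IsNoetherianRing R] {I : Ideal R} {f : R}

/-- Multiplication by a power of a regular element, and its cokernel. -/
abbrev mulSeq (f : R) (k : ℕ) : ShortComplex (ModuleCat.{u} R) :=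
  ShortComplex.mk (ModuleCat.ofHom (f ^ k • LinearMap.id : R →ₗ[R] R))
    (ModuleCat.ofHom (Submodule.mkQ (Ideal.span {f ^ k})))
    (ModuleCat.hom_ext (LinearMap.ext fun x => (Submodule.Quotient.mk_eq_zero _).2
      (Ideal.mem_span_singleton.2 (Dvd.intro x rfl))))

omit [IsNoetherianRing R] in
theorem mulSeq_shortExact (hf : f ∈ nonZeroDivisors R) (k : ℕ) : (mulSeq f k).ShortExact :=
  { exact := (ShortComplex.ShortExact.moduleCat_exact_iff_function_exact _).2 fun x => by
      show Submodule.mkQ (Ideal.span {f ^ k}) x = 0 ↔ x ∈ Set.range fun y : R => f ^ k • y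
      rw [Submodule.mkQ_apply, Submodule.Quotient.mk_eq_zero, Ideal.mem_span_singleton']
      exact ⟨fun ⟨a, ha⟩ => ⟨a, (mul_comm _ _).trans ha⟩, fun ⟨a, ha⟩ => ⟨a, (mul_comm _ _).trans ha⟩⟩
    mono_f := (ModuleCat.mono_iff_injective _).2 fun x y h => by
      have h' : f ^ k * x = f ^ k * y := h
      exact (mul_cancel_left_mem_nonZeroDivisors (pow_mem hf k)).1 h'
    epi_g := (ModuleCat.epi_iff_surjective _).2 (Submodule.mkQ_surjective _) }

omit [IsNoetherianRing R] in
theorem smul_H_eq_zero {M : Type u} [AddCommGroup M] [Module R M] {c : R} (hc : ∀ x : M, c • x = 0) (j : ℕ)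
    (z : LocCoh.H I j M) : c • z = 0 := by
  obtain ⟨n, x, rfl⟩ := LC.exists_toH I j z
  rw [← map_smul, Abelian.Ext.smul_eq_comp_mk₀, show c • 𝟙 (ModuleCat.of R M) = 0 from
    ModuleCat.hom_ext (LinearMap.ext hc), Abelian.Ext.mk₀_zero, Abelian.Ext.comp_zero, map_zero]

theorem smul_quot_eq_zero (k : ℕ) (x : R ⧸ Ideal.span {f ^ k}) : f ^ k • x = 0 := by
  obtain ⟨x, rfl⟩ := Submodule.mkQ_surjective _ x
  rw [← map_smul, Submodule.mkQ_apply, Submodule.Quotient.mk_eq_zero]
  exact Ideal.mem_span_singleton.2 (Dvd.intro x rfl)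

omit [IsNoetherianRing R] in
theorem smul_quot_f (x : R ⧸ Ideal.span {f}) : f • x = 0 := by
  obtain ⟨x, rfl⟩ := Submodule.mkQ_surjective _ x
  rw [← map_smul, Submodule.mkQ_apply, Submodule.Quotient.mk_eq_zero]
  exact Ideal.mem_span_singleton.2 (Dvd.intro x rfl)

/-- The first local cohomology of the quotient is finite. -/
theorem finH_one_quot (hf : f ∈ nonZeroDivisors R) (h : AnnCond I f) (hC : CofinOne I) :
    FinH I 1 (R ⧸ Ideal.span {f}) := by
  obtain ⟨r, g, hg⟩ := Submodule.fg_iff_exists_fin_generating_family.1 (IsNoetherian.noetherian I)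
  have hg' : Ideal.span (Set.range g) = I := hg
  have hS := mulSeq_shortExact (f := f) hf 1
  have hkill : ∀ l, ∃ K, ∀ z ∈ (⊤ : Submodule R (LocCoh.H I 1 (R ⧸ Ideal.span {f ^ 1}))), g l ^ K • z = 0 := by
    intro l
    have hgl : g l ∈ I := hg' ▸ Ideal.subset_span ⟨l, rfl⟩
    obtain ⟨K₁, h₁⟩ := h.1 1 (by norm_num) hgl
    obtain ⟨K₂, h₂⟩ := h.1 2 le_rfl hgl
    obtain ⟨u₁, hu₁, v₁, hv₁, e₁⟩ := Submodule.mem_sup.1 h₁
    obtain ⟨u₂, hu₂, v₂, hv₂, e₂⟩ := Submodule.mem_sup.1 h₂
    obtain ⟨b₁, rfl⟩ := Ideal.mem_span_singleton'.1 hv₁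
    obtain ⟨b₂, rfl⟩ := Ideal.mem_span_singleton'.1 hv₂
    have hz0 : ∀ z : LocCoh.H I 1 (R ⧸ Ideal.span {f ^ 1}), f • z = 0 := fun z =>
      smul_H_eq_zero (fun x => by simpa using smul_quot_eq_zero (f := f) 1 x) 1 z
    refine ⟨K₁ + K₂, fun z _ => ?_⟩
    have hδ : LC.δH I 1 hS 2 rfl (g l ^ K₂ • z) = 0 := by
      rw [← e₂, add_smul, map_add, map_smul, mul_smul, hz0, smul_zero, map_zero, add_zero]
      exact Module.mem_annihilator.1 hu₂ _
    obtain ⟨w, hw⟩ := (LC.exact₃ I 1 hS 2 rfl _).1 hδ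
    rw [pow_add, mul_smul, ← hw, ← e₁, add_smul, mul_smul]
    erw [hz0 (((localCohomology I 1).map (mulSeq f 1).g).hom w)]
    rw [smul_zero, add_zero, ← map_smul]
    erw [Module.mem_annihilator.1 hu₁ w]
    rw [map_zero]
  obtain ⟨n, hn⟩ := exists_pow_kill_of_gens hg' _ hkill
  haveI := hC (R ⧸ Ideal.span {f ^ 1}) ⊤ n hn
  have h1 : FinH I 1 (R ⧸ Ideal.span {f ^ 1}) := Module.Finite.equiv Submodule.topEquiv
  rwa [pow_one] at h1

/-- Reduction kills second cohomology up to powers. -/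
theorem exists_imgKill (hf : f ∈ nonZeroDivisors R) (h : AnnCond I f) : ∃ c, ImgKill I f c := by
  obtain ⟨d, hd⟩ := h.2
  refine ⟨d, fun a ha => ?_⟩
  obtain ⟨K, hK⟩ := hd ha
  obtain ⟨K₂, h₂⟩ := h.1 2 le_rfl ha
  obtain ⟨u₁, hu₁, v₁, hv₁, e₁⟩ := Submodule.mem_sup.1 hK
  obtain ⟨u₂, hu₂, v₂, hv₂, e₂⟩ := Submodule.mem_sup.1 h₂
  obtain ⟨b₁, rfl⟩ := Ideal.mem_span_singleton'.1 hv₁
  obtain ⟨b₂, rfl⟩ := Ideal.mem_span_singleton'.1 hv₂
  have hS := mulSeq_shortExact (f := f) hf (d + 1)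
  -- the target, presented with the same regular element
  let S1 : ShortComplex (ModuleCat.{u} R) :=
    ShortComplex.mk (ModuleCat.ofHom (f • LinearMap.id : R →ₗ[R] R)) (ModuleCat.ofHom (Submodule.mkQ (Ideal.span {f})))
      (ModuleCat.hom_ext (LinearMap.ext fun x => (Submodule.Quotient.mk_eq_zero _).2
        (Ideal.mem_span_singleton.2 (Dvd.intro x rfl))))
  have hS1 : S1.ShortExact :=
    { exact := (ShortComplex.ShortExact.moduleCat_exact_iff_function_exact _).2 fun x => by
        show Submodule.mkQ (Ideal.span {f}) x = 0 ↔ x ∈ Set.range fun y : R => f • y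
        rw [Submodule.mkQ_apply, Submodule.Quotient.mk_eq_zero, Ideal.mem_span_singleton']
        exact ⟨fun ⟨a, ha⟩ => ⟨a, (mul_comm _ _).trans ha⟩, fun ⟨a, ha⟩ => ⟨a, (mul_comm _ _).trans ha⟩⟩
      mono_f := (ModuleCat.mono_iff_injective _).2 fun x y hxy => by
        have h' : f * x = f * y := hxy
        exact (mul_cancel_left_mem_nonZeroDivisors hf).1 h'
      epi_g := (ModuleCat.epi_iff_surjective _).2 (Submodule.mkQ_surjective _) }
  let φ : mulSeq f (d + 1) ⟶ S1 :=
    ShortComplex.homMk (f ^ d • 𝟙 (ModuleCat.of R R)) (𝟙 _) (ModuleCat.ofHom (redA f d))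
      (ModuleCat.hom_ext (LinearMap.ext fun x => by
        show f • f ^ d • x = f ^ (d + 1) • x
        rw [smul_smul, ← pow_succ']))
      (ModuleCat.hom_ext (LinearMap.ext fun x => rfl))
  refine ⟨K₂ + K, fun z => ?_⟩
  let z' := ((localCohomology I 2).map (ModuleCat.ofHom (redA f d))).hom z
  have hδ1 : LC.δH I 2 hS1 3 rfl z' = f ^ d • LC.δH I 2 hS 3 rfl z :=
    (δH_natural I hS hS1 φ 2 3 rfl z).trans (LC.map_smul_id I 3 _ _ _)
  have hker : f ^ (d + 1) • LC.δH I 2 hS 3 rfl z = 0 := by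
    rw [← LC.map_smul_id I 3 (ModuleCat.of R R) (f ^ (d + 1))]
    exact (LC.exact₁ I 2 hS 3 rfl (LC.δH I 2 hS 3 rfl z)).2 ⟨z, rfl⟩
  have hδ : LC.δH I 2 hS1 3 rfl (a ^ K • z') = 0 := by
    rw [map_smul, hδ1, smul_smul, ← e₁, add_mul, add_smul, show b₁ * f * f ^ d = b₁ * f ^ (d + 1) by ring,
      mul_smul b₁, hker, smul_zero, add_zero, mul_comm]
    exact Module.mem_annihilator.1 hu₁ _
  obtain ⟨w, hw⟩ := (LC.exact₃ I 2 hS1 3 rfl _).1 hδ
  show a ^ (K₂ + K) • z' = 0
  rw [pow_add, mul_smul, ← hw, ← e₂, add_smul, mul_smul]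
  erw [smul_H_eq_zero (smul_quot_f (f := f)) 2
    (((localCohomology I 2).map S1.g).hom w)]
  erw [smul_zero, add_zero, ← map_smul]
  erw [Module.mem_annihilator.1 hu₂ w]
  rw [map_zero]

/-! ### Change of rings from a local ring -/

section Transfer

variable {A : Type u} [CommRing A] [IsNoetherianRing A] [IsLocalRing A] [Algebra A R] [Module.Finite A R]

theorem finite_of_kill_transfer (i : ℕ) (M : Type u) [AddCommGroup M] [Module R M] [Module.Finite R M]
    (P : Submodule R (LocCoh.H ((maximalIdeal A).map (algebraMap A R)) i M)) (n : ℕ)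
    (h : ∀ a ∈ (maximalIdeal A).map (algebraMap A R) ^ n, ∀ z ∈ P, a • z = 0) : Module.Finite R P := by
  letI : Module A M := Module.compHom M (algebraMap A R)
  haveI : IsScalarTower A R M := IsScalarTower.of_algebraMap_smul fun _ _ => rfl
  haveI : Module.Finite A M := Module.Finite.trans R M
  obtain ⟨φ, hφ⟩ := LC.exists_indep (R' := R) (maximalIdeal A) i M
  let H := (localCohomology (maximalIdeal A) i).obj (ModuleCat.of A M)
  haveI : IsArtinian A H := LC.isArtinian_H i M
  let Q : Submodule A H :=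
    { carrier := φ '' (P : Set _)
      zero_mem' := ⟨0, zero_mem _, map_zero φ⟩
      add_mem' := by
        rintro _ _ ⟨x, hx, rfl⟩ ⟨y, hy, rfl⟩
        exact ⟨x + y, add_mem hx hy, map_add φ x y⟩
      smul_mem' := by
        rintro a _ ⟨x, hx, rfl⟩
        exact ⟨algebraMap A R a • x, P.smul_mem _ hx, hφ a x⟩ }
  haveI : Ring.KrullDimLE 0 (A ⧸ maximalIdeal A ^ (n + 1)) := by
    refine Ring.KrullDimLE.mk₀ fun p hp => ?_
    haveI := hp
    have hm : maximalIdeal A ≤ p.comap (Ideal.Quotient.mk (maximalIdeal A ^ (n + 1))) := fun a ha => by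
      refine hp.mem_of_pow_mem (n + 1) ?_
      rw [← map_pow, Ideal.Quotient.eq_zero_iff_mem.2 (Ideal.pow_mem_pow ha _)]
      exact zero_mem p
    haveI : (p.comap (Ideal.Quotient.mk (maximalIdeal A ^ (n + 1)))).IsMaximal :=
      (maximalIdeal.isMaximal A).eq_of_le (Ideal.IsPrime.ne_top inferInstance) hm ▸ maximalIdeal.isMaximal A
    rw [← Ideal.map_comap_of_surjective _ Ideal.Quotient.mk_surjective p]
    refine (Ideal.map_eq_top_or_isMaximal_of_surjective _ Ideal.Quotient.mk_surjective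
      (inferInstance : (p.comap (Ideal.Quotient.mk (maximalIdeal A ^ (n + 1)))).IsMaximal)).resolve_left fun ht => hp.ne_top ?_
    rwa [Ideal.map_comap_of_surjective _ Ideal.Quotient.mk_surjective] at ht
  haveI : IsArtinianRing (A ⧸ maximalIdeal A ^ (n + 1)) := IsNoetherianRing.isArtinianRing_of_krullDimLE_zero
  haveI : Module.Finite A Q := LC.finite_of_kill (maximalIdeal A ^ (n + 1)) Q fun a ha z => Subtype.ext (by
    obtain ⟨x, hx, hxz⟩ := z.2
    show a • (z : H) = 0
    rw [← hxz, ← hφ, h _ (by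
      rw [← Ideal.map_pow]
      exact Ideal.mem_map_of_mem _ (Ideal.pow_le_pow_right (Nat.le_succ n) ha)) x hx, map_zero])
  obtain ⟨m, v, hv⟩ := Module.Finite.exists_fin (R := A) (M := Q)
  choose x hx hxv using fun i => (v i).2
  refine Module.Finite.iff_fg.2 (Submodule.fg_def.2 ⟨Set.range x, Set.finite_range x,
    le_antisymm (Submodule.span_le.2 ?_) fun y hy => ?_⟩)
  · rintro _ ⟨i, rfl⟩
    exact hx i
  · have hmem : (⟨φ y, y, hy, rfl⟩ : Q) ∈ Submodule.span A (Set.range v) := hv ▸ Submodule.mem_top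
    obtain ⟨α, hα⟩ := (Submodule.mem_span_range_iff_exists_fun A).1 hmem
    have : y = ∑ i, algebraMap A R (α i) • x i := φ.injective (by
      rw [map_sum]
      simp only [hφ, hxv]
      simpa using (congrArg Subtype.val hα).symm)
    rw [this]
    exact Submodule.sum_mem _ fun i _ => Submodule.smul_mem _ _ (Submodule.subset_span ⟨i, rfl⟩)

theorem cofinOne_map : CofinOne ((maximalIdeal A).map (algebraMap A R)) :=
  fun M _ _ _ P n h => finite_of_kill_transfer 1 M P n h

theorem cofinTwo_map : CofinTwo ((maximalIdeal A).map (algebraMap A R)) :=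
  fun M _ _ _ P n h => finite_of_kill_transfer 2 M P n h

theorem annCond_map {f : A}
    (h : (∀ i, i ≤ 2 → maximalIdeal A ≤ (Module.annihilator A (LocCoh.H (maximalIdeal A) i R) ⊔
        Ideal.span {f}).radical) ∧
      ∃ d, maximalIdeal A ≤ Ideal.radical (Submodule.comap (LinearMap.lsmul A A (f ^ d))
        (Module.annihilator A (LocCoh.H (maximalIdeal A) 3 R)) ⊔ Ideal.span {f})) :
    AnnCond ((maximalIdeal A).map (algebraMap A R)) (algebraMap A R f) := by
  have hann : ∀ i, ∀ u ∈ Module.annihilator A (LocCoh.H (maximalIdeal A) i R),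
      algebraMap A R u ∈ Module.annihilator R (LocCoh.H ((maximalIdeal A).map (algebraMap A R)) i R) := by
    intro i u hu
    obtain ⟨φ, hφ⟩ := LC.exists_indep (R' := R) (maximalIdeal A) i R
    exact Module.mem_annihilator.2 fun z => φ.injective (by rw [hφ, map_zero]; exact Module.mem_annihilator.1 hu _)
  have key : ∀ (J : Ideal A) (J' : Ideal R), (∀ u ∈ J, algebraMap A R u ∈ J') →
      maximalIdeal A ≤ (J ⊔ Ideal.span {f}).radical →
      (maximalIdeal A).map (algebraMap A R) ≤ (J' ⊔ Ideal.span {algebraMap A R f}).radical := by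
    intro J J' hJ hm
    refine (Ideal.map_mono hm).trans ((Ideal.map_radical_le _).trans (Ideal.radical_mono ?_))
    rw [Ideal.map_sup, Ideal.map_span, Set.image_singleton]
    exact sup_le_sup_right (Ideal.map_le_iff_le_comap.2 fun u hu => hJ u hu) _
  refine ⟨fun i hi => key _ _ (hann i) (h.1 i hi), ?_⟩
  obtain ⟨d, hd⟩ := h.2
  refine ⟨d, key _ _ (fun u hu => ?_) hd⟩
  show algebraMap A R f ^ d * algebraMap A R u ∈ Module.annihilator R _
  rw [← map_pow, ← map_mul]
  exact hann 3 _ hu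

end Transfer

end Groth.Agent.LefAlgz
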