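import Groth.Agent.LefAlgz.DualKill
import Groth.Agent.LefAlgz.LCKill

/-!
# The annihilator condition for the ring itself under depth conditions
-/

noncomputable section

set_option autoImplicit false
set_option linter.style.haveILetI false
set_option backward.isDefEq.respectTransparency false
set_option backward.isDefEq.respectTransparency.types false

universe u

open CategoryTheory IsLocalRing
attribute [local instance] HasDerivedCategory.standard

namespace Groth.Agent.LefAlgz

open Groth.Agent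

variable {A : Type u} [CommRing A] [IsNoetherianRing A] [IsLocalRing A] {ω : Dual.D A} {f : A}

/-- Depth modulo a regular element. -/
theorem depth_quot_span_add_one (hnz : f ∈ nonZeroDivisors A) (p : Ideal A) [p.IsPrime] (hfp : f ∈ p) :
    LocCoh.depth (Localization.AtPrime p) (LocalizedModule p.primeCompl (A ⧸ Ideal.span {f})) + 1 =
      LocCoh.depth (Localization.AtPrime p) (Localization.AtPrime p) := by
  have hreg : IsSMulRegular A f := fun x y h => by
    have h' : f * x = f * y := h
    exact (mul_cancel_left_mem_nonZeroDivisors hnz).1 h'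
  let e : QuotSMulTop f A ≃ₗ[A] A ⧸ Ideal.span {f} := Submodule.quotEquivOfEq _ _ (by
    ext x
    rw [Submodule.mem_smul_pointwise_iff_exists, Ideal.mem_span_singleton']
    exact ⟨fun ⟨y, _, hy⟩ => ⟨y, (mul_comm y f).trans hy⟩,
      fun ⟨y, hy⟩ => ⟨y, Submodule.mem_top, (mul_comm f y).trans hy⟩⟩)
  rw [← LC.depth_localized_congr (M := QuotSMulTop f A) p (LinearEquiv.ofBijective (LocalizedModule.map p.primeCompl e.toLinearMap)
      ⟨LocalizedModule.map_injective _ _ e.injective, LocalizedModule.map_surjective _ _ e.surjective⟩), LC.depth_localized_quot_add_one (M := A) p hfp hreg,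
    FlatLoc6.depth_self_atPrime p]

/-- The annihilators of the first three local cohomology modules of the ring. -/
theorem killCond_self (hω : Dual.IsDualizing A ω) (hstar : DepthStar f)
    (hnear : ∀ (p : Ideal A) [p.IsPrime], f ∈ p → p ≠ maximalIdeal A → (2 : WithBot ℕ∞) <
      (LocCoh.depth (Localization.AtPrime p) (Localization.AtPrime p) : WithBot ℕ∞) + ringKrullDim (A ⧸ p)) :
    AnnCond (maximalIdeal A) f := by
  obtain ⟨ω', hω', hN⟩ := H9Lef.exists_normalized hω
  obtain ⟨a, b, -, hGE, -⟩ := KFlatLib.exists_bounds_of_isDualizing hω'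
  haveI := hGE
  haveI hfin : ∀ i : ℕ, Module.Finite A (Dual.inD A A ⟶ ω'⟦(-(i : ℤ))⟧) := fun i =>
    KFlatLib.finite_hom_module ω' a hω'.finite_cohomology A _
  have hsupp : ∀ (i : ℕ) (q : Ideal A) (hq : q.IsPrime),
      Module.annihilator A (Dual.inD A A ⟶ ω'⟦(-(i : ℤ))⟧) ≤ q →
      (LocCoh.depth (Localization.AtPrime q) (Localization.AtPrime q) : WithBot ℕ∞) +
        ringKrullDim (A ⧸ q) ≤ (i : WithBot ℕ∞) := fun i q hq hle => by
    rw [← FlatLoc6.depth_self_atPrime q]
    refine (S1712.result A ω' hω' hN A i ⟨q, hq⟩).1 ⟨i, le_rfl, ?_⟩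
    rw [Module.support_eq_zeroLocus]
    exact hle
  refine ⟨fun i hi => maximalIdeal_le_radical fun q hq hle => ?_, ?_⟩
  · rw [← S1713.result A ω' hω' hN A i] at hle
    by_contra hne
    have h1 := hsupp i q hq ((le_sup_left).trans hle)
    haveI := hq
    have h2 := hnear q ((le_sup_right.trans hle) (Ideal.mem_span_singleton_self f)) hne
    exact absurd (lt_of_lt_of_le h2 h1) (not_lt.2 (by exact_mod_cast hi))
  obtain ⟨d, hd⟩ := exists_torsion_exponent' f (Dual.inD A A ⟶ ω'⟦(-((3 : ℕ) : ℤ))⟧)
  refine ⟨d, maximalIdeal_le_radical fun q hq hle => ?_⟩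
  rw [← S1713.result A ω' hω' hN A 3] at hle
  by_contra hne
  have hfq : f ∈ q := (le_sup_right.trans hle) (Ideal.mem_span_singleton_self f)
  let E' : Submodule A (Dual.inD A A ⟶ ω'⟦(-((3 : ℕ) : ℤ))⟧) := LinearMap.range (f ^ d • (LinearMap.id : (Dual.inD A A ⟶ ω'⟦(-((3 : ℕ) : ℤ))⟧) →ₗ[A] (Dual.inD A A ⟶ ω'⟦(-((3 : ℕ) : ℤ))⟧)))
  have hE' : Module.annihilator A E' ≤ q := fun a ha => hle (Submodule.mem_sup_left (by
    show f ^ d * a ∈ Module.annihilator A (Dual.inD A A ⟶ ω'⟦(-((3 : ℕ) : ℤ))⟧)
    refine Module.mem_annihilator.2 fun x => ?_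
    rw [mul_comm, mul_smul]
    exact congrArg Subtype.val (Module.mem_annihilator.1 ha ⟨f ^ d • x, x, rfl⟩)))
  haveI : Module.Finite A E' := Module.Finite.range _
  obtain ⟨P, hP, hPq⟩ := Ideal.exists_minimalPrimes_le hE'
  have hPass := Module.associatedPrimes.minimalPrimes_annihilator_subset_associatedPrimes A E' hP
  haveI := hP.1.1
  have hfP : f ∉ P := fun hf' => by
    obtain ⟨hpp, x, hx⟩ := Alg6.mem_ass_iff.1 hPass
    obtain ⟨y, hy⟩ := x.2
    refine hpp.ne_top ((Ideal.eq_top_iff_one P).2 ((hx 1).2 ?_))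
    have h0 : f ^ d • y = 0 := hd (d + 1) y (by
      rw [pow_succ', mul_smul]
      have := congrArg Subtype.val ((hx f).1 hf')
      rwa [Submodule.coe_smul, ← hy] at this)
    rw [one_smul]
    exact Subtype.ext (hy.symm.trans h0)
  have hann : Module.annihilator A (Dual.inD A A ⟶ ω'⟦(-((3 : ℕ) : ℤ))⟧) ≤ P := fun a ha =>
    hP.1.2 (Module.mem_annihilator.2 fun x => Subtype.ext (Module.mem_annihilator.1 ha x.1))
  have h1 := hsupp 3 P hP.1.1 hann
  exact absurd (lt_of_lt_of_le (hstar P hfP ⟨q, hq, hPq, hfq, hne⟩) h1) (lt_irrefl _)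

/-- Submodules of local cohomology at the closed point killed by a power of the maximal ideal are finite. -/
theorem cofin_self : CofinOne (maximalIdeal A) ∧ CofinTwo (maximalIdeal A) := by
  have h1 := cofinOne_map (A := A) (R := A)
  have h2 := cofinTwo_map (A := A) (R := A)
  rw [show (maximalIdeal A).map (algebraMap A A) = maximalIdeal A from Ideal.map_id _] at h1 h2
  exact ⟨h1, h2⟩

end Groth.Agent.LefAlgz
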