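import Groth.Agent.H9Lef.SecLC
import Groth.Agent.LC.CohCech
import Mathlib.Algebra.Module.FinitePresentation
import Mathlib.RingTheory.LocalProperties.Projective

/-!
# Finiteness of the first two cohomology modules of a vector bundle on a punctured spectrum

A module which is locally a direct summand of a power of `R₀` inherits finiteness of `H^1` and `H^2` from `R₀`;
this bounds the first two cohomology groups of a Čech complex computing its sections.
-/

noncomputable section

set_option autoImplicit false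
set_option linter.style.haveILetI false

universe u

open CategoryTheory Limits

namespace Groth.Agent.LefAlgz

open Groth.Agent

variable {A : Type u} [CommRing A] (I : Ideal A)

/-- Local cohomology in degree `i` is finite. -/
def FinH (i : ℕ) (M : Type u) [AddCommGroup M] [Module A M] : Prop :=
  Module.Finite A (LocCoh.H I i M)

/-- Near every `D(g i)` the module is a direct summand of a power of `R₀`. -/
def Split {r : ℕ} (g : Fin r → A) (R₀ : Type u) [AddCommGroup R₀] [Module A R₀] (M : Type u) [AddCommGroup M]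
    [Module A M] : Prop :=
  ∀ i, ∃ (p k : ℕ) (a : M →ₗ[A] (Fin p → R₀)) (b : (Fin p → R₀) →ₗ[A] M), ∀ x, b (a x) = g i ^ k • x

variable [IsNoetherianRing A] {I}

theorem finite_of_exact {P Q R : Type u} [AddCommGroup P] [Module A P] [AddCommGroup Q] [Module A Q]
    [AddCommGroup R] [Module A R] {φ : P →ₗ[A] Q} {ψ : Q →ₗ[A] R} (h : Function.Exact φ ψ)
    (hP : Module.Finite A P) (hR : Module.Finite A R) : Module.Finite A Q := by
  haveI : IsNoetherian A P := isNoetherian_of_isNoetherianRing_of_finite A P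
  haveI : IsNoetherian A R := isNoetherian_of_isNoetherianRing_of_finite A R
  haveI : IsNoetherian A Q := isNoetherian_of_range_eq_ker φ ψ h.linearMap_ker_eq.symm
  infer_instance

theorem finite_of_inj {P Q : Type u} [AddCommGroup P] [Module A P] [AddCommGroup Q] [Module A Q]
    (φ : P →ₗ[A] Q) (h : Function.Injective φ) (hQ : Module.Finite A Q) : Module.Finite A P := by
  haveI : IsNoetherian A Q := isNoetherian_of_isNoetherianRing_of_finite A Q
  exact Module.Finite.of_injective φ h

theorem isPowerTorsion_of_forall {r : ℕ} {g : Fin r → A} (hg : Ideal.span (Set.range g) = I) {M : Type u}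
    [AddCommGroup M] [Module A M] (h : ∀ (z : M) (l : Fin r), ∃ K, g l ^ K • z = 0) :
    LocCoh.IsPowerTorsion I M := by
  intro z
  choose K hK using h z
  obtain ⟨n, hn⟩ := H9Lef.exists_pow_le_span hg (Finset.univ.sup K)
  refine ⟨n, fun a ha => ?_⟩
  have key : ∀ c ∈ Ideal.span (Set.range fun j => g j ^ Finset.univ.sup K), c • z = 0 := fun c hc => by
    induction hc using Submodule.span_induction with
    | mem c hc' =>
      obtain ⟨j, rfl⟩ := hc'
      obtain ⟨d, hd⟩ := Nat.exists_eq_add_of_le (Finset.le_sup (f := K) (Finset.mem_univ j))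
      show g j ^ Finset.univ.sup K • z = 0
      rw [hd, add_comm, pow_add, mul_smul, hK, smul_zero]
    | zero => rw [zero_smul]
    | add _ _ _ _ h h' => rw [add_smul, h, h', add_zero]
    | smul _ _ _ h => rw [smul_assoc, h, smul_zero]
  exact key a (hn ha)

theorem finite_of_torsion {M : Type u} [AddCommGroup M] [Module A M] (h : LocCoh.IsPowerTorsion I M)
    (h0 : FinH I 0 M) : Module.Finite A M := by
  haveI : Module.Finite A (LocCoh.H I 0 M) := h0
  let e := LC.H0Equiv I (ModuleCat.of A M)
  refine Module.Finite.of_surjective ((DRing.torsionSub I (ModuleCat.of A M)).subtype ∘ₗ e.toLinearMap) fun z => ?_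
  exact ⟨e.symm ⟨z, h z⟩, by simp⟩

theorem finH_zero {M : Type u} [AddCommGroup M] [Module A M] [Module.Finite A M] : FinH I 0 M :=
  finite_of_inj ((DRing.torsionSub I (ModuleCat.of A M)).subtype ∘ₗ (LC.H0Equiv I (ModuleCat.of A M)).toLinearMap)
    (Subtype.val_injective.comp (LC.H0Equiv I (ModuleCat.of A M)).injective) ‹_›

omit [IsNoetherianRing A] in
/-- Cohomology of a finite product comes from the factors. -/
theorem exists_sum_map {ι : Type} [Fintype ι] [DecidableEq ι] (L : ι → Type u) [∀ i, AddCommGroup (L i)]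
    [∀ i, Module A (L i)] (j : ℕ) (z : (localCohomology I j).obj (ModuleCat.of A (∀ i, L i))) :
    ∃ w : ∀ i, (localCohomology I j).obj (ModuleCat.of A (L i)),
      z = ∑ i, ((localCohomology I j).map (ModuleCat.ofHom (LinearMap.single A L i))).hom (w i) := by
  obtain ⟨n, x, rfl⟩ := LC.exists_toH I j z
  refine ⟨fun i => LC.toH I j (ModuleCat.of A (L i)) n
    (x.comp (Abelian.Ext.mk₀ (ModuleCat.ofHom (LinearMap.proj i))) (add_zero j)), ?_⟩
  simp only [LC.toH_natural, ← map_sum, Abelian.Ext.comp_assoc_of_second_deg_zero, Abelian.Ext.mk₀_comp_mk₀]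
  congr 1
  rw [← Abelian.Ext.comp_sum]
  have h : (∑ i, ModuleCat.ofHom (LinearMap.proj (R := A) (φ := L) i) ≫ ModuleCat.ofHom (LinearMap.single A L i))
      = 𝟙 (ModuleCat.of A (∀ i, L i)) := by
    refine ModuleCat.hom_ext (LinearMap.ext fun v => funext fun k => ?_)
    simp [ModuleCat.hom_sum]
  conv_lhs => rw [← Abelian.Ext.comp_mk₀_id x, ← h, Abelian.Ext.mk₀_sum]

theorem subsingleton_pi {ι : Type} [Fintype ι] [DecidableEq ι] (L : ι → Type u) [∀ i, AddCommGroup (L i)]
    [∀ i, Module A (L i)] (c : ι → A) (hc : ∀ i, c i ∈ I) (hb : ∀ i, Function.Bijective fun y : L i => c i • y)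
    (j : ℕ) : Subsingleton (LocCoh.H I j (∀ i, L i)) := by
  refine subsingleton_of_forall_eq 0 fun z => ?_
  obtain ⟨w, rfl⟩ := exists_sum_map L j z
  refine Finset.sum_eq_zero fun i _ => ?_
  have hw : w i = 0 := by
    obtain ⟨n, hn⟩ := LC.isPowerTorsion_obj I j (ModuleCat.of A (L i)) (w i)
    have hbi := LC.smul_bijective_obj I j (ModuleCat.of A (L i)) (c i ^ n) (by
      clear hn
      induction n with
      | zero =>
        simp only [pow_zero, one_smul]
        exact Function.bijective_id
      | succ n ih => simpa [pow_succ, mul_smul, Function.comp_def] using ih.comp (hb i))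
    exact hbi.1 ((hn _ (Ideal.pow_mem_pow (hc i) n)).trans (smul_zero (c i ^ n)).symm)
  rw [hw, map_zero]

theorem finH_pi {R₀ : Type u} [AddCommGroup R₀] [Module A R₀] (p j : ℕ) (h : FinH I j R₀) :
    FinH I j (Fin p → R₀) := by
  haveI : Module.Finite A (LocCoh.H I j R₀) := h
  refine Module.Finite.of_surjective (LinearMap.lsum A (fun _ : Fin p => LocCoh.H I j R₀) A fun i =>
    ((localCohomology I j).map (ModuleCat.ofHom (LinearMap.single A (fun _ : Fin p => R₀) i))).hom) fun z => ?_
  obtain ⟨w, rfl⟩ := exists_sum_map (fun _ : Fin p => R₀) j z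
  exact ⟨w, by simp⟩

variable {r : ℕ} {g : Fin r → A} (hg : Ideal.span (Set.range g) = I) {R₀ : Type u} [AddCommGroup R₀] [Module A R₀]

include hg in
/-- A split module maps to a power of `R₀`, with torsion kernel and split cokernel. -/
theorem Split.exists_map {M : Type u} [AddCommGroup M] [Module A M] (hM : Split g R₀ M) :
    ∃ (q : ℕ) (a : M →ₗ[A] (Fin q → R₀)), LocCoh.IsPowerTorsion I (LinearMap.ker a) ∧
      Split g R₀ ((Fin q → R₀) ⧸ LinearMap.range a) := by
  classical
  choose p k α β h using hM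
  let e : Fin (Fintype.card (Σ i, Fin (p i))) ≃ Σ i, Fin (p i) := (Fintype.equivFin _).symm
  let a : M →ₗ[A] (Fin (Fintype.card (Σ i, Fin (p i))) → R₀) :=
    LinearMap.pi fun c => LinearMap.proj (e c).2 ∘ₗ α (e c).1
  let pr : ∀ i, (Fin (Fintype.card (Σ i, Fin (p i))) → R₀) →ₗ[A] (Fin (p i) → R₀) := fun i =>
    LinearMap.funLeft A R₀ fun t => e.symm ⟨i, t⟩
  have ha : ∀ i x, pr i (a x) = α i x := fun i x => funext fun t => by
    show α (e (e.symm ⟨i, t⟩)).1 x (e (e.symm ⟨i, t⟩)).2 = α i x t
    rw [e.apply_symm_apply]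
  refine ⟨_, a, isPowerTorsion_of_forall hg fun z l => ⟨k l, Subtype.ext ?_⟩, fun i => ?_⟩
  · show g l ^ k l • (z : M) = 0
    have h0 : a (z : M) = 0 := z.2
    rw [← h, ← ha, h0, map_zero, map_zero]
  · let s := β i ∘ₗ pr i
    let E : (Fin (Fintype.card (Σ i, Fin (p i))) → R₀) →ₗ[A] (Fin (Fintype.card (Σ i, Fin (p i))) → R₀) :=
      g i ^ k i • LinearMap.id - a ∘ₗ s
    refine ⟨_, k i, (LinearMap.range a).liftQ E ?_, (LinearMap.range a).mkQ, fun x => ?_⟩
    · rintro _ ⟨x, rfl⟩
      show g i ^ k i • a x - a (β i (pr i (a x))) = 0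
      rw [ha, h, map_smul, sub_self]
    · obtain ⟨y, rfl⟩ := Submodule.mkQ_surjective _ x
      show Submodule.mkQ (LinearMap.range a) (g i ^ k i • y - a (s y)) = _
      rw [map_sub, map_smul, sub_eq_self, Submodule.mkQ_apply, Submodule.Quotient.mk_eq_zero]
      exact ⟨_, rfl⟩

include hg in
theorem Split.finH_one [Module.Finite A R₀] (h1 : FinH I 1 R₀) {M : Type u} [AddCommGroup M] [Module A M]
    [Module.Finite A M] (hM : Split g R₀ M) : FinH I 1 M := by
  obtain ⟨q, a, hker, -⟩ := hM.exists_map hg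
  have hS := H9Lef.surjSeq_shortExact (M := M) (N := ↥(LinearMap.range a)) a.rangeRestrict
    a.surjective_rangeRestrict
  haveI := LC.subsingleton_of_torsion I 0 (ModuleCat.of A (LinearMap.ker a.rangeRestrict)) (by
    rw [LinearMap.ker_rangeRestrict]; exact hker)
  have hT := H9Lef.injSeq_shortExact (M := ↥(LinearMap.range a)) (N := Fin q → R₀) (LinearMap.range a).subtype
    Subtype.val_injective
  have hR : FinH I 1 (LinearMap.range a) :=
    finite_of_exact (LC.exact₁ I 0 hT 1 rfl) finH_zero (finH_pi q 1 h1)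
  refine finite_of_inj ((localCohomology I 1).map (ModuleCat.ofHom a.rangeRestrict)).hom
    ((injective_iff_map_eq_zero _).2 fun z hz => ?_) hR
  obtain ⟨w, rfl⟩ := (LC.exact₂ I 1 hS z).1 hz
  rw [Subsingleton.elim w 0, map_zero]

include hg in
theorem Split.finH_two [Module.Finite A R₀] (h1 : FinH I 1 R₀) (h2 : FinH I 2 R₀) {M : Type u}
    [AddCommGroup M] [Module A M] [Module.Finite A M] (hM : Split g R₀ M) : FinH I 2 M := by
  obtain ⟨q, a, hker, hC⟩ := hM.exists_map hg
  have hS := H9Lef.surjSeq_shortExact (M := M) (N := ↥(LinearMap.range a)) a.rangeRestrict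
    a.surjective_rangeRestrict
  haveI := LC.subsingleton_of_torsion I 1 (ModuleCat.of A (LinearMap.ker a.rangeRestrict)) (by
    rw [LinearMap.ker_rangeRestrict]; exact hker)
  have hT := H9Lef.injSeq_shortExact (M := ↥(LinearMap.range a)) (N := Fin q → R₀) (LinearMap.range a).subtype
    Subtype.val_injective
  have hC' : FinH I 1 ((Fin q → R₀) ⧸ LinearMap.range (LinearMap.range a).subtype) := by
    rw [Submodule.range_subtype]; exact hC.finH_one hg h1
  have hR : FinH I 2 (LinearMap.range a) :=
    finite_of_exact (LC.exact₁ I 1 hT 2 rfl) hC' (finH_pi q 2 h2)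
  refine finite_of_inj ((localCohomology I 2).map (ModuleCat.ofHom a.rangeRestrict)).hom
    ((injective_iff_map_eq_zero _).2 fun z hz => ?_) hR
  obtain ⟨w, rfl⟩ := (LC.exact₂ I 2 hS z).1 hz
  rw [Subsingleton.elim w 0, map_zero]

include hg in
/-- Finiteness of the kernel of the first map of a Čech complex. -/
theorem finite_cech_ker {X W : Type u} [AddCommGroup X] [Module A X] [AddCommGroup W] [Module A W]
    (d : X →ₗ[A] W)
    (hX : ∀ j, Subsingleton (LocCoh.H I j X))
    {M : Type u} [AddCommGroup M] [Module A M] [Module.Finite A M] (hM1 : FinH I 1 M)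
    (φ : M →ₗ[A] LinearMap.ker d) (hk : ∀ m, φ m = 0 → ∀ l, ∃ K, g l ^ K • m = 0)
    (hc : ∀ x, ∀ l, ∃ K, g l ^ K • x ∈ LinearMap.range φ) :
    Module.Finite A (LinearMap.ker d) := by
  -- image and cokernel of `φ`
  have hS := H9Lef.surjSeq_shortExact (M := M) (N := ↥(LinearMap.range φ)) φ.rangeRestrict
    φ.surjective_rangeRestrict
  have hker : LocCoh.IsPowerTorsion I (LinearMap.ker φ.rangeRestrict) := by
    rw [LinearMap.ker_rangeRestrict]
    exact isPowerTorsion_of_forall hg fun z l =>
      (hk z.1 z.2 l).imp fun K hK => Subtype.ext (by simpa using hK)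
  have hR : ∀ i, FinH I (i + 1) M → FinH I (i + 1) (LinearMap.range φ) := fun i hi => by
    haveI := LC.subsingleton_of_torsion I (i + 1) (ModuleCat.of A (LinearMap.ker φ.rangeRestrict)) hker
    haveI : Module.Finite A (LocCoh.H I (i + 1) M) := hi
    exact Module.Finite.of_surjective ((localCohomology I (i + 1)).map (ModuleCat.ofHom φ.rangeRestrict)).hom
      fun z => (LC.exact₃ I (i + 1) hS (i + 2) rfl z).1 (Subsingleton.elim _ _)
  have hT := H9Lef.injSeq_shortExact (M := ↥(LinearMap.range φ)) (N := ↥(LinearMap.ker d))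
    (LinearMap.range φ).subtype Subtype.val_injective
  have hQ : LocCoh.IsPowerTorsion I (LinearMap.ker d ⧸ LinearMap.range (LinearMap.range φ).subtype) := by
    refine isPowerTorsion_of_forall hg fun z l => ?_
    obtain ⟨x, rfl⟩ := Submodule.mkQ_surjective _ z
    obtain ⟨K, hK⟩ := hc x l
    refine ⟨K, ?_⟩
    rw [← map_smul, Submodule.mkQ_apply, Submodule.Quotient.mk_eq_zero, Submodule.range_subtype]
    exact hK
  have htX : DRing.torsionSub I X = ⊥ := by
    refine (Submodule.eq_bot_iff _).2 fun x hx => ?_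
    haveI := hX 0
    let e := LC.H0Equiv I (ModuleCat.of A X)
    have := congrArg e (Subsingleton.elim (e.symm ⟨x, hx⟩) 0)
    rw [e.apply_symm_apply, map_zero] at this
    exact congrArg Subtype.val this
  have htK : DRing.torsionSub I (LinearMap.ker d) = ⊥ := by
    refine (Submodule.eq_bot_iff _).2 fun x hx => Subtype.ext ?_
    have : (x : X) ∈ DRing.torsionSub I X := hx.imp fun n h a ha => congrArg Subtype.val (h a ha)
    rwa [htX, Submodule.mem_bot] at this
  haveI hQfin : Module.Finite A (LinearMap.ker d ⧸ LinearMap.range (LinearMap.range φ).subtype) :=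
    finite_of_torsion hQ (finite_of_inj _ (H9Lef.δH_zero_injective hT htK) (hR 0 hM1))
  haveI : Module.Finite A (LinearMap.range (LinearMap.range φ).subtype) :=
    Module.Finite.range _
  exact Module.Finite.of_submodule_quotient (LinearMap.range (LinearMap.range φ).subtype)

include hg in
/-- Finiteness of the kernel and of the first cohomology of the beginning of a Čech complex. -/
theorem finite_cech {X W : Type u} [AddCommGroup X] [Module A X] [AddCommGroup W] [Module A W]
    (d : X →ₗ[A] W) (Z : Submodule A W) (hdZ : LinearMap.range d ≤ Z)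
    (hX : ∀ j, Subsingleton (LocCoh.H I j X)) (hW : DRing.torsionSub I W = ⊥)
    (hZ : ∀ z ∈ Z, ∀ l, ∃ K, g l ^ K • z ∈ LinearMap.range d)
    {M : Type u} [AddCommGroup M] [Module A M] [Module.Finite A M] (hM1 : FinH I 1 M) (hM2 : FinH I 2 M)
    (φ : M →ₗ[A] LinearMap.ker d) (hk : ∀ m, φ m = 0 → ∀ l, ∃ K, g l ^ K • m = 0)
    (hc : ∀ x, ∀ l, ∃ K, g l ^ K • x ∈ LinearMap.range φ) :
    Module.Finite A (LinearMap.ker d) ∧
      Module.Finite A (Z ⧸ (LinearMap.range d).comap Z.subtype) := by
  -- image and cokernel of `φ`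
  have hS := H9Lef.surjSeq_shortExact (M := M) (N := ↥(LinearMap.range φ)) φ.rangeRestrict
    φ.surjective_rangeRestrict
  have hker : LocCoh.IsPowerTorsion I (LinearMap.ker φ.rangeRestrict) := by
    rw [LinearMap.ker_rangeRestrict]
    exact isPowerTorsion_of_forall hg fun z l =>
      (hk z.1 z.2 l).imp fun K hK => Subtype.ext (by simpa using hK)
  have hR : ∀ i, FinH I (i + 1) M → FinH I (i + 1) (LinearMap.range φ) := fun i hi => by
    haveI := LC.subsingleton_of_torsion I (i + 1) (ModuleCat.of A (LinearMap.ker φ.rangeRestrict)) hker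
    haveI : Module.Finite A (LocCoh.H I (i + 1) M) := hi
    exact Module.Finite.of_surjective ((localCohomology I (i + 1)).map (ModuleCat.ofHom φ.rangeRestrict)).hom
      fun z => (LC.exact₃ I (i + 1) hS (i + 2) rfl z).1 (Subsingleton.elim _ _)
  have hT := H9Lef.injSeq_shortExact (M := ↥(LinearMap.range φ)) (N := ↥(LinearMap.ker d))
    (LinearMap.range φ).subtype Subtype.val_injective
  have hQ : LocCoh.IsPowerTorsion I (LinearMap.ker d ⧸ LinearMap.range (LinearMap.range φ).subtype) := by
    refine isPowerTorsion_of_forall hg fun z l => ?_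
    obtain ⟨x, rfl⟩ := Submodule.mkQ_surjective _ z
    obtain ⟨K, hK⟩ := hc x l
    refine ⟨K, ?_⟩
    rw [← map_smul, Submodule.mkQ_apply, Submodule.Quotient.mk_eq_zero, Submodule.range_subtype]
    exact hK
  have htX : DRing.torsionSub I X = ⊥ := by
    refine (Submodule.eq_bot_iff _).2 fun x hx => ?_
    haveI := hX 0
    let e := LC.H0Equiv I (ModuleCat.of A X)
    have := congrArg e (Subsingleton.elim (e.symm ⟨x, hx⟩) 0)
    rw [e.apply_symm_apply, map_zero] at this
    exact congrArg Subtype.val this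
  have htK : DRing.torsionSub I (LinearMap.ker d) = ⊥ := by
    refine (Submodule.eq_bot_iff _).2 fun x hx => Subtype.ext ?_
    have : (x : X) ∈ DRing.torsionSub I X := hx.imp fun n h a ha => congrArg Subtype.val (h a ha)
    rwa [htX, Submodule.mem_bot] at this
  haveI hQfin : Module.Finite A (LinearMap.ker d ⧸ LinearMap.range (LinearMap.range φ).subtype) :=
    finite_of_torsion hQ (finite_of_inj _ (H9Lef.δH_zero_injective hT htK) (hR 0 hM1))
  haveI : Module.Finite A (LinearMap.range (LinearMap.range φ).subtype) :=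
    Module.Finite.range _
  refine ⟨Module.Finite.of_submodule_quotient (LinearMap.range (LinearMap.range φ).subtype), ?_⟩
  -- `H^2` of the kernel
  haveI := LC.subsingleton_of_torsion I 1
    (ModuleCat.of A (LinearMap.ker d ⧸ LinearMap.range (LinearMap.range φ).subtype)) hQ
  have hK2 : FinH I 2 (LinearMap.ker d) :=
    finite_of_exact (LC.exact₂ I 2 hT) (hR 1 hM2)
      (inferInstanceAs (Module.Finite A (LocCoh.H I 2
        (LinearMap.ker d ⧸ LinearMap.range (LinearMap.range φ).subtype))))
  -- `H^1` of the boundaries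
  have hB := H9Lef.surjSeq_shortExact (M := X) (N := ↥(LinearMap.range d)) d.rangeRestrict
    d.surjective_rangeRestrict
  have hK2' : FinH I 2 (LinearMap.ker d.rangeRestrict) := by rwa [LinearMap.ker_rangeRestrict]
  have hB1 : FinH I 1 (LinearMap.range d) := by
    refine finite_of_inj (LC.δH I 1 hB 2 rfl) ((injective_iff_map_eq_zero _).2 fun z hz => ?_) hK2'
    obtain ⟨w, rfl⟩ := (LC.exact₃ I 1 hB 2 rfl z).1 hz
    haveI := hX 1
    rw [Subsingleton.elim w 0, map_zero]
  -- cycles modulo boundaries
  let j : LinearMap.range d →ₗ[A] Z := Submodule.inclusion hdZ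
  have hj : LinearMap.range j = (LinearMap.range d).comap Z.subtype := Submodule.range_inclusion _ _ _
  have hU := H9Lef.injSeq_shortExact (M := ↥(LinearMap.range d)) (N := ↥Z) j
    (Submodule.inclusion_injective hdZ)
  have htZ : DRing.torsionSub I Z = ⊥ := by
    refine (Submodule.eq_bot_iff _).2 fun x hx => Subtype.ext ?_
    have : (x : W) ∈ DRing.torsionSub I W := hx.imp fun n h a ha => congrArg Subtype.val (h a ha)
    rwa [hW, Submodule.mem_bot] at this
  rw [← hj]
  refine finite_of_torsion (isPowerTorsion_of_forall hg fun y l => ?_)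
    (finite_of_inj _ (H9Lef.δH_zero_injective hU htZ) hB1)
  obtain ⟨x, rfl⟩ := Submodule.mkQ_surjective _ y
  obtain ⟨K, hK⟩ := hZ x.1 x.2 l
  refine ⟨K, ?_⟩
  rw [← map_smul, Submodule.mkQ_apply, Submodule.Quotient.mk_eq_zero, hj]
  exact hK

omit [IsNoetherianRing A] in
/-- A module with projective localisation splits near the open. -/
theorem exists_split {R L : Type u} [CommRing R] [Algebra A R] [AddCommGroup L] [Module A L] [Module R L]
    [IsScalarTower A R L] [Module.Projective R L] (c : A) (π : R₀ →ₗ[A] R)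
    [IsLocalizedModule (Submonoid.powers c) π] {M : Type u} [AddCommGroup M] [Module A M]
    [Module.FinitePresentation A M] {p : ℕ} (b : (Fin p → R₀) →ₗ[A] M) (ℓ : M →ₗ[A] L)
    [IsLocalizedModule (Submonoid.powers c) ℓ] (β : (Fin p → R) →ₗ[R] L)
    (hβ : Function.Surjective β) (hcomm : ∀ x, β (fun t => π (x t)) = ℓ (b x)) :
    ∃ (k : ℕ) (a : M →ₗ[A] (Fin p → R₀)), ∀ x, b (a x) = c ^ k • x := by
  obtain ⟨σ, hσ⟩ := β.exists_rightInverse_of_surjective (LinearMap.range_eq_top.2 hβ)
  let πp : (Fin p → R₀) →ₗ[A] (Fin p → R) := LinearMap.pi fun t => π ∘ₗ LinearMap.proj t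
  haveI : IsLocalizedModule (Submonoid.powers c) πp := IsLocalizedModule.pi _ _
  obtain ⟨a, ⟨_, k, rfl⟩, ha⟩ := Module.FinitePresentation.exists_lift_of_isLocalizedModule
    (Submonoid.powers c) πp ((σ.restrictScalars A) ∘ₗ ℓ)
  have key : ℓ ∘ₗ (b ∘ₗ a) = ℓ ∘ₗ (c ^ k • LinearMap.id) := by
    ext x
    have h1 : (fun t => π (a x t)) = c ^ k • σ (ℓ x) := LinearMap.congr_fun ha x
    show ℓ (b (a x)) = ℓ (c ^ k • x)
    rw [← hcomm, h1, LinearMap.map_smul_of_tower, map_smul]
    congr 1
    exact LinearMap.congr_fun hσ (ℓ x)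
  obtain ⟨⟨_, m, rfl⟩, hm⟩ := Module.Finite.exists_smul_of_comp_eq_of_isLocalizedModule
    (Submonoid.powers c) ℓ _ _ key
  refine ⟨m + k, c ^ m • a, fun x => ?_⟩
  have := LinearMap.congr_fun hm x
  simp only [LinearMap.smul_apply, LinearMap.comp_apply, LinearMap.id_apply] at this
  rw [LinearMap.smul_apply, map_smul, pow_add, mul_smul]
  exact this

end Groth.Agent.LefAlgz
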