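import Groth.Agent.LefAlgz.ColimSec
import Groth.Agent.ExtShX.AffineGlobal
import Groth.Agent.InjQC.QCohInj

/-!
# Formal cohomology along a hypersurface when local cohomology is killed by its powers
-/

noncomputable section

set_option autoImplicit false
set_option linter.style.haveILetI false
set_option backward.isDefEq.respectTransparency false
set_option backward.isDefEq.respectTransparency.types false

universe u

open CategoryTheory CategoryTheory.Limits AlgebraicGeometry Opposite TopologicalSpace Abelian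

namespace Groth.Agent.LefAlgz.HighKill

open Groth.Agent Groth.Agent.H9Lef

variable {A : Type u} [CommRing A] [IsNoetherianRing A] {M N : Type u} [AddCommGroup M] [Module A M]
  [AddCommGroup N] [Module A N] (U : (Spec (CommRingCat.of A)).Opens)

/-- The sheaf functor. -/
abbrev FA (A : Type u) [CommRing A] : ModuleCat.{u} (CommRingCat.of A) ⥤ CohTop.Ab (Spec (CommRingCat.of A)).toTopCat :=
  H9FormalCoh.F A

instance : (FA A).Additive :=
  inferInstanceAs (tilde.functor (CommRingCat.of A) ⋙ QCoh.toAbFunctor (Spec (CommRingCat.of A))).Additive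

/-- The free sheaf on the open. -/
abbrev fr (U : (Spec (CommRingCat.of A)).Opens) : CohTop.Ab (Spec (CommRingCat.of A)).toTopCat :=
  CohCx.freeSheaf (Opens.grothendieckTopology (Spec (CommRingCat.of A)).toTopCat) U

/-- Classes over the open. -/
abbrev E (M : Type u) [AddCommGroup M] [Module A M] (p : ℕ) : Type u := Formal2.HV A M p U

/-- Functoriality. -/
abbrev hm (φ : M →ₗ[A] N) (p : ℕ) : E U M p →+ E U N p := Formal2.HVmap A φ p U

/-- Multiplication by a scalar. -/
abbrev sm (a : A) (p : ℕ) : E U M p →+ E U M p := hm U (a • LinearMap.id) p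

theorem hm_comp {P : Type u} [AddCommGroup P] [Module A P] (φ : M →ₗ[A] N) (ψ : N →ₗ[A] P) (p : ℕ)
    (x : E U M p) : hm U ψ p (hm U φ p x) = hm U (ψ.comp φ) p x :=
  H9FormalCoh.HVmap_comp A φ ψ p U x

theorem hm_eq (φ : M →ₗ[A] N) (p : ℕ) (x : CategoryTheory.Abelian.Ext (fr U) ((FA A).obj (ModuleCat.of A M)) p) :
    (hm U φ p x : CategoryTheory.Abelian.Ext (fr U) ((FA A).obj (ModuleCat.of A N)) p) =
      x.comp (CategoryTheory.Abelian.Ext.mk₀ ((FA A).map (ModuleCat.ofHom φ))) (add_zero p) := rfl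

theorem hm_zero (p : ℕ) (x : E U M p) : hm U (0 : M →ₗ[A] N) p x = 0 := by
  refine (hm_eq U 0 p x).trans ?_
  rw [show ModuleCat.ofHom (0 : M →ₗ[A] N) = 0 from rfl, Functor.map_zero, CategoryTheory.Abelian.Ext.mk₀_zero, CategoryTheory.Abelian.Ext.comp_zero]

theorem sm_mul (a b : A) (p : ℕ) (x : E U M p) : sm U a p (sm U b p x) = sm U (a * b) p x :=
  (hm_comp U _ _ p x).trans (congrArg (fun φ => hm U φ p x) (LinearMap.ext fun m => (mul_smul a b m).symm))

theorem sm_pow_add {f : A} {c : ℕ} {p : ℕ} (h : ∀ x : E U M p, sm U (f ^ c) p x = 0) (k : ℕ) (x : E U M p) :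
    sm U (f ^ (k + c)) p x = 0 := by
  rw [pow_add, ← sm_mul, h, map_zero]

theorem hm_sm (φ : M →ₗ[A] N) (a : A) (p : ℕ) (x : E U M p) : hm U φ p (sm U a p x) = sm U a p (hm U φ p x) :=
  (hm_comp U _ _ p x).trans ((congrArg (fun ψ => hm U ψ p x) (LinearMap.ext fun m => map_smul φ a m)).trans
    (hm_comp U φ _ p x).symm)

variable (f : A)

/-- A power of `f` kills the classes. -/
def KilledHV (p : ℕ) (M : Type u) [AddCommGroup M] [Module A M] : Prop :=
  ∃ c : ℕ, ∀ x : E U M p, sm U (f ^ c) p x = 0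

section Seq

variable {S : ShortComplex (ModuleCat.{u} A)} (hS : S.ShortExact)

include hS in
theorem shortExact_map : (S.map (FA A)).ShortExact :=
  QCoh.toAb_shortExact (ExtShX.shortExact_map_tilde (A := CommRingCat.of A) hS)

/-- The connecting map. -/
def dl (p : ℕ) (x : E U S.X₃ p) : E U S.X₁ (p + 1) :=
  (show CategoryTheory.Abelian.Ext (fr U) (S.map (FA A)).X₃ p from x).comp (shortExact_map hS).extClass rfl

include hS in
theorem exists_hm_f (p : ℕ) {x : E U S.X₂ p} (hx : hm U S.g.hom p x = 0) : ∃ w, hm U S.f.hom p w = x := by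
  obtain ⟨w, hw⟩ := CategoryTheory.Abelian.Ext.covariant_sequence_exact₂ (fr U) (shortExact_map hS)
    (show CategoryTheory.Abelian.Ext (fr U) (S.map (FA A)).X₂ p from x) hx
  exact ⟨w, hw⟩

theorem exists_dl (p : ℕ) {x : E U S.X₁ (p + 1)} (hx : hm U S.f.hom (p + 1) x = 0) : ∃ z, dl U hS p z = x := by
  obtain ⟨z, hz⟩ := CategoryTheory.Abelian.Ext.covariant_sequence_exact₁ (fr U) (shortExact_map hS)
    (show CategoryTheory.Abelian.Ext (fr U) (S.map (FA A)).X₁ (p + 1) from x) hx rfl
  exact ⟨z, hz⟩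

theorem exists_hm_g (p : ℕ) {x : E U S.X₃ p} (hx : dl U hS p x = 0) : ∃ w, hm U S.g.hom p w = x := by
  obtain ⟨w, hw⟩ := CategoryTheory.Abelian.Ext.covariant_sequence_exact₃ (fr U) (shortExact_map hS)
    (show CategoryTheory.Abelian.Ext (fr U) (S.map (FA A)).X₃ p from x) rfl hx
  exact ⟨w, hw⟩

theorem dl_g (p : ℕ) (w : E U S.X₂ p) : dl U hS p (hm U S.g.hom p w) = 0 := by
  show ((show CategoryTheory.Abelian.Ext (fr U) (S.map (FA A)).X₂ p from w).comp (CategoryTheory.Abelian.Ext.mk₀ (S.map (FA A)).g) (add_zero p)).comp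
    (shortExact_map hS).extClass rfl = 0
  rw [CategoryTheory.Abelian.Ext.comp_assoc_of_second_deg_zero, ShortComplex.ShortExact.comp_extClass, CategoryTheory.Abelian.Ext.comp_zero]

theorem dl_natural {T : ShortComplex (ModuleCat.{u} A)} (hT : T.ShortExact) (φ : S ⟶ T) (p : ℕ) (x : E U S.X₃ p) :
    hm U φ.τ₁.hom (p + 1) (dl U hS p x) = dl U hT p (hm U φ.τ₃.hom p x) := by
  show ((show CategoryTheory.Abelian.Ext (fr U) (S.map (FA A)).X₃ p from x).comp (shortExact_map hS).extClass rfl).comp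
      (CategoryTheory.Abelian.Ext.mk₀ ((FA A).mapShortComplex.map φ).τ₁) (add_zero _) =
    ((show CategoryTheory.Abelian.Ext (fr U) (S.map (FA A)).X₃ p from x).comp (CategoryTheory.Abelian.Ext.mk₀ ((FA A).mapShortComplex.map φ).τ₃) (add_zero p)).comp
      (shortExact_map hT).extClass rfl
  rw [CategoryTheory.Abelian.Ext.comp_assoc_of_third_deg_zero, CategoryTheory.Abelian.Ext.comp_assoc_of_second_deg_zero,
    ShortComplex.ShortExact.extClass_naturality]

end Seq

/-- Injective modules have no higher classes. -/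
theorem subsingleton_injective (I : Type u) [AddCommGroup I] [Module A I] [Module.Injective A I] (p : ℕ) :
    Subsingleton (E U I (p + 1)) := by
  haveI : TopCat.Sheaf.IsFlasque (Coh.toAb (Formal2.tmod A I)) := ⟨fun {V W} i => by
    haveI : Injective (ModuleCat.of A I) := Module.injective_object_of_injective_module A I
    haveI : Injective (tilde (R := CommRingCat.of A) (ModuleCat.of A I)) :=
      InjQC.injective_tilde (A := CommRingCat.of A) (ModuleCat.of A I)
    exact (AddCommGrpCat.epi_iff_surjective _).2 (InjQC.flasque_of_injective _ i.unop.le)⟩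
  exact SiteBase.subsingleton_HU_of_isFlasque (Coh.toAb (Formal2.tmod A I)) U p

variable (𝔞 : Ideal A)

theorem sm_secHV (a : A) (z : Sct A M U) : sm U a 0 (secHV M U z) = secHV M U (a • z) := by
  show Formal2.HVmap A (a • LinearMap.id) 0 U (secHV M U z) = _
  rw [HVmap_secHV, ColimSec.smap_f]

theorem exists_pow_smul_mem_sec {f : A} (h : KilledH 𝔞 f 1 M) :
    ∃ c, ∀ z : Sct A M (LocCoh.puncturedOpen A 𝔞), ∃ m, f ^ c • z = sec M (LocCoh.puncturedOpen A 𝔞) m := by
  obtain ⟨r, g, hg⟩ := Submodule.fg_iff_exists_fin_generating_family.1 (IsNoetherian.noetherian 𝔞)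
  obtain ⟨c, hc⟩ := exists_pow_smul_mem_range (ℓ := ℓg g M) hg h
  refine ⟨c, fun z => ?_⟩
  obtain ⟨m, hm'⟩ := hc ⟨chart hg z, isSec_chart hg z⟩
  refine ⟨m, chart_injective hg fun i => ?_⟩
  show sres (D_le hg i) (f ^ c • z) = sres (D_le hg i) (sec M (LocCoh.puncturedOpen A 𝔞) m)
  rw [map_smul, sres_sec]
  exact (congrArg (fun y : secSub (ℓg g M) g => y.1 i) hm').symm

/-- The open. -/
abbrev PO : (Spec (CommRingCat.of A)).Opens := LocCoh.puncturedOpen A 𝔞

/-- Killed local cohomology gives killed classes on the punctured spectrum. -/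
theorem killedHV_of_killedH {f : A} : ∀ (p : ℕ) (M : Type u) [AddCommGroup M] [Module A M],
    KilledH 𝔞 f (p + 2) M → KilledHV (PO 𝔞) f (p + 1) M := by
  intro p
  induction p with
  | zero =>
    intro M _ _ h
    obtain ⟨I, _, _, hI, ι, hι⟩ := LC.exists_injective_embedding A M
    haveI := hI
    have hS := injSeq_shortExact (M := M) (N := I) ι hι
    haveI : Injective (ModuleCat.of A I) := Module.injective_object_of_injective_module A I
    haveI := LC.subsingleton_of_injective 𝔞 (ModuleCat.of A I) 0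
    haveI := subsingleton_injective (PO 𝔞) I 0
    have hQ : KilledH 𝔞 f 1 (I ⧸ LinearMap.range ι) :=
      killedBy_of_injective f (LC.δH 𝔞 1 hS 2 rfl) ((injective_iff_map_eq_zero _).2 fun z hz => by
        obtain ⟨w, rfl⟩ := (LC.exact₃ 𝔞 1 hS 2 rfl z).1 hz
        rw [Subsingleton.elim w 0, map_zero]) h
    obtain ⟨c, hc⟩ := exists_pow_smul_mem_sec 𝔞 hQ
    refine ⟨c, fun x => ?_⟩
    obtain ⟨z, rfl⟩ := exists_dl (PO 𝔞) hS 0 (x := x) (Subsingleton.elim _ _)
    obtain ⟨s, rfl⟩ := (secHV (I ⧸ LinearMap.range ι) (PO 𝔞)).surjective z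
    obtain ⟨q, hq⟩ := hc s
    obtain ⟨e, rfl⟩ := Submodule.mkQ_surjective _ q
    let φ : injSeq (A := A) ι ⟶ injSeq (A := A) ι :=
      ShortComplex.homMk (ModuleCat.ofHom (f ^ c • LinearMap.id)) (ModuleCat.ofHom (f ^ c • LinearMap.id))
        (ModuleCat.ofHom (f ^ c • LinearMap.id)) (ModuleCat.hom_ext (LinearMap.ext fun m => map_smul ι (f ^ c) m))
        (ModuleCat.hom_ext (LinearMap.ext fun m => (LinearMap.range ι).mkQ.map_smul (f ^ c) m))
    refine (dl_natural (PO 𝔞) hS hS φ 0 _).trans ?_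
    show dl (PO 𝔞) hS 0 (sm (PO 𝔞) (f ^ c) 0 (secHV _ (PO 𝔞) s)) = 0
    rw [sm_secHV, hq, ← smap_sec, ← HVmap_secHV]
    exact dl_g (PO 𝔞) hS 0 _
  | succ p ih =>
    intro M _ _ h
    obtain ⟨I, _, _, hI, ι, hι⟩ := LC.exists_injective_embedding A M
    haveI := hI
    have hS := injSeq_shortExact (M := M) (N := I) ι hι
    haveI : Injective (ModuleCat.of A I) := Module.injective_object_of_injective_module A I
    haveI := LC.subsingleton_of_injective 𝔞 (ModuleCat.of A I) (p + 1)
    haveI := subsingleton_injective (PO 𝔞) I (p + 1)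
    have hQ : KilledH 𝔞 f (p + 2) (I ⧸ LinearMap.range ι) :=
      killedBy_of_injective f (LC.δH 𝔞 (p + 2) hS (p + 1 + 2) (by omega)) ((injective_iff_map_eq_zero _).2 fun z hz => by
        obtain ⟨w, rfl⟩ := (LC.exact₃ 𝔞 (p + 2) hS (p + 1 + 2) (by omega) z).1 hz
        rw [Subsingleton.elim w 0, map_zero]) h
    obtain ⟨c, hc⟩ := ih _ hQ
    refine ⟨c, fun x => ?_⟩
    obtain ⟨z, rfl⟩ := exists_dl (PO 𝔞) hS (p + 1) (x := x) (Subsingleton.elim _ _)
    let φ : injSeq (A := A) ι ⟶ injSeq (A := A) ι :=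
      ShortComplex.homMk (ModuleCat.ofHom (f ^ c • LinearMap.id)) (ModuleCat.ofHom (f ^ c • LinearMap.id))
        (ModuleCat.ofHom (f ^ c • LinearMap.id)) (ModuleCat.hom_ext (LinearMap.ext fun m => map_smul ι (f ^ c) m))
        (ModuleCat.hom_ext (LinearMap.ext fun m => (LinearMap.range ι).mkQ.map_smul (f ^ c) m))
    refine (dl_natural (PO 𝔞) hS hS φ (p + 1) _).trans ?_
    show dl (PO 𝔞) hS (p + 1) (sm (PO 𝔞) (f ^ c) (p + 1) z) = 0
    rw [hc, ← map_zero (hm (PO 𝔞) (injSeq (A := A) ι).g.hom (p + 1))]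
    exact dl_g (PO 𝔞) hS (p + 1) 0

section Formal

variable {f} (e : ℕ) (he : ∀ (n : ℕ) (z : M), f ^ n • z = 0 → f ^ e • z = 0)

/-- The torsion free multiple. -/
abbrev Pm (M : Type u) [AddCommGroup M] [Module A M] (f : A) (e : ℕ) : Submodule A M :=
  LinearMap.range (LinearMap.lsmul A M (f ^ (e + 1)))

/-- Multiplication into the torsion free multiple. -/
abbrev toP : M →ₗ[A] Pm M f e := (LinearMap.lsmul A M (f ^ (e + 1))).rangeRestrict

/-- The sequence of a level. -/
abbrev seq (M : Type u) [AddCommGroup M] [Module A M] (f : A) (e k : ℕ) : ShortComplex (ModuleCat.{u} A) :=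
  ShortComplex.mk (ModuleCat.ofHom (f ^ k • (Pm M f e).subtype))
    (ModuleCat.ofHom (Formal2.quotPowπ A (Ideal.span {f}) M (e + k)))
    (ModuleCat.hom_ext (LinearMap.ext fun z => by
      obtain ⟨_, w, rfl⟩ := z
      exact (Submodule.Quotient.mk_eq_zero _).2 (mem_span_pow_smul_top.2 ⟨w, by
        show f ^ (e + k + 1) • w = f ^ k • f ^ (e + 1) • w
        rw [← mul_smul, ← pow_add]
        congr 2
        omega⟩)))

include he in
theorem seq_shortExact (k : ℕ) : (seq M f e k).ShortExact :=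
  { exact := (ShortComplex.ShortExact.moduleCat_exact_iff_function_exact _).2 fun y => by
      constructor
      · intro hy
        obtain ⟨w, hw⟩ := mem_span_pow_smul_top.1 ((Submodule.Quotient.mk_eq_zero _).1 hy)
        refine ⟨⟨f ^ (e + 1) • w, w, rfl⟩, ?_⟩
        show f ^ k • f ^ (e + 1) • w = y
        rw [← hw, ← mul_smul, ← pow_add]
        congr 2
        omega
      · rintro ⟨z, rfl⟩
        exact congr($((seq M f e k).zero) z)
    mono_f := (ModuleCat.mono_iff_injective _).2 ((injective_iff_map_eq_zero _).2 fun z hz => by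
      obtain ⟨_, w, rfl⟩ := z
      refine Subtype.ext ?_
      show f ^ (e + 1) • w = 0
      have h0 : f ^ (k + (e + 1)) • w = 0 := by rw [pow_add, mul_smul]; exact hz
      rw [pow_succ', mul_smul, he _ w h0, smul_zero])
    epi_g := (ModuleCat.epi_iff_surjective _).2 (Submodule.mkQ_surjective _) }

/-- The maps between levels. -/
abbrev seqMap (M : Type u) [AddCommGroup M] [Module A M] (f : A) (e j d : ℕ) : seq M f e (j + d) ⟶ seq M f e j :=
  ShortComplex.homMk (ModuleCat.ofHom (f ^ d • LinearMap.id)) (ModuleCat.ofHom LinearMap.id)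
    (ModuleCat.ofHom (H9FormalCoh.qtrans A (Ideal.span {f}) (e + j) (e + (j + d)) (by omega)))
    (ModuleCat.hom_ext (LinearMap.ext fun z => by
      show f ^ j • ((f ^ d • z : Pm M f e) : M) = f ^ (j + d) • (z : M)
      rw [Submodule.coe_smul, ← mul_smul, ← pow_add]))
    (ModuleCat.hom_ext (LinearMap.ext fun m => rfl))

theorem killed_Pm {p c : ℕ} (h : ∀ x : E U M p, sm U (f ^ c) p x = 0) (x : E U (Pm M f e) p) :
    sm U (f ^ (e + 1 + c)) p x = 0 := by
  have hid : (f ^ (e + 1) • LinearMap.id : Pm M f e →ₗ[A] Pm M f e) =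
      (toP (M := M) (f := f) e).comp (Pm M f e).subtype := LinearMap.ext fun z => Subtype.ext rfl
  rw [pow_add, ← sm_mul]
  show hm U (f ^ (e + 1) • LinearMap.id) p (sm U (f ^ c) p x) = 0
  rw [hid, ← hm_comp, hm_sm _ (Pm M f e).subtype, h, map_zero]

theorem hm_trans_le {p : ℕ} (y : ∀ n, E U (Formal2.quotPow A (Ideal.span {f}) M n) p)
    (hy : ∀ n, hm U (Formal2.quotPowTrans A (Ideal.span {f}) M n) p (y (n + 1)) = y n) (n : ℕ) :
    ∀ m (h : n ≤ m), hm U (H9FormalCoh.qtrans A (Ideal.span {f}) n m h) p (y m) = y n := by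
  intro m h
  induction m, h using Nat.le_induction with
  | base => rw [H9FormalCoh.qtrans_self]; exact H9FormalCoh.HVmap_id A p U _
  | succ m h ih => rw [H9FormalCoh.qtrans_succ A (Ideal.span {f}) n m h, ← hm_comp, hy m, ih]

end Formal

/-- Classes on the punctured spectrum and formal classes. -/
theorem formalCohBijective_succ [Module.Finite A M] (p : ℕ)
    (h1 : KilledH 𝔞 f (p + 2) M) (h2 : KilledH 𝔞 f (p + 3) M) :
    Formal2.FormalCohBijective A (Ideal.span {f}) M (p + 1) (LocCoh.puncturedOpen A 𝔞) := by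
  obtain ⟨e, he⟩ := exists_torsion_exponent f M
  obtain ⟨c₁, hc₁⟩ := killedHV_of_killedH 𝔞 p M h1
  obtain ⟨c₂, hc₂⟩ := killedHV_of_killedH 𝔞 (p + 1) M h2
  let U := PO 𝔞
  let c := c₁
  let d := e + 1 + c₂
  have hf : ∀ k z, hm U (seq M f e k).f.hom (p + 1) z = sm U (f ^ k) (p + 1) (hm U (Pm M f e).subtype (p + 1) z) :=
    fun k z => by
      rw [hm_comp]
      exact congrArg (fun φ => hm U φ (p + 1) z) (LinearMap.ext fun w => rfl)
  have hinj : ∀ x : E U M (p + 1),
      hm U (Formal2.quotPowπ A (Ideal.span {f}) M (e + c)) (p + 1) x = 0 → x = 0 := fun x hx => by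
    obtain ⟨w, rfl⟩ := exists_hm_f U (seq_shortExact e he c) (p + 1) hx
    rw [hf, hc₁]
  refine ⟨fun x x' hxx => sub_eq_zero.1 (hinj _ ?_), fun y hy => ?_⟩
  · rw [map_sub, sub_eq_zero]
    exact hxx (e + c)
  have hl : ∀ j, ∃ x : E U M (p + 1),
      hm U (Formal2.quotPowπ A (Ideal.span {f}) M (e + j)) (p + 1) x = y (e + j) := fun j => by
    refine exists_hm_g U (seq_shortExact e he j) (p + 1) ?_
    rw [← hm_trans_le U y hy (e + j) (e + (j + d)) (by omega)]
    refine (dl_natural U (seq_shortExact e he (j + d)) (seq_shortExact e he j) (seqMap M f e j d) (p + 1) _).symm.trans ?_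
    exact killed_Pm U e hc₂ _
  choose z hz using hl
  refine ⟨z c, fun n => ?_⟩
  obtain ⟨j, hj, hn⟩ : ∃ j, c ≤ j ∧ n ≤ e + j := ⟨max c n, le_max_left _ _, by omega⟩
  have hzj : z j = z c := sub_eq_zero.1 (hinj _ (by
    have h' : hm U (Formal2.quotPowπ A (Ideal.span {f}) M (e + c)) (p + 1) (z j) = y (e + c) := by
      rw [← hm_trans_le U y hy (e + c) (e + j) (by omega), ← hz j, hm_comp, H9FormalCoh.qtrans_comp_π]
    rw [map_sub, h', hz c, sub_self]))
  rw [← hzj, ← hm_trans_le U y hy n (e + j) hn, ← hz j]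
  show hm U _ (p + 1) (z j) = _
  rw [hm_comp, H9FormalCoh.qtrans_comp_π]

/-- Formal functions when local cohomology is killed up to degree `s + 1`. -/
theorem formalCohBijective_of_killed [IsAdicComplete (Ideal.span {f}) A] [Module.Finite A M] (s : ℕ)
    (h : ∀ i, i ≤ s + 1 → KilledH 𝔞 f i M) (i : ℕ) (hi : i < s) :
    Formal2.FormalCohBijective A (Ideal.span {f}) M i (LocCoh.puncturedOpen A 𝔞) := by
  cases i with
  | zero => exact formalCohBijective_zero 𝔞 f M (h 1 (by omega)) (h 2 (by omega))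
  | succ p => exact formalCohBijective_succ f 𝔞 p (h (p + 2) (by omega)) (h (p + 3) (by omega))

end Groth.Agent.LefAlgz.HighKill
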