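import Groth.Agent.LefAlgz.LimAlg
import Mathlib.RingTheory.Etale.Basic

/-!
# Algebraization of an algebra modulo `f` which is finite, and étale off an ideal
-/

noncomputable section

set_option autoImplicit false
set_option linter.style.haveILetI false
set_option backward.isDefEq.respectTransparency false
set_option backward.isDefEq.respectTransparency.types false

universe u

namespace Groth.Agent.LefAlgz

open Groth.Agent Groth.Agent.H9Lef

variable {A : Type u} [CommRing A] [IsNoetherianRing A] {f : A} {I : Ideal A}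
  {C : Type u} [CommRing C] [Algebra A C] [Algebra (A ⧸ Ideal.span {f}) C]
  [IsScalarTower A (A ⧸ Ideal.span {f}) C] [Module.Finite A C]

theorem split_of_etale {r : ℕ} {g : Fin r → A}
    (hEt : ∀ i, Algebra.Etale (A ⧸ Ideal.span {f}) (H9Pur.L C (g i))) :
    Split g (A ⧸ Ideal.span {f}) C := by
  intro i
  let B := A ⧸ Ideal.span {f}
  let a := g i
  let L := H9Pur.L C a
  haveI : Module.Finite B C := Module.Finite.of_restrictScalars_finite A B C
  obtain ⟨p, v, hv⟩ := Module.Finite.exists_fin (R := B) (M := C)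
  let b₀ : (Fin p → B) →ₗ[B] C := Fintype.linearCombination B v
  let R := Localization.Away (algebraMap A B a)
  let π : B →ₗ[A] R := (IsScalarTower.toAlgHom A B R).toLinearMap
  haveI : IsLocalizedModule (Submonoid.powers a) π := by
    refine isLocalizedModule_iff_isLocalization.2 ?_
    rw [Algebra.algebraMapSubmonoid_powers]
    infer_instance
  have hu : IsUnit (algebraMap B L (algebraMap A B a)) := by
    rw [← IsScalarTower.algebraMap_apply A B L]
    exact H9Pur.isUnit_L a
  letI : Algebra R L := (IsLocalization.Away.lift (algebraMap A B a) (g := algebraMap B L) hu).toAlgebra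
  haveI : IsScalarTower B R L := IsScalarTower.of_algebraMap_eq fun x =>
    (IsLocalization.Away.lift_eq (algebraMap A B a) (g := algebraMap B L) hu x).symm
  haveI : IsScalarTower A R L := IsScalarTower.of_algebraMap_eq fun x => by
    rw [IsScalarTower.algebraMap_apply A B R, ← IsScalarTower.algebraMap_apply B R L,
      ← IsScalarTower.algebraMap_apply A B L]
  let β : (Fin p → R) →ₗ[R] L := Fintype.linearCombination R fun t => algebraMap C L (v t)
  have hcomm : ∀ x : Fin p → B, β (fun t => π (x t)) = H9Lef.lC C a (b₀ x) := fun x => by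
    show (∑ t, algebraMap B R (x t) • algebraMap C L (v t)) = algebraMap C L (∑ t, x t • v t)
    rw [map_sum]
    exact Finset.sum_congr rfl fun t _ => by
      rw [algebraMap_smul, Algebra.smul_def (x t) (v t), map_mul, ← IsScalarTower.algebraMap_apply,
        ← Algebra.smul_def]
  have hβ : Function.Surjective β := fun y => by
    obtain ⟨k, c, hc⟩ := exists_frac_L a y
    obtain ⟨x, hx⟩ : ∃ x : Fin p → B, b₀ x = c := by
      obtain ⟨x, hx⟩ := (Submodule.mem_span_range_iff_exists_fun B).1 (hv ▸ Submodule.mem_top : c ∈ _)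
      exact ⟨x, hx⟩
    have hR : IsUnit (algebraMap A R (a ^ k)) := by
      rw [map_pow, IsScalarTower.algebraMap_apply A B R]
      exact (IsLocalization.Away.algebraMap_isUnit _).pow k
    obtain ⟨w, hw⟩ := hR.exists_left_inv
    refine ⟨w • fun t => π (x t), (H9Lef.isLocalizedModule_lC C a |> fun _ => smul_bijective_L (dvd_refl a) k).1 ?_⟩
    show a ^ k • β (w • fun t => π (x t)) = a ^ k • y
    rw [map_smul, hcomm, hx, ← algebraMap_smul R (a ^ k), smul_smul, mul_comm, hw, one_smul]
    exact hc.symm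
  haveI : Algebra.Etale B L := hEt i
  haveI : Algebra.Etale B R := Algebra.Etale.of_isLocalizationAway (algebraMap A B a)
  haveI : Algebra.Etale R L := Algebra.Etale.of_restrictScalars B R L
  haveI : Module.Finite R L := Module.Finite.of_surjective β hβ
  haveI : Module.FinitePresentation R L := Module.finitePresentation_of_finite R L
  haveI : Module.Projective R L := Module.Flat.projective_of_finitePresentation
  haveI : Module.FinitePresentation A C := Module.finitePresentation_of_finite A C
  haveI := H9Lef.isLocalizedModule_lC C a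
  obtain ⟨k, α, h⟩ := exists_split (R₀ := B) a π (b₀.restrictScalars A) (H9Lef.lC C a) β hβ hcomm
  exact ⟨p, k, α, b₀.restrictScalars A, h⟩

/-- Finite algebras over `A` extending, up to localisation on the standard opens, an algebra modulo `f`. -/
theorem exists_algebraization (hnz : f ∈ nonZeroDivisors A) [IsAdicComplete (Ideal.span {f}) A]
    (h1 : FinH I 1 (A ⧸ Ideal.span {f})) (h2 : FinH I 2 (A ⧸ Ideal.span {f}))
    (hEt : ∀ a ∈ I, Algebra.Etale (A ⧸ Ideal.span {f}) (H9Pur.L C a)) :
    ∃ (M S : Type u) (_ : CommRing M) (_ : CommRing S) (_ : Algebra A M) (_ : Algebra A S)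
      (_ : Module.Finite A M) (_ : Module.Finite A S) (ρ : M →ₐ[A] S) (κ : C →ₐ[A] S),
      (Function.Injective fun x : M => f • x) ∧ (∀ y, ρ (f • y) = 0) ∧ (∀ x, ρ x = 0 → ∃ y, f • y = x) ∧
      ∀ a ∈ I, (∀ s, ∃ K m, a ^ K • s = ρ m) ∧ (∀ s, ∃ K c, a ^ K • s = κ c) ∧
        (∀ c, κ c = 0 → ∃ K, a ^ K • c = 0) := by
  classical
  obtain ⟨r, g, hg⟩ := Submodule.fg_iff_exists_fin_generating_family.1 (IsNoetherian.noetherian I)
  have hg' : Ideal.span (Set.range g) = I := hg
  have hI : ∀ i, g i ∈ I := fun i => hg' ▸ Ideal.subset_span ⟨i, rfl⟩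
  have hL : ∀ a ∈ I, Nonempty (Lft f (H9Pur.L C a)) := fun a ha => by
    haveI := hEt a ha
    exact nonempty_lft _
  let Λ : Lifting f C g :=
    { L1 := fun i => (hL _ (hI i)).some
      L2 := fun p => (hL _ (I.mul_mem_right _ (hI p.1))).some
      L3 := fun t => (hL _ (I.mul_mem_right _ (I.mul_mem_right _ (hI t.1)))).some }
  have hsplit := split_of_etale (f := f) (g := g) fun i => hEt _ (hI i)
  have H1 : FinH I 1 C := hsplit.finH_one hg' h1
  have H2 : FinH I 2 C := hsplit.finH_two hg' h1 h2
  refine ⟨Λ.Malg, secEq C g, inferInstance, inferInstance, inferInstance, inferInstance,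
    Λ.finite_Malg hnz hg' H1 H2, Λ.finite_secEq hnz hg' H1 H2, Λ.ρ, toSecEq C g,
    Λ.smul_injective_Malg hnz, fun y => Subtype.ext (funext fun i => ?_), Λ.exists_smul_of_ρ_eq_zero hnz,
    fun a ha => ?_⟩
  · show (Λ.L1 i).πQ 0 (f • y.1 0 i) = 0
    obtain ⟨z, hz⟩ := Ideal.Quotient.mk_surjective (y.1 0 i)
    rw [← hz]
    exact (Λ.L1 i).π_f z
  -- from the generators to all of the ideal
  have hall : ∀ (N : Type u) [AddCommGroup N] [Module A N] (P : Submodule A N) (s : N),
      (∀ l, ∃ K, g l ^ K • s ∈ P) → ∃ K, a ^ K • s ∈ P := fun N _ _ P s hs => by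
    let J : Ideal A := P.comap (LinearMap.toSpanSingleton A N s)
    have hrad : a ∈ J.radical := by
      rw [← hg'] at ha
      refine (Ideal.span_le.2 ?_) ha
      rintro _ ⟨l, rfl⟩
      exact hs l
    exact hrad
  refine ⟨fun s => ?_, fun s => ?_, fun c hc => ?_⟩
  · obtain ⟨K, m, hm⟩ := hall (secEq C g) (LinearMap.range Λ.ρ.toLinearMap) s fun l => by
      obtain ⟨K, m, hm⟩ := Λ.exists_ρ_eq hnz hg' H1 H2 s l
      exact ⟨K, m, hm.symm⟩
    exact ⟨K, m, hm.symm⟩
  · obtain ⟨K, c, hc⟩ := hall (secEq C g) (LinearMap.range (toSecEq C g).toLinearMap) s fun l => by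
      have hx : (LinearEquiv.ofBijective Λ.π0 Λ.bijective_π0).symm s.1 ∈ (Λ.cx hnz).N 0 :=
        (Λ.mem_N_zero_iff hnz).2 fun p => by
          rw [LinearEquiv.apply_ofBijective_symm_apply]
          exact s.2 p
      obtain ⟨K, c, hc⟩ := Λ.exists_κ0_eq hnz hx l
      refine ⟨K, c, Subtype.ext (funext fun i => ?_)⟩
      show algebraMap C (H9Pur.L C (g i)) c = g l ^ K • s.1 i
      rw [← Λ.π0_κL, ← hc, map_smul, LinearEquiv.apply_ofBijective_symm_apply]
      rfl
    exact ⟨K, c, hc.symm⟩
  · obtain ⟨K, hK⟩ := hall C ⊥ c fun l => by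
      obtain ⟨K, hK⟩ := exists_kill_L (a := g l) (c := c) (congrFun (congrArg Subtype.val hc) l)
      exact ⟨K, hK⟩
    exact ⟨K, hK⟩

end Groth.Agent.LefAlgz
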