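import Groth.Agent.LefAlgz.StabCrit

/-!
# Algebraization under a weaker hypothesis on second cohomology
-/

noncomputable section

set_option autoImplicit false
set_option linter.style.haveILetI false
set_option backward.isDefEq.respectTransparency false
set_option backward.isDefEq.respectTransparency.types false

universe u

namespace Groth.Agent.LefAlgz

open Groth.Agent Groth.Agent.H9Lef

variable {A : Type u} [CommRing A] [IsNoetherianRing A] {f : A} {I : Ideal A}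
  {C : Type u} [CommRing C] [Algebra A C] {r : ℕ} {g : Fin r → A}

namespace Lifting

variable (Λ : Lifting f C g) (hnz : f ∈ nonZeroDivisors A)

theorem finite_N_zero (hg : Ideal.span (Set.range g) = I) [Module.Finite A C] (h1 : FinH I 1 C) :
    Module.Finite A ((Λ.cx hnz).N 0) := by
  have hI : ∀ i, g i ∈ I := fun i => hg ▸ Ideal.subset_span ⟨i, rfl⟩
  refine finite_cech_ker (g := g) hg (X := ∀ i, (Λ.L1 i).Q 0) (W := ∀ p, (Λ.L2 p).Q 0) ((Λ.cx hnz).d.app 0)
    ?_ h1 (Λ.κ0 hnz) ?_ ?_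
  · intro j
    refine subsingleton_pi (fun i => (Λ.L1 i).Q 0) g hI (fun i => ?_) j
    simpa using smul_bijective_Q hnz (Λ.L1 i) (dvd_refl (g i)) 1
  · intro c hc l
    refine exists_kill_L (a := g l) (c := c) ?_
    have h0 : Λ.κL c = 0 := congrArg Subtype.val hc
    rw [← Λ.π0_κL, h0, map_zero, Pi.zero_apply]
  · intro x l
    obtain ⟨K, c, h⟩ := Λ.exists_κ0_eq hnz x.2 l
    exact ⟨K, c, Subtype.ext h.symm⟩

include Λ hnz in
theorem finite_secEq_of_ker [Module.Finite A ((Λ.cx hnz).N 0)] : Module.Finite A (secEq C g) := by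
  haveI : IsNoetherian A ((Λ.cx hnz).N 0) := isNoetherian_of_isNoetherianRing_of_finite A _
  let e := LinearEquiv.ofBijective Λ.π0 Λ.bijective_π0
  have hmem : ∀ x : secEq C g, e.symm x.1 ∈ (Λ.cx hnz).N 0 := fun x => (Λ.mem_N_zero_iff hnz).2 fun p => by
    rw [show Λ.π0 (e.symm x.1) = x.1 from LinearEquiv.apply_ofBijective_symm_apply (f := Λ.π0) (h := Λ.bijective_π0) x.1]
    exact x.2 p
  let j : secEq C g →ₗ[A] (Λ.cx hnz).N 0 :=
    LinearMap.codRestrict _ (e.symm.toLinearMap ∘ₗ (secEq C g).val.toLinearMap) hmem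
  exact Module.Finite.of_injective j fun x y h => Subtype.ext (e.symm.injective (congrArg Subtype.val h))

include hnz in
theorem exists_ρ_eq_of_stab [(Λ.cx hnz).IsStab] (x : secEq C g) (l : Fin r) :
    ∃ K m, g l ^ K • x = Λ.ρ m := by
  let e := LinearEquiv.ofBijective Λ.π0 Λ.bijective_π0
  have he : Λ.π0 (e.symm x.1) = x.1 := LinearEquiv.apply_ofBijective_symm_apply (f := Λ.π0) (h := Λ.bijective_π0) x.1
  obtain ⟨K, hK⟩ := (Λ.cx hnz).pow_mem_stable (g := g l) (fun m s hs => Λ.exists_lift_pow hnz l m s hs)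
    (n := 0) (s := e.symm x.1) ((Λ.mem_N_zero_iff hnz).2 fun p => by rw [he]; exact x.2 p)
  obtain ⟨m, hm⟩ := (Λ.cx hnz).exists_ev_eq hK
  refine ⟨K, Λ.equivMalg hnz m, Subtype.ext (funext fun i => ?_)⟩
  show g l ^ K • x.1 i = (Λ.L1 i).πQ 0 (m.1 0 i)
  have h3 := congrFun (congrArg Λ.π0 (show m.1 0 = g l ^ K • e.symm x.1 from hm)) i
  rw [map_smul, he, Pi.smul_apply] at h3
  exact h3.symm

end Lifting

variable [Algebra (A ⧸ Ideal.span {f}) C] [IsScalarTower A (A ⧸ Ideal.span {f}) C] [Module.Finite A C]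

/-- Algebraization when reduction kills second cohomology up to powers. -/
theorem exists_algebraization_of_imgKill (hnz : f ∈ nonZeroDivisors A) [IsAdicComplete (Ideal.span {f}) A]
    (hg : Ideal.span (Set.range g) = I) (h1 : FinH I 1 (A ⧸ Ideal.span {f})) {c : ℕ} (h2 : ImgKill I f c)
    (hC : CofinTwo I)
    (hE1 : ∀ i, Algebra.Etale (A ⧸ Ideal.span {f}) (H9Pur.L C (g i)))
    (hE2 : ∀ p, Algebra.Etale (A ⧸ Ideal.span {f}) (H9Pur.L C (a2 g p)))
    (hE3 : ∀ t, Algebra.Etale (A ⧸ Ideal.span {f}) (H9Pur.L C (a3 g t))) :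
    ∃ (M S : Type u) (_ : CommRing M) (_ : CommRing S) (_ : Algebra A M) (_ : Algebra A S)
      (_ : Module.Finite A M) (_ : Module.Finite A S) (ρ : M →ₐ[A] S) (κ : C →ₐ[A] S),
      (Function.Injective fun x : M => f • x) ∧ (∀ y, ρ (f • y) = 0) ∧ (∀ x, ρ x = 0 → ∃ y, f • y = x) ∧
      ∀ a ∈ I, (∀ s, ∃ K m, a ^ K • s = ρ m) ∧ (∀ s, ∃ K c, a ^ K • s = κ c) ∧
        (∀ c, κ c = 0 → ∃ K, a ^ K • c = 0) := by
  classical
  have hI : ∀ i, g i ∈ I := fun i => hg ▸ Ideal.subset_span ⟨i, rfl⟩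
  let Λ : Lifting f C g :=
    { L1 := fun i => (@nonempty_lft A _ f (H9Pur.L C (g i)) _ _ _ _ (hE1 i)).some
      L2 := fun p => (@nonempty_lft A _ f (H9Pur.L C (a2 g p)) _ _ _ _ (hE2 p)).some
      L3 := fun t => (@nonempty_lft A _ f (H9Pur.L C (a3 g t)) _ _ _ _ (hE3 t)).some }
  have H1 : FinH I 1 C := (split_of_etale (f := f) (g := g) hE1).finH_one hg h1
  haveI := Λ.finite_N_zero hnz hg H1
  haveI := Λ.isStab hnz hg h2 hC
  haveI : Module.Finite A (Λ.cx hnz).M := (Λ.cx hnz).finite_M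
  refine ⟨Λ.Malg, secEq C g, inferInstance, inferInstance, inferInstance, inferInstance,
    Module.Finite.equiv (Λ.equivMalg hnz), Λ.finite_secEq_of_ker hnz, Λ.ρ, toSecEq C g,
    Λ.smul_injective_Malg hnz, fun y => Subtype.ext (funext fun i => ?_), Λ.exists_smul_of_ρ_eq_zero hnz,
    fun a ha => ?_⟩
  · show (Λ.L1 i).πQ 0 (f • y.1 0 i) = 0
    obtain ⟨z, hz⟩ := Ideal.Quotient.mk_surjective (y.1 0 i)
    rw [← hz]
    exact (Λ.L1 i).π_f z
  -- from the generators to all of the ideal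
  have hall : ∀ (N : Type u) [AddCommGroup N] [Module A N] (P : Submodule A N) (s : N),
      (∀ l, ∃ K, g l ^ K • s ∈ P) → ∃ K, a ^ K • s ∈ P := fun N _ _ P s hs => by
    let J : Ideal A := P.comap (LinearMap.toSpanSingleton A N s)
    have hrad : a ∈ J.radical := by
      rw [← hg] at ha
      refine (Ideal.span_le.2 ?_) ha
      rintro _ ⟨l, rfl⟩
      exact hs l
    exact hrad
  refine ⟨fun s => ?_, fun s => ?_, fun c hc => ?_⟩
  · obtain ⟨K, m, hm⟩ := hall (secEq C g) (LinearMap.range Λ.ρ.toLinearMap) s fun l => by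
      obtain ⟨K, m, hm⟩ := Λ.exists_ρ_eq_of_stab hnz s l
      exact ⟨K, m, hm.symm⟩
    exact ⟨K, m, hm.symm⟩
  · obtain ⟨K, c, hc⟩ := hall (secEq C g) (LinearMap.range (toSecEq C g).toLinearMap) s fun l => by
      have hx : (LinearEquiv.ofBijective Λ.π0 Λ.bijective_π0).symm s.1 ∈ (Λ.cx hnz).N 0 :=
        (Λ.mem_N_zero_iff hnz).2 fun p => by
          rw [LinearEquiv.apply_ofBijective_symm_apply]
          exact s.2 p
      obtain ⟨K, c, hc⟩ := Λ.exists_κ0_eq hnz hx l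
      refine ⟨K, c, Subtype.ext (funext fun i => ?_)⟩
      show algebraMap C (H9Pur.L C (g i)) c = g l ^ K • s.1 i
      rw [← Λ.π0_κL, ← hc, map_smul, LinearEquiv.apply_ofBijective_symm_apply]
      rfl
    exact ⟨K, c, hc.symm⟩
  · obtain ⟨K, hK⟩ := hall C ⊥ c fun l => by
      obtain ⟨K, hK⟩ := exists_kill_L (a := g l) (c := c) (congrFun (congrArg Subtype.val hc) l)
      exact ⟨K, hK⟩
    exact ⟨K, hK⟩

end Groth.Agent.LefAlgz
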