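import Groth.Agent.LefAlgz.HypExt
import Groth.Agent.AvramovLib.Localize
import Groth.Agent.AvramovLib.Ps
import Groth.Agent.LC.GorLoc
import Groth.Agent.LC.LiaisonLocal
import Groth.Agent.LC.DepthFlatFibre
import Groth.Agent.S0262
import Groth.Agent.S0546
import Groth.Agent.CILib.Basic

/-!
# Purity for complete intersections of dimension at least three
-/

noncomputable section

set_option autoImplicit false
set_option linter.style.haveILetI false
set_option backward.isDefEq.respectTransparency false
set_option backward.isDefEq.respectTransparency.types false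

universe u

open CategoryTheory CategoryTheory.Limits AlgebraicGeometry IsLocalRing RingTheory.Sequence Groth.Agent.Pi1Ext

attribute [-instance] CategoryTheory.catToReflQuiver

namespace Groth.Agent.LefAlgz

open Groth.Agent

/-- Purity descends from the completion. -/
theorem purityHolds_of_completion (A : Type u) [CommRing A] [IsNoetherianRing A] [IsLocalRing A]
    (h : FEt.PurityHolds (AdicCompletion (maximalIdeal A) A)) : FEt.PurityHolds A := by
  refine ⟨fun V => (S0262.result A V).2 ?_⟩
  let Ah := AdicCompletion (maximalIdeal A) A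
  let c : Spec (CommRingCat.of Ah) ⟶ Spec (CommRingCat.of A) := Spec.map (CommRingCat.ofHom (algebraMap A Ah))
  haveI : IsLocalHom (algebraMap A Ah) := AdicCompletion.algebraMap_isLocalHom_of_fg (IsNoetherian.noetherian _)
  have hc : ∀ q : PrimeSpectrum Ah, c q = closedPoint A ↔ q = closedPoint Ah := fun q => by
    show PrimeSpectrum.comap (algebraMap A Ah) q = closedPoint A ↔ _
    refine ⟨fun hq => PrimeSpectrum.ext ?_, fun hq => hq ▸ IsLocalRing.comap_closedPoint _⟩
    refine ((maximalIdeal.isMaximal Ah).eq_of_le q.2.ne_top ?_).symm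
    rw [AdicCompletion.maximalIdeal_eq_map (R := A), Ideal.map_le_iff_le_comap]
    exact (congrArg PrimeSpectrum.asIdeal hq).ge
  have hr : Set.range (pullback.snd (FEt.puncturedSpec A).ι c).base =
      Set.range (FEt.puncturedSpec Ah).ι.base := by
    rw [Scheme.Pullback.range_snd, Scheme.Opens.range_ι, Scheme.Opens.range_ι]
    ext q
    exact not_congr (hc q)
  let κ := IsOpenImmersion.isoOfRangeEq _ _ hr
  have hκ : κ.hom ≫ (FEt.puncturedSpec Ah).ι = pullback.snd (FEt.puncturedSpec A).ι c :=
    IsOpenImmersion.isoOfRangeEq_hom_fac _ _ hr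
  let V1 := (FEt.restrict (pullback.fst (FEt.puncturedSpec A).ι c)).obj V
  obtain ⟨Y, ⟨e⟩⟩ := h.mem_essImage ((FEt.restrict κ.inv).obj V1)
  exact ⟨Y, ⟨Spread.restrictComp κ.hom _ _ hκ.symm Y ≪≫ (FEt.restrict κ.hom).mapIso e ≪≫
    (Spread.restrictComp κ.hom κ.inv (𝟙 _) κ.hom_inv_id.symm V1).symm ≪≫ Spread.restrictId V1⟩⟩

/-- A local domain with a nonzero element in every nonzero prime has dimension at most one. -/
theorem ringKrullDim_le_one {B : Type u} [CommRing B] [IsDomain B] [IsLocalRing B] [IsNoetherianRing B] {x : B}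
    (hx : x ∈ maximalIdeal B) (hx0 : x ≠ 0) (h : ∀ q : Ideal B, q.IsPrime → q ≠ ⊥ → x ∈ q) :
    ringKrullDim B ≤ 1 := by
  classical
  have hne : ∀ q : Ideal B, q ∈ (Ideal.span {x}).minimalPrimes → q ≠ ⊥ := fun q hq hb =>
    hx0 ((Submodule.mem_bot B).1 (hb ▸ hq.1.2 (Ideal.mem_span_singleton_self x)))
  suffices hm : maximalIdeal B ∈ (Ideal.span {x}).minimalPrimes by
    have h1 := Ideal.height_le_one_of_isPrincipal_of_mem_minimalPrimes _ _ hm
    rw [← IsLocalRing.maximalIdeal_height_eq_ringKrullDim]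
    exact_mod_cast h1
  by_contra hm
  let s := (Ideal.finite_minimalPrimes_of_isNoetherianRing B (Ideal.span {x})).toFinset
  obtain ⟨y, hy, hys⟩ : ∃ y ∈ maximalIdeal B, y ∉ ⋃ q ∈ (s : Set (Ideal B)), (q : Set B) := by
    refine Set.not_subset.1 fun hsub => ?_
    obtain ⟨q, hq, hle⟩ := (Ideal.subset_union_prime ⊥ ⊥ (fun q hq _ _ =>
      ((Ideal.finite_minimalPrimes_of_isNoetherianRing B _).mem_toFinset.1 hq).1.1)).1 hsub
    have hq' := (Ideal.finite_minimalPrimes_of_isNoetherianRing B _).mem_toFinset.1 hq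
    exact hm ((maximalIdeal.isMaximal B).eq_of_le hq'.1.1.ne_top hle ▸ hq')
  have hy' : ∀ q ∈ (Ideal.span {x}).minimalPrimes, y ∉ q := fun q hq hyq =>
    hys (Set.mem_biUnion ((Ideal.finite_minimalPrimes_of_isNoetherianRing B _).mem_toFinset.2 hq) hyq)
  obtain ⟨q, hq, -⟩ := Ideal.exists_minimalPrimes_le (I := Ideal.span {y}) (J := maximalIdeal B)
    ((Ideal.span_singleton_le_iff_mem _).2 hy)
  haveI := hq.1.1
  have hy0 : y ≠ 0 := fun h0 => by
    obtain ⟨q', hq', -⟩ := Ideal.exists_minimalPrimes_le (I := Ideal.span {x}) (J := maximalIdeal B)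
      ((Ideal.span_singleton_le_iff_mem _).2 hx)
    exact hy' q' hq' (h0 ▸ zero_mem q')
  have hyq : y ∈ q := hq.1.2 (Ideal.mem_span_singleton_self y)
  have hq0 : q ≠ ⊥ := fun hb => hy0 ((Submodule.mem_bot B).1 (hb ▸ hyq))
  obtain ⟨q', hq', hle⟩ := Ideal.exists_minimalPrimes_le (I := Ideal.span {x}) (J := q)
    ((Ideal.span_singleton_le_iff_mem _).2 (h q inferInstance hq0))
  haveI := hq'.1.1
  have hlt : q' < q := lt_of_le_of_ne hle fun he => hy' q' hq' (he ▸ hyq)
  have h2 : (⊥ : Ideal B).height + 1 ≤ q'.height :=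
    Order.add_one_le_of_lt (Ideal.height_strict_mono_of_isPrime (bot_lt_iff_ne_bot.2 (hne q' hq')))
  have h3 : q'.height + 1 ≤ q.height := Order.add_one_le_of_lt (Ideal.height_strict_mono_of_isPrime hlt)
  have h4 : (1 : ℕ∞) + 1 ≤ 1 := le_trans (add_le_add (le_trans le_add_self h2) le_rfl)
    (h3.trans (Ideal.height_le_one_of_isPrincipal_of_mem_minimalPrimes _ q hq))
  exact absurd h4 (by norm_num)

/-- Quotients of regular local rings by regular sequences are Cohen–Macaulay. -/
theorem isCMLocal_quot {R : Type u} [CommRing R] [IsRegularLocalRing R] (rs : List R)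
    (hmem : ∀ r ∈ rs, r ∈ maximalIdeal R) (hreg : IsWeaklyRegular R rs) [IsLocalRing (R ⧸ Ideal.ofList rs)] :
    LocCoh.IsCohenMacaulayLocalRing (R ⧸ Ideal.ofList rs) := by
  haveI := AvramovLib.isCM_of_regular R
  have hM := LC.isCM_quot_ofList R (LocCoh.IsCohenMacaulayLocalRing.supportDim_eq_depth (R := R)) hreg hmem
  let e : (R ⧸ (Ideal.ofList rs • ⊤ : Submodule R R)) ≃ₗ[R] R ⧸ Ideal.ofList rs :=
    Submodule.quotEquivOfEq _ _ (by rw [smul_eq_mul, Ideal.mul_top])
  refine { supportDim_eq_depth := ?_ }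
  have hmax : (maximalIdeal R).map (Ideal.Quotient.mk (Ideal.ofList rs)) = maximalIdeal (R ⧸ Ideal.ofList rs) :=
    map_maximalIdeal_of_surjective _ Ideal.Quotient.mk_surjective
  rw [Module.supportDim_self_eq_ringKrullDim, ← Module.supportDim_quotient_eq_ringKrullDim,
    ← Module.supportDim_eq_of_equiv e, hM, LocCoh.depth, LocCoh.depth, LC.idealDepth_congr _ e, ← hmax,
    LC.idealDepth_quot_self_le]

theorem finH_of_dim {A : Type u} [CommRing A] [IsNoetherianRing A] [IsLocalRing A] (x : A)
    [LocCoh.IsCohenMacaulayLocalRing (A ⧸ Ideal.span {x})] {n : ℕ}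
    (hd : (n : WithBot ℕ∞) ≤ ringKrullDim (A ⧸ Ideal.span {x})) (i : ℕ) (hi : i < n) :
    FinH (maximalIdeal A) i (A ⧸ Ideal.span {x}) := by
  have h1 : (n : ℕ∞) ≤ LocCoh.idealDepth (maximalIdeal A) (A ⧸ Ideal.span {x}) := by
    rw [LC.idealDepth_quot_self_le, map_maximalIdeal_of_surjective _ Ideal.Quotient.mk_surjective]
    have h2 := LocCoh.IsCohenMacaulayLocalRing.supportDim_eq_depth (R := A ⧸ Ideal.span {x})
    rw [Module.supportDim_self_eq_ringKrullDim] at h2
    rw [h2] at hd
    exact WithBot.coe_le_coe.1 hd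
  haveI := (LC.le_idealDepth_iff_H (maximalIdeal A) (A ⧸ Ideal.span {x}) n).1 h1 i hi
  show Module.Finite A _
  exact inferInstanceAs (Module.Finite A (LocCoh.H (maximalIdeal A) i (A ⧸ Ideal.span {x})))

/-- The points to check: localisations away from the last equation. -/
theorem three_le_dim_atPrime {A : Type u} [CommRing A] [LocCoh.IsCohenMacaulayLocalRing A] {x : A}
    (hx : x ∈ maximalIdeal A) (hd : (4 : WithBot ℕ∞) ≤ ringKrullDim A) (P : Ideal (Localization.Away x))
    [P.IsMaximal] :
    (3 : WithBot ℕ∞) ≤ ringKrullDim (Localization.AtPrime (P.comap (algebraMap A (Localization.Away x)))) := by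
  let p := P.comap (algebraMap A (Localization.Away x))
  haveI : p.IsPrime := Ideal.comap_isPrime _ _
  have hxp : x ∉ p := fun hh => Ideal.IsPrime.ne_top inferInstance
    (Ideal.eq_top_of_isUnit_mem P hh (IsLocalization.Away.algebraMap_isUnit x))
  let B := A ⧸ p
  haveI : Nontrivial B := Ideal.Quotient.nontrivial_iff.2 (Ideal.IsPrime.ne_top inferInstance)
  haveI : IsLocalRing B := IsLocalRing.of_surjective' (Ideal.Quotient.mk p) Ideal.Quotient.mk_surjective
  have hsurj : Function.Surjective (Ideal.Quotient.mk p) := Ideal.Quotient.mk_surjective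
  have h1 : ringKrullDim B ≤ 1 := by
    refine ringKrullDim_le_one (x := Ideal.Quotient.mk p x) ?_ (fun h0 => hxp (Ideal.Quotient.eq_zero_iff_mem.1 h0))
      fun q' hq' hne => ?_
    · rw [← map_maximalIdeal_of_surjective _ hsurj]
      exact Ideal.mem_map_of_mem _ hx
    · haveI := hq'
      let q := q'.comap (Ideal.Quotient.mk p)
      show x ∈ q
      by_contra hxq
      have hpq : p ≤ q := fun z hz => by
        rw [Ideal.mem_comap, Ideal.Quotient.eq_zero_iff_mem.2 hz]; exact zero_mem q'
      have hdisj : Disjoint (Submonoid.powers x : Set A) (q : Set A) := by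
        rw [Set.disjoint_left]
        rintro _ ⟨m, rfl⟩ hm
        exact hxq (Ideal.IsPrime.mem_of_pow_mem inferInstance m hm)
      haveI hQ := IsLocalization.isPrime_of_isPrime_disjoint (Submonoid.powers x) (Localization.Away x) q inferInstance hdisj
      have hle : P ≤ q.map (algebraMap A (Localization.Away x)) := by
        rw [← IsLocalization.map_comap (Submonoid.powers x) (Localization.Away x) P]
        exact Ideal.map_mono hpq
      have hqp : q = p := by
        show q = P.comap _
        rw [Ideal.IsMaximal.eq_of_le ‹P.IsMaximal› hQ.ne_top hle]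
        exact (IsLocalization.under_map_of_isPrime_disjoint (Submonoid.powers x) (Localization.Away x) (inferInstanceAs q.IsPrime) hdisj).symm
      refine hne ?_
      rw [← Ideal.map_comap_of_surjective _ hsurj q', show q'.comap _ = p from hqp, Ideal.map_quotient_self]
  have h2 := LC.height_add_ringKrullDim_quotient p (Ideal.IsPrime.ne_top inferInstance)
  rw [IsLocalization.AtPrime.ringKrullDim_eq_height p (Localization.AtPrime p)]
  rw [← h2] at hd
  obtain ⟨b, hb⟩ := WithBot.ne_bot_iff_exists.1 (ne_bot_of_le_ne_bot (WithBot.coe_ne_bot (a := (0 : ℕ∞)))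
    (ringKrullDim_nonneg_of_nontrivial (R := B)))
  change (4 : WithBot ℕ∞) ≤ ringKrullDim B + _ at hd
  rw [← hb] at hd h1
  have hb1 : b ≤ 1 := WithBot.coe_le_coe.1 h1
  have h4 : (4 : ℕ∞) ≤ b + p.height := by
    rw [← WithBot.coe_add] at hd
    exact WithBot.coe_le_coe.1 hd
  have h5 : (1 : ℕ∞) + 3 ≤ 1 + p.height := le_trans (le_trans (by norm_num) h4) (add_le_add hb1 le_rfl)
  exact WithBot.coe_le_coe.2 ((ENat.add_le_add_iff_left (by norm_num : (1 : ℕ∞) ≠ ⊤)).1 h5)

theorem purityHolds_quot_ofList : ∀ (c : ℕ) (R : Type u) [CommRing R] [IsRegularLocalRing R] (rs : List R)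
    [IsLocalRing (R ⧸ Ideal.ofList rs)], rs.length = c → (∀ r ∈ rs, r ∈ maximalIdeal R) → IsWeaklyRegular R rs →
    (3 : WithBot ℕ∞) ≤ ringKrullDim (R ⧸ Ideal.ofList rs) → FEt.PurityHolds (R ⧸ Ideal.ofList rs) := by
  intro c
  induction c with
  | zero =>
    intro R _ _ rs _ hlen _ _ hd
    obtain rfl := List.length_eq_zero_iff.1 hlen
    let e : R ≃+* R ⧸ Ideal.ofList ([] : List R) :=
      (RingEquiv.quotientBot R).symm.trans (Ideal.quotEquivOfEq (by simp [Ideal.ofList]))
    refine purityHolds_of_ringEquiv e (PuritySch.purityHolds_of_regular R ?_)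
    rw [ringKrullDim_eq_of_ringEquiv e]
    exact le_trans (by norm_num) hd
  | succ c ih =>
    intro R _ _ rs _ hlen hmem hreg hd
    -- complete
    let A := R ⧸ Ideal.ofList rs
    let Rh := AdicCompletion (maximalIdeal R) R
    haveI := LC.Canon.isNoetherianRing_completion (R := R)
    haveI := LC.Canon.isNoetherianRing_completion (R := A)
    haveI := LC.Canon.faithfullyFlat_completion (R := R)
    haveI := CILib.isRegularLocalRing_adicCompletion R
    haveI := CILib.isAdicComplete_adicCompletion R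
    obtain ⟨τ, hτ, hτker⟩ := CILib.exists_completion_surjection (Ideal.Quotient.mk (Ideal.ofList rs)) Ideal.Quotient.mk_surjective
    rw [Ideal.mk_ker, Ideal.map_ofList] at hτker
    let rs2 := rs.map (algebraMap R Rh)
    have hreg2 : IsWeaklyRegular Rh rs2 := hreg.of_flat
    have hmem2 : ∀ r ∈ rs2, r ∈ maximalIdeal Rh := by
      intro r hr
      obtain ⟨a, ha, rfl⟩ := List.mem_map.1 hr
      rw [AdicCompletion.maximalIdeal_eq_map (R := R)]
      exact Ideal.mem_map_of_mem _ (hmem a ha)
    refine purityHolds_of_completion A ?_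
    -- split off the last equation
    obtain ⟨rs', x, hrs⟩ : ∃ rs' x, rs2 = rs' ++ [x] := by
      rcases List.eq_nil_or_concat rs2 with h0 | ⟨rs', x, h0⟩
      · exact absurd (congrArg List.length h0) (by simp [rs2, hlen])
      · exact ⟨rs', x, h0.trans List.concat_eq_append⟩
    have hlen' : rs'.length = c := by
      have := congrArg List.length hrs
      simp [rs2, hlen] at this
      omega
    have hmem' : ∀ r ∈ rs', r ∈ maximalIdeal Rh := fun r hr => hmem2 r (hrs ▸ List.mem_append_left _ hr)
    have hx : x ∈ maximalIdeal Rh := hmem2 x (hrs ▸ List.mem_append_right _ (List.mem_singleton_self x))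
    rw [hrs, isWeaklyRegular_append_iff, isWeaklyRegular_singleton_iff] at hreg2
    let I := Ideal.ofList rs'
    have hI : I ≤ maximalIdeal Rh := Ideal.span_le.2 hmem'
    let A' := Rh ⧸ I
    haveI : Nontrivial A' := Ideal.Quotient.nontrivial_iff.2 fun h => (maximalIdeal.isMaximal Rh).ne_top (top_le_iff.1 (h ▸ hI))
    haveI : IsLocalRing A' := IsLocalRing.of_surjective' (Ideal.Quotient.mk I) Ideal.Quotient.mk_surjective
    haveI := CILib.isAdicComplete_quotient I
    let x' : A' := Ideal.Quotient.mk I x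
    have hmax' : (maximalIdeal Rh).map (Ideal.Quotient.mk I) = maximalIdeal A' :=
      map_maximalIdeal_of_surjective _ Ideal.Quotient.mk_surjective
    have hx' : x' ∈ maximalIdeal A' := hmax' ▸ Ideal.mem_map_of_mem _ hx
    let J : Ideal A' := Ideal.span {x'}
    have hJ : J ≤ maximalIdeal A' := (Ideal.span_singleton_le_iff_mem _).2 hx'
    haveI : IsAdicComplete J A' := S0546.result _ _ _ hJ (Submodule.fg_span_singleton _) _
    haveI : Nontrivial (A' ⧸ J) := Ideal.Quotient.nontrivial_iff.2 fun h => (maximalIdeal.isMaximal A').ne_top (top_le_iff.1 (h ▸ hJ))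
    haveI : IsLocalRing (A' ⧸ J) := IsLocalRing.of_surjective' (Ideal.Quotient.mk J) Ideal.Quotient.mk_surjective
    have hsm : IsSMulRegular A' x' := by
      let e : (Rh ⧸ (I • ⊤ : Submodule Rh Rh)) ≃ₗ[Rh] A' :=
        Submodule.quotEquivOfEq _ _ (by rw [smul_eq_mul, Ideal.mul_top])
      have h1 : IsSMulRegular A' x := (e.isSMulRegular_congr x).1 hreg2.2
      intro a b hab
      exact h1 (by
        show x • a = x • b
        rw [Algebra.smul_def, Algebra.smul_def]
        exact hab)
    have hnz : x' ∈ nonZeroDivisors A' := mem_nonZeroDivisors_iff_left.2 fun z hz =>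
      hsm.right_eq_zero_of_smul hz
    -- the completion of `A` is `A' / x'`
    have hker : RingHom.ker τ = I ⊔ Ideal.span {x} := by
      rw [hτker, show rs.map (algebraMap R Rh) = rs' ++ [x] from hrs, Ideal.ofList_append, Ideal.ofList_singleton]
    have hJ' : (Ideal.span {x}).map (Ideal.Quotient.mk I) = J := by rw [Ideal.map_span, Set.image_singleton]
    let eA : A' ⧸ J ≃+* AdicCompletion (maximalIdeal A) A :=
      ((Ideal.quotEquivOfEq hJ'.symm).trans (DoubleQuot.quotQuotEquivQuotSup I (Ideal.span {x}))).trans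
        ((Ideal.quotEquivOfEq hker.symm).trans (RingHom.quotientKerEquivOfSurjective hτ))
    have hdA : (3 : WithBot ℕ∞) ≤ ringKrullDim (A' ⧸ J) := by
      rw [ringKrullDim_eq_of_ringEquiv eA, CILib.ringKrullDim_adicCompletion]
      exact hd
    have hd' : (4 : WithBot ℕ∞) ≤ ringKrullDim A' := by
      rw [← ringKrullDim_quotient_span_singleton_succ_eq_ringKrullDim hsm hx']
      exact le_trans (by norm_num : (4 : WithBot ℕ∞) ≤ 3 + 1) (add_le_add hdA le_rfl)
    haveI := isCMLocal_quot rs' hmem' hreg2.1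
    haveI : LocCoh.IsCohenMacaulayLocalRing (A' ⧸ J) := by
      let e : A' ⧸ J ≃+* Rh ⧸ Ideal.ofList (rs' ++ [x]) :=
        ((Ideal.quotEquivOfEq hJ'.symm).trans (DoubleQuot.quotQuotEquivQuotSup I (Ideal.span {x}))).trans
          (Ideal.quotEquivOfEq (by rw [Ideal.ofList_append, Ideal.ofList_singleton]))
      haveI : IsLocalRing (Rh ⧸ Ideal.ofList (rs' ++ [x])) := e.isLocalRing
      haveI := isCMLocal_quot (rs' ++ [x]) (hrs ▸ hmem2)
        ((isWeaklyRegular_append_iff Rh rs' [x]).2 ⟨hreg2.1, (isWeaklyRegular_singleton_iff _ _).2 hreg2.2⟩)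
      exact LC.Liaison.isCMLocal_of_ringEquiv e.symm
    have hA' : FEt.PurityHolds A' := ih Rh rs' hlen' hmem' hreg2.1 (le_trans (by norm_num) hd')
    refine purityHolds_of_ringEquiv eA (purityHolds_quot hx' hnz (finH_of_dim x' hdA 1 (by norm_num))
      (finH_of_dim x' hdA 2 (by norm_num)) (fun P hP => ?_) hA')
    -- the localisations
    haveI := hP
    have hP3 := three_le_dim_atPrime hx' hd' P
    let p := P.comap (algebraMap A' (Localization.Away x'))
    haveI : p.IsPrime := Ideal.comap_isPrime _ _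
    let q := p.comap (Ideal.Quotient.mk I)
    haveI : q.IsPrime := Ideal.comap_isPrime _ _
    let Rq := Localization.AtPrime q
    haveI := RegLoc6.isRegularRing_of_isRegularLocalRing Rh
    haveI := IsRegularRing.isRegularLocalRing_localization (R := Rh) q
    obtain ⟨e1⟩ := AvramovLib.exists_quot_localization_equiv (Ideal.Quotient.mk I) Ideal.Quotient.mk_surjective p
    rw [Ideal.mk_ker, Ideal.map_ofList] at e1
    have hmq : ∀ r ∈ rs', r ∈ q := fun r hr => by
      show Ideal.Quotient.mk I r ∈ p
      rw [show Ideal.Quotient.mk I r = 0 from Ideal.Quotient.eq_zero_iff_mem.2 (Ideal.subset_span hr)]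
      exact zero_mem p
    have hregq := RingTheory.Sequence.IsWeaklyRegular.isRegular_of_isLocalization_of_mem Rq q hreg2.1 hmq
    haveI : IsLocalRing (Rq ⧸ Ideal.ofList (rs'.map (algebraMap Rh Rq))) := e1.symm.isLocalRing
    have hmemq : ∀ r ∈ rs'.map (algebraMap Rh Rq), r ∈ maximalIdeal Rq := by
      intro r hr
      obtain ⟨a, ha, rfl⟩ := List.mem_map.1 hr
      exact (IsLocalization.AtPrime.to_map_mem_maximal_iff Rq q a).2 (hmq a ha)
    have key : FEt.PurityHolds (Localization.AtPrime p) :=
      purityHolds_of_ringEquiv e1 (ih Rq _ (by rw [List.length_map, hlen']) hmemq hregq.toIsWeaklyRegular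
        (hP3.trans_eq (ringKrullDim_eq_of_ringEquiv e1).symm))
    haveI : IsLocalization.AtPrime (Localization.AtPrime P) p :=
      IsLocalization.isLocalization_atPrime_localization_atPrime (M := Submonoid.powers x') P
    exact purityHolds_of_ringEquiv (IsLocalization.algEquiv p.primeCompl _ _).toRingEquiv key

/-- Purity for complete intersections of dimension at least three. -/
theorem purityHolds_of_ci (A : Type u) [CommRing A] [IsNoetherianRing A] [IsLocalRing A]
    (hA : Pi1.IsCompleteIntersection A) (hd : (3 : WithBot ℕ∞) ≤ ringKrullDim A) : FEt.PurityHolds A := by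
  obtain ⟨B, _, _, rs, hmem, hreg, ⟨e⟩⟩ := hA
  let e' : AdicCompletion (maximalIdeal A) A ≃+* B ⧸ Ideal.ofList rs := e
  haveI : IsLocalRing (B ⧸ Ideal.ofList rs) := e'.isLocalRing
  refine purityHolds_of_completion A (purityHolds_of_ringEquiv e'.symm
    (purityHolds_quot_ofList rs.length B rs rfl hmem hreg.toIsWeaklyRegular ?_))
  rw [← ringKrullDim_eq_of_ringEquiv e', CILib.ringKrullDim_adicCompletion]
  exact hd

end Groth.Agent.LefAlgz
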