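import Groth.Agent.LefAlgz.Tower
import Groth.Agent.Hensel.LiftEtaleAlg
import Mathlib.RingTheory.Smooth.Flat
import Mathlib.RingTheory.Flat.TorsionFree
import Mathlib.RingTheory.TensorProduct.Quotient
import Mathlib.LinearAlgebra.TensorProduct.Quotient

/-!
# Étale lifts of étale algebras along a principal ideal, and their thickenings
-/

noncomputable section

set_option autoImplicit false
set_option linter.style.haveILetI false

universe u

open TensorProduct

namespace Groth.Agent.LefAlgz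

open Groth.Agent

variable {A : Type u} [CommRing A] {f : A}

/-- An étale `A`-algebra with reduction `D` modulo `f`. -/
structure Lft (f : A) (D : Type u) [CommRing D] [Algebra A D] where
  E : Type u
  [ring : CommRing E]
  [alg : Algebra A E]
  [et : Algebra.Etale A E]
  π : E →ₐ[A] D
  π_surj : Function.Surjective π
  ker_π : ∀ x, π x = 0 → ∃ y, f • y = x
  π_f : ∀ y, π (f • y) = 0

attribute [instance] Lft.ring Lft.alg Lft.et

theorem nonempty_lft (D : Type u) [CommRing D] [Algebra A D] [Algebra (A ⧸ Ideal.span {f}) D]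
    [IsScalarTower A (A ⧸ Ideal.span {f}) D] [Algebra.Etale (A ⧸ Ideal.span {f}) D] : Nonempty (Lft f D) := by
  obtain ⟨E, _, _, hE, ⟨e⟩⟩ := Hensel.exists_etale_algebra_lift (A := A) (T := A ⧸ Ideal.span {f}) (C := D)
    Ideal.Quotient.mk_surjective
  have hsurj : Function.Surjective
      (fun x : E => ((1 : A ⧸ Ideal.span {f}) ⊗ₜ[A] x : (A ⧸ Ideal.span {f}) ⊗[A] E)) := fun z => by
    induction z using TensorProduct.induction_on with
    | zero => exact ⟨0, tmul_zero _ _⟩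
    | tmul a x =>
      obtain ⟨a, rfl⟩ := Ideal.Quotient.mk_surjective a
      refine ⟨a • x, ?_⟩
      simp only
      rw [tmul_smul, smul_tmul', Algebra.smul_def, mul_one]
      rfl
    | add x y hx hy =>
      obtain ⟨a, rfl⟩ := hx
      obtain ⟨b, rfl⟩ := hy
      exact ⟨a + b, tmul_add _ _ _⟩
  refine ⟨{ E := E
            π := (e.toAlgHom.restrictScalars A).comp Algebra.TensorProduct.includeRight
            π_surj := e.surjective.comp hsurj
            ker_π := fun x hx => ?_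
            π_f := fun y => ?_ }⟩
  · have h1 : (1 : A ⧸ Ideal.span {f}) ⊗ₜ[A] x = 0 := e.injective (hx.trans (map_zero e).symm)
    have h2 := congrArg (quotTensorEquivQuotSMul E (Ideal.span {f})) h1
    rw [map_zero, show (1 : A ⧸ Ideal.span {f}) = Ideal.Quotient.mk _ 1 from rfl,
      quotTensorEquivQuotSMul_mk_tmul, one_smul, Submodule.Quotient.mk_eq_zero,
      Submodule.ideal_span_singleton_smul] at h2
    obtain ⟨y, -, hy⟩ := h2
    exact ⟨y, hy⟩
  · show e ((1 : A ⧸ Ideal.span {f}) ⊗ₜ[A] (f • y)) = 0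
    rw [tmul_smul, smul_tmul', Algebra.smul_def, mul_one,
      show algebraMap A (A ⧸ Ideal.span {f}) f = 0 from
        Ideal.Quotient.eq_zero_iff_mem.2 (Ideal.mem_span_singleton_self f), zero_tmul, map_zero]

namespace Lft

variable {D D' D'' : Type u} [CommRing D] [Algebra A D] [CommRing D'] [Algebra A D'] [CommRing D'']
  [Algebra A D''] (L : Lft f D) (L' : Lft f D') (L'' : Lft f D'')

/-- The ideal of a thickening. -/
abbrev I (n : ℕ) : Ideal L.E := Ideal.span {algebraMap A L.E (f ^ (n + 1))}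

/-- The thickenings. -/
abbrev Q (n : ℕ) : Type u := L.E ⧸ L.I n

theorem mem_I {n : ℕ} {x : L.E} : x ∈ L.I n ↔ ∃ y, f ^ (n + 1) • y = x := by
  rw [Ideal.mem_span_singleton']
  exact exists_congr fun y => by rw [Algebra.smul_def, mul_comm]

theorem mk_pow_smul (n : ℕ) (y : L.E) : Ideal.Quotient.mk (L.I n) (f ^ (n + 1) • y) = 0 :=
  Ideal.Quotient.eq_zero_iff_mem.2 (L.mem_I.2 ⟨y, rfl⟩)

/-- The reduction of a thickening. -/
def πQ (n : ℕ) : L.Q n →ₐ[A] D :=
  Ideal.Quotient.liftₐ (L.I n) L.π fun x hx => by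
    obtain ⟨y, rfl⟩ := L.mem_I.1 hx
    rw [pow_succ', mul_smul, L.π_f]

theorem πQ_mk (n : ℕ) (x : L.E) : L.πQ n (Ideal.Quotient.mk (L.I n) x) = L.π x := rfl

theorem πQ_surj (n : ℕ) : Function.Surjective (L.πQ n) := fun d => by
  obtain ⟨x, rfl⟩ := L.π_surj d
  exact ⟨_, L.πQ_mk n x⟩

theorem πQ_injective : Function.Injective (L.πQ 0) := by
  rw [injective_iff_map_eq_zero]
  intro x hx
  obtain ⟨x, rfl⟩ := Ideal.Quotient.mk_surjective x
  obtain ⟨y, rfl⟩ := L.ker_π x hx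
  simpa using L.mk_pow_smul 0 y

theorem isNilpotent_ker (n : ℕ) : IsNilpotent (RingHom.ker (L.πQ n : L.Q n →+* D)) := by
  have hle : RingHom.ker (L.πQ n : L.Q n →+* D) ≤ Ideal.span {algebraMap A (L.Q n) f} := fun x hx => by
    obtain ⟨x, rfl⟩ := Ideal.Quotient.mk_surjective x
    obtain ⟨y, rfl⟩ := L.ker_π x hx
    refine Ideal.mem_span_singleton'.2 ⟨Ideal.Quotient.mk (L.I n) y, ?_⟩
    rw [mul_comm, Algebra.smul_def, map_mul]
    rfl
  refine ⟨n + 1, le_antisymm ((Ideal.pow_right_mono hle _).trans ?_) bot_le⟩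
  rw [Ideal.span_singleton_pow, Ideal.zero_eq_bot, le_bot_iff, Ideal.span_singleton_eq_bot, ← map_pow]
  exact Ideal.Quotient.eq_zero_iff_mem.2 (Ideal.mem_span_singleton_self _)

variable {L L' L''}

theorem exists_map (n : ℕ) (ψ : D →ₐ[A] D') :
    ∃ φ : L.Q n →ₐ[A] L'.Q n, ∀ x, L'.πQ n (φ x) = ψ (L.πQ n x) := by
  let φ₀ : L.E →ₐ[A] L'.Q n :=
    Algebra.FormallySmooth.liftOfSurjective (ψ.comp L.π) (L'.πQ n) (L'.πQ_surj n) (L'.isNilpotent_ker n)
  have h0 : ∀ x, L'.πQ n (φ₀ x) = ψ (L.π x) :=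
    fun x => Algebra.FormallySmooth.liftOfSurjective_apply (ψ.comp L.π) (L'.πQ n) (L'.πQ_surj n) (L'.isNilpotent_ker n) x
  refine ⟨Ideal.Quotient.liftₐ (L.I n) φ₀ fun x hx => ?_, fun x => ?_⟩
  · obtain ⟨y, rfl⟩ := L.mem_I.1 hx
    obtain ⟨z, hz⟩ := Ideal.Quotient.mk_surjective (φ₀ y)
    rw [map_smul, ← hz]
    exact L'.mk_pow_smul n z
  · obtain ⟨x, rfl⟩ := Ideal.Quotient.mk_surjective x
    exact h0 x

theorem map_unique {n : ℕ} {φ φ' : L.Q n →ₐ[A] L'.Q n} (h : ∀ x, L'.πQ n (φ x) = L'.πQ n (φ' x)) :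
    φ = φ' := by
  have h1 := Algebra.FormallyUnramified.ext' (R := A) (A := L.E) (L'.πQ n : L'.Q n →+* D')
    (L'.isNilpotent_ker n) (φ.comp (Ideal.Quotient.mkₐ A (L.I n))) (φ'.comp (Ideal.Quotient.mkₐ A (L.I n)))
    fun x => h _
  exact Ideal.Quotient.algHom_ext A h1

variable (L L')

/-- The map of thickenings over a map of reductions. -/
def map (n : ℕ) (ψ : D →ₐ[A] D') : L.Q n →ₐ[A] L'.Q n := (exists_map n ψ).choose

theorem πQ_map (n : ℕ) (ψ : D →ₐ[A] D') (x : L.Q n) : L'.πQ n (L.map L' n ψ x) = ψ (L.πQ n x) :=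
  (exists_map n ψ).choose_spec x

theorem map_map (n : ℕ) (ψ : D →ₐ[A] D') (ψ' : D' →ₐ[A] D'') (x : L.Q n) :
    L'.map L'' n ψ' (L.map L' n ψ x) = L.map L'' n (ψ'.comp ψ) x :=
  AlgHom.congr_fun (map_unique (φ := (L'.map L'' n ψ').comp (L.map L' n ψ)) (φ' := L.map L'' n (ψ'.comp ψ))
    fun x => by rw [AlgHom.comp_apply, πQ_map, πQ_map, πQ_map]; rfl) x

/-- The reduction between thickenings. -/
def redQ (n : ℕ) : L.Q (n + 1) →ₐ[A] L.Q n :=
  Ideal.Quotient.factorₐ A fun x hx => by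
    obtain ⟨y, rfl⟩ := L.mem_I.1 hx
    exact L.mem_I.2 ⟨f • y, by rw [smul_smul, ← pow_succ]⟩

theorem redQ_mk (n : ℕ) (x : L.E) :
    L.redQ n (Ideal.Quotient.mk (L.I (n + 1)) x) = Ideal.Quotient.mk (L.I n) x := rfl

theorem πQ_redQ (n : ℕ) (x : L.Q (n + 1)) : L.πQ n (L.redQ n x) = L.πQ (n + 1) x := by
  obtain ⟨x, rfl⟩ := Ideal.Quotient.mk_surjective x
  rfl

theorem map_redQ (n : ℕ) (ψ : D →ₐ[A] D') (x : L.Q (n + 1)) :
    L.map L' n ψ (L.redQ n x) = L'.redQ n (L.map L' (n + 1) ψ x) := by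
  obtain ⟨z, rfl⟩ := Ideal.Quotient.mk_surjective x
  have h : (L.map L' n ψ).comp (Ideal.Quotient.mkₐ A (L.I n)) =
      (L'.redQ n).comp ((L.map L' (n + 1) ψ).comp (Ideal.Quotient.mkₐ A (L.I (n + 1)))) :=
    Algebra.FormallyUnramified.ext' (L'.πQ n : L'.Q n →+* D') (L'.isNilpotent_ker n) _ _ fun z => by
      show L'.πQ n (L.map L' n ψ (Ideal.Quotient.mk (L.I n) z)) =
        L'.πQ n (L'.redQ n (L.map L' (n + 1) ψ (Ideal.Quotient.mk (L.I (n + 1)) z)))
      rw [πQ_map, πQ_redQ, πQ_map, πQ_mk, πQ_mk]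
  exact AlgHom.congr_fun h z

variable (hnz : f ∈ nonZeroDivisors A)

include hnz in
theorem smul_injective : Function.Injective fun x : L.E => f • x :=
  Module.Flat.isSMulRegular_of_nonZeroDivisors hnz

/-- The tower of thickenings. -/
def tower : FTower A f where
  B n := L.Q n
  red n := (L.redQ n).toLinearMap
  red_surj n x := by
    obtain ⟨x, rfl⟩ := Ideal.Quotient.mk_surjective x
    exact ⟨Ideal.Quotient.mk (L.I (n + 1)) x, rfl⟩
  ker_red n x hx := by
    obtain ⟨x, rfl⟩ := Ideal.Quotient.mk_surjective x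
    obtain ⟨y, rfl⟩ := L.mem_I.1 (Ideal.Quotient.eq_zero_iff_mem.1 hx)
    exact ⟨Ideal.Quotient.mk _ y, rfl⟩
  killed n x := by
    obtain ⟨x, rfl⟩ := Ideal.Quotient.mk_surjective x
    exact L.mk_pow_smul n x
  reg n x hx := by
    obtain ⟨x, rfl⟩ := Ideal.Quotient.mk_surjective x
    obtain ⟨y, hy⟩ := L.mem_I.1 (Ideal.Quotient.eq_zero_iff_mem.1 (show Ideal.Quotient.mk (L.I (n + 1)) (f • x) = 0 from hx))
    refine ⟨Ideal.Quotient.mk _ y, ?_⟩
    have : f • (f ^ (n + 1) • y) = f • x := by rw [smul_smul, ← pow_succ', hy]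
    exact congrArg (Ideal.Quotient.mk (L.I (n + 1))) (L.smul_injective hnz this)

/-- The morphism of towers over a map of reductions. -/
def towerMap (ψ : D →ₐ[A] D') : FTower.Hom (L.tower hnz) (L'.tower hnz) where
  app n := (L.map L' n ψ).toLinearMap
  comm n x := L.map_redQ L' n ψ x

end Lft

end Groth.Agent.LefAlgz
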