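import Groth.Agent.LefAlgz.Limit
import Groth.Agent.LefAlgz.CechFin
import Groth.Agent.LefAlgz.Lifts
import Groth.Agent.H9Lef.SecAlg

/-!
# The Čech complex of thickenings of an algebra étale away from an ideal
-/

noncomputable section

set_option autoImplicit false
set_option linter.style.haveILetI false
set_option backward.isDefEq.respectTransparency false
set_option backward.isDefEq.respectTransparency.types false

universe u

namespace Groth.Agent.LefAlgz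

open Groth.Agent Groth.Agent.H9Lef

variable {A : Type u} [CommRing A] {f : A}

/-- Products of towers. -/
def FTower.pi {ι : Type} (T : ι → FTower A f) : FTower A f where
  B n := ∀ i, (T i).B n
  red n := LinearMap.pi fun i => (T i).red n ∘ₗ LinearMap.proj i
  red_surj n x := ⟨fun i => ((T i).red_surj n (x i)).choose, funext fun i => ((T i).red_surj n (x i)).choose_spec⟩
  ker_red n x hx := ⟨fun i => ((T i).ker_red n (x i) (congrFun hx i)).choose,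
    funext fun i => ((T i).ker_red n (x i) (congrFun hx i)).choose_spec⟩
  killed n x := funext fun i => (T i).killed n (x i)
  reg n x hx := ⟨fun i => ((T i).reg n (x i) (congrFun hx i)).choose,
    funext fun i => ((T i).reg n (x i) (congrFun hx i)).choose_spec⟩

variable (C : Type u) [CommRing C] [Algebra A C]

theorem isUnit_L_dvd {a b : A} (h : a ∣ b) : IsUnit (algebraMap A (H9Pur.L C b) a) :=
  isUnit_of_dvd_unit (map_dvd _ h) (H9Pur.isUnit_L b)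

/-- Restriction to a smaller standard open. -/
def resC {a b : A} (h : a ∣ b) : H9Pur.L C a →ₐ[A] H9Pur.L C b :=
  H9Lef.extL a (isUnit_L_dvd C h) (IsScalarTower.toAlgHom A C (H9Pur.L C b))

theorem resC_algebraMap {a b : A} (h : a ∣ b) (c : C) :
    resC C h (algebraMap C _ c) = algebraMap C (H9Pur.L C b) c :=
  H9Lef.extL_algebraMap _ _ _ c

theorem resC_resC {a b c : A} (h : a ∣ b) (h' : b ∣ c) (x : H9Pur.L C a) :
    resC C h' (resC C h x) = resC C (h.trans h') x :=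
  H9Lef.ext_L (φ := (resC C h').comp (resC C h)) (ψ := resC C (h.trans h')) (fun z => by
    rw [AlgHom.comp_apply, resC_algebraMap, resC_algebraMap, resC_algebraMap]) x

theorem resC_comp {a b c : A} (h : a ∣ b) (h' : b ∣ c) : (resC C h').comp (resC C h) = resC C (h.trans h') :=
  AlgHom.ext (resC_resC C h h')

variable {C}

theorem exists_frac_L (a : A) (x : H9Pur.L C a) : ∃ (k : ℕ) (c : C), a ^ k • x = algebraMap C _ c := by
  haveI := H9Lef.isLocalizedModule_lC C a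
  obtain ⟨⟨c, ⟨_, k, rfl⟩⟩, h⟩ := IsLocalizedModule.surj (Submonoid.powers a) (H9Lef.lC C a) x
  exact ⟨k, c, h⟩

theorem exists_kill_L {a : A} {c : C} (h : algebraMap C (H9Pur.L C a) c = 0) : ∃ k, a ^ k • c = 0 := by
  haveI := H9Lef.isLocalizedModule_lC C a
  obtain ⟨⟨_, k, rfl⟩, hk⟩ := (IsLocalizedModule.eq_zero_iff (Submonoid.powers a) (H9Lef.lC C a)).1 h
  exact ⟨k, hk⟩

theorem smul_bijective_L {a b : A} (h : b ∣ a) (k : ℕ) :
    Function.Bijective fun x : H9Pur.L C a => b ^ k • x := by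
  have := ((isUnit_L_dvd C h).pow k)
  rw [← map_pow] at this
  convert (IsUnit.isUnit_iff_mulLeft_bijective.1 this) using 1
  funext x
  exact Algebra.smul_def _ x

theorem exists_kill_resC {u b a : A} (ha : a = u * b) (h : b ∣ a) {x : H9Pur.L C b} (hx : resC C h x = 0) :
    ∃ K, u ^ K • x = 0 := by
  subst ha
  obtain ⟨k, c, hc⟩ := exists_frac_L b x
  obtain ⟨m, hm⟩ := exists_kill_L (a := u * b) (c := c) (by
    rw [← resC_algebraMap C h, ← hc, map_smul, hx, smul_zero])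
  refine ⟨m, (smul_bijective_L (dvd_refl b) (m + k)).1 ?_⟩
  show b ^ (m + k) • u ^ m • x = b ^ (m + k) • 0
  rw [smul_zero, pow_add, smul_smul, show b ^ m * b ^ k * u ^ m = (u * b) ^ m * b ^ k by ring, mul_smul, hc,
    show algebraMap C (H9Pur.L C b) c = H9Lef.lC C b c from rfl, ← map_smul, hm, map_zero]

theorem exists_resC_eq {u b a : A} (ha : a = u * b) (h : b ∣ a) (y : H9Pur.L C a) :
    ∃ K, ∀ L, K ≤ L → ∃ x : H9Pur.L C b, resC C h x = u ^ L • y := by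
  subst ha
  obtain ⟨k, c, hc⟩ := exists_frac_L (u * b) y
  obtain ⟨x, hx⟩ := (smul_bijective_L (dvd_refl b) k).2 (algebraMap C (H9Pur.L C b) c)
  refine ⟨k, fun L hL => ?_⟩
  obtain ⟨e, rfl⟩ := Nat.exists_eq_add_of_le hL
  refine ⟨u ^ e • x, (smul_bijective_L h k).1 ?_⟩
  show b ^ k • resC C h (u ^ e • x) = b ^ k • u ^ (k + e) • y
  rw [map_smul, smul_comm, ← map_smul (resC C h) (b ^ k), show b ^ k • x = _ from hx, resC_algebraMap, ← hc,
    smul_smul, smul_smul]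
  congr 1
  ring

variable {r : ℕ} (g : Fin r → A)

/-- The index of a double intersection. -/
abbrev a2 (p : Fin r × Fin r) : A := g p.1 * g p.2

/-- The index of a triple intersection. -/
abbrev a3 (t : Fin r × Fin r × Fin r) : A := g t.1 * g t.2.1 * g t.2.2

theorem dvd_a3₁ (t : Fin r × Fin r × Fin r) : a2 g (t.1, t.2.1) ∣ a3 g t := dvd_mul_right _ _

theorem dvd_a3₂ (t : Fin r × Fin r × Fin r) : a2 g (t.1, t.2.2) ∣ a3 g t := ⟨g t.2.1, by simp only [a2, a3]; ring⟩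

theorem dvd_a3₀ (t : Fin r × Fin r × Fin r) : a2 g (t.2.1, t.2.2) ∣ a3 g t := ⟨g t.1, by simp only [a2, a3]; ring⟩

/-- Chosen lifts on all intersections. -/
structure Lifting (f : A) (C : Type u) [CommRing C] [Algebra A C] {r : ℕ} (g : Fin r → A) where
  L1 : ∀ i, Lft f (H9Pur.L C (g i))
  L2 : ∀ p, Lft f (H9Pur.L C (a2 g p))
  L3 : ∀ t, Lft f (H9Pur.L C (a3 g t))

variable {g} (Λ : Lifting f C g) (hnz : f ∈ nonZeroDivisors A)

namespace Lifting

/-- Restriction of thickenings to the first open. -/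
def r1 (n : ℕ) (p : Fin r × Fin r) : (Λ.L1 p.1).Q n →ₐ[A] (Λ.L2 p).Q n :=
  (Λ.L1 p.1).map (Λ.L2 p) n (resC C (dvd_mul_right _ _))

/-- Restriction of thickenings to the second open. -/
def r2 (n : ℕ) (p : Fin r × Fin r) : (Λ.L1 p.2).Q n →ₐ[A] (Λ.L2 p).Q n :=
  (Λ.L1 p.2).map (Λ.L2 p) n (resC C (dvd_mul_left _ _))

/-- The Čech complex of the thickenings. -/
def cx : Cx A f where
  C0 := FTower.pi fun i => (Λ.L1 i).tower hnz
  C1 := FTower.pi fun p => (Λ.L2 p).tower hnz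
  C2 := FTower.pi fun t => (Λ.L3 t).tower hnz
  d :=
    { app := fun n => LinearMap.pi fun p =>
        (Λ.r2 n p).toLinearMap ∘ₗ LinearMap.proj p.2 - (Λ.r1 n p).toLinearMap ∘ₗ LinearMap.proj p.1
      comm := fun n x => funext fun p => by
        show Λ.r2 n p ((Λ.L1 p.2).redQ n (x p.2)) - Λ.r1 n p ((Λ.L1 p.1).redQ n (x p.1)) =
          (Λ.L2 p).redQ n (Λ.r2 (n + 1) p (x p.2) - Λ.r1 (n + 1) p (x p.1))
        rw [map_sub]
        exact congrArg₂ (· - ·) (Lft.map_redQ _ _ n _ _) (Lft.map_redQ _ _ n _ _) }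
  e :=
    { app := fun n => LinearMap.pi fun t =>
        ((Λ.L2 (t.2.1, t.2.2)).map (Λ.L3 t) n (resC C (dvd_a3₀ g t))).toLinearMap ∘ₗ
            LinearMap.proj (t.2.1, t.2.2) -
          ((Λ.L2 (t.1, t.2.2)).map (Λ.L3 t) n (resC C (dvd_a3₂ g t))).toLinearMap ∘ₗ
            LinearMap.proj (t.1, t.2.2) +
          ((Λ.L2 (t.1, t.2.1)).map (Λ.L3 t) n (resC C (dvd_a3₁ g t))).toLinearMap ∘ₗ
            LinearMap.proj (t.1, t.2.1)
      comm := fun n x => funext fun t => by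
        show (Λ.L2 (t.2.1, t.2.2)).map (Λ.L3 t) n (resC C (dvd_a3₀ g t))
              ((Λ.L2 (t.2.1, t.2.2)).redQ n (x (t.2.1, t.2.2))) -
            (Λ.L2 (t.1, t.2.2)).map (Λ.L3 t) n (resC C (dvd_a3₂ g t))
              ((Λ.L2 (t.1, t.2.2)).redQ n (x (t.1, t.2.2))) +
            (Λ.L2 (t.1, t.2.1)).map (Λ.L3 t) n (resC C (dvd_a3₁ g t))
              ((Λ.L2 (t.1, t.2.1)).redQ n (x (t.1, t.2.1))) =
          (Λ.L3 t).redQ n ((Λ.L2 (t.2.1, t.2.2)).map (Λ.L3 t) (n + 1) (resC C (dvd_a3₀ g t)) (x (t.2.1, t.2.2)) -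
            (Λ.L2 (t.1, t.2.2)).map (Λ.L3 t) (n + 1) (resC C (dvd_a3₂ g t)) (x (t.1, t.2.2)) +
            (Λ.L2 (t.1, t.2.1)).map (Λ.L3 t) (n + 1) (resC C (dvd_a3₁ g t)) (x (t.1, t.2.1)))
        rw [map_add, map_sub, Lft.map_redQ, Lft.map_redQ, Lft.map_redQ] }
  ed n x := funext fun t => by
    show (Λ.L2 (t.2.1, t.2.2)).map (Λ.L3 t) n (resC C (dvd_a3₀ g t))
          (Λ.r2 n (t.2.1, t.2.2) (x t.2.2) - Λ.r1 n (t.2.1, t.2.2) (x t.2.1)) -
        (Λ.L2 (t.1, t.2.2)).map (Λ.L3 t) n (resC C (dvd_a3₂ g t))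
          (Λ.r2 n (t.1, t.2.2) (x t.2.2) - Λ.r1 n (t.1, t.2.2) (x t.1)) +
        (Λ.L2 (t.1, t.2.1)).map (Λ.L3 t) n (resC C (dvd_a3₁ g t))
          (Λ.r2 n (t.1, t.2.1) (x t.2.1) - Λ.r1 n (t.1, t.2.1) (x t.1)) = 0
    simp only [r1, r2, map_sub, Lft.map_map, resC_comp]
    abel

theorem mem_N_iff {n : ℕ} {x : ∀ i, (Λ.L1 i).Q n} :
    x ∈ (Λ.cx hnz).N n ↔ ∀ p, Λ.r2 n p (x p.2) = Λ.r1 n p (x p.1) :=
  funext_iff.trans (forall_congr' fun _ => sub_eq_zero)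

/-- The reduction of level zero to functions on the opens. -/
def π0 : (∀ i, (Λ.L1 i).Q 0) →ₗ[A] (∀ i, H9Pur.L C (g i)) :=
  LinearMap.pi fun i => ((Λ.L1 i).πQ 0).toLinearMap ∘ₗ LinearMap.proj i

theorem bijective_π0 : Function.Bijective Λ.π0 :=
  ⟨fun x y h => funext fun i => (Λ.L1 i).πQ_injective (congrFun h i),
    fun y => ⟨fun i => ((Λ.L1 i).πQ_surj 0 (y i)).choose, funext fun i => ((Λ.L1 i).πQ_surj 0 (y i)).choose_spec⟩⟩

theorem pair_iff (p : Fin r × Fin r) (x : ∀ i, (Λ.L1 i).Q 0) :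
    Λ.r2 0 p (x p.2) = Λ.r1 0 p (x p.1) ↔
      resC C (dvd_mul_left (g p.2) (g p.1)) (Λ.π0 x p.2) = resC C (dvd_mul_right (g p.1) (g p.2)) (Λ.π0 x p.1) := by
  have h2 : (Λ.L2 p).πQ 0 (Λ.r2 0 p (x p.2)) = resC C (dvd_mul_left (g p.2) (g p.1)) (Λ.π0 x p.2) :=
    Lft.πQ_map (Λ.L1 p.2) (Λ.L2 p) 0 _ (x p.2)
  have h1 : (Λ.L2 p).πQ 0 (Λ.r1 0 p (x p.1)) = resC C (dvd_mul_right (g p.1) (g p.2)) (Λ.π0 x p.1) :=
    Lft.πQ_map (Λ.L1 p.1) (Λ.L2 p) 0 _ (x p.1)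
  rw [← h1, ← h2, (Λ.L2 p).πQ_injective.eq_iff]

theorem mem_N_zero_iff {x : ∀ i, (Λ.L1 i).Q 0} : x ∈ (Λ.cx hnz).N 0 ↔
    ∀ p : Fin r × Fin r, resC C (dvd_mul_left (g p.2) (g p.1)) (Λ.π0 x p.2) =
      resC C (dvd_mul_right (g p.1) (g p.2)) (Λ.π0 x p.1) :=
  (Λ.mem_N_iff hnz).trans (forall_congr' fun p => Λ.pair_iff p x)

include hnz in
theorem smul_bijective_Q {a b : A} (L : Lft f (H9Pur.L C a)) (h : b ∣ a) (k : ℕ) :
    Function.Bijective fun x : L.Q 0 => b ^ k • x :=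
  ⟨fun x y hxy => L.πQ_injective ((smul_bijective_L h k).1 (by
      show b ^ k • L.πQ 0 x = b ^ k • L.πQ 0 y
      rw [← map_smul, ← map_smul]
      exact congrArg (L.πQ 0) hxy)),
    fun y => by
      obtain ⟨z, hz⟩ := (smul_bijective_L h k).2 (L.πQ 0 y)
      obtain ⟨x, rfl⟩ := L.πQ_surj 0 z
      exact ⟨x, L.πQ_injective ((map_smul (L.πQ 0) _ x).trans hz)⟩⟩

theorem exists_coboundary {z : ∀ p, (Λ.L2 p).Q 0} (hz : (Λ.cx hnz).e.app 0 z = 0) (l : Fin r) :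
    ∃ K, g l ^ K • z ∈ LinearMap.range ((Λ.cx hnz).d.app 0) := by
  choose K hK using fun i : Fin r =>
    exists_resC_eq (C := C) (u := g l) (b := g i) (a := a2 g (l, i)) rfl (dvd_mul_left _ _) ((Λ.L2 (l, i)).πQ 0 (z (l, i)))
  choose x hx using fun i => hK i (Finset.univ.sup K) (Finset.le_sup (f := K) (Finset.mem_univ i))
  obtain ⟨y, hy⟩ := Λ.bijective_π0.2 x
  let K₀ := Finset.univ.sup K
  -- the difference dies on the intersection with the open `D(g l)`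
  have key : ∀ p : Fin r × Fin r, ∃ M, g l ^ M • (Λ.L2 p).πQ 0
      (g l ^ K₀ • z p - (Λ.r2 0 p (y p.2) - Λ.r1 0 p (y p.1))) = 0 := fun p => by
    have hc := congrArg ((Λ.L3 (l, p.1, p.2)).πQ 0) (congrFun hz (l, p.1, p.2))
    change (Λ.L3 (l, p.1, p.2)).πQ 0 ((Λ.L2 (p.1, p.2)).map (Λ.L3 (l, p.1, p.2)) 0 (resC C (dvd_a3₀ g (l, p.1, p.2)))
          (z (p.1, p.2)) -
        (Λ.L2 (l, p.2)).map (Λ.L3 (l, p.1, p.2)) 0 (resC C (dvd_a3₂ g (l, p.1, p.2))) (z (l, p.2)) +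
        (Λ.L2 (l, p.1)).map (Λ.L3 (l, p.1, p.2)) 0 (resC C (dvd_a3₁ g (l, p.1, p.2))) (z (l, p.1))) =
      (Λ.L3 (l, p.1, p.2)).πQ 0 0 at hc
    rw [map_add, map_sub, Lft.πQ_map, Lft.πQ_map, Lft.πQ_map, map_zero] at hc
    refine exists_kill_resC (C := C) (u := g l) (a := a3 g (l, p.1, p.2)) (by simp only [a2, a3]; ring)
      (dvd_a3₀ g (l, p.1, p.2)) ?_
    simp only [map_sub, map_smul, r1, r2, Lft.πQ_map, resC_resC]
    have e1 := congrArg (resC C (dvd_a3₁ g (l, p.1, p.2))) (hx p.1)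
    have e2 := congrArg (resC C (dvd_a3₂ g (l, p.1, p.2))) (hx p.2)
    rw [resC_resC, map_smul, ← congrFun hy p.1] at e1
    rw [resC_resC, map_smul, ← congrFun hy p.2] at e2
    simp only [π0, LinearMap.pi_apply, LinearMap.comp_apply, LinearMap.proj_apply, AlgHom.toLinearMap_apply] at e1 e2
    rw [e1, e2]
    have h3 := congrArg (g l ^ K₀ • ·) hc
    simp only [smul_add, smul_sub, smul_zero] at h3
    rw [← h3]
    abel
  choose M hM using key
  refine ⟨Finset.univ.sup M + K₀, g l ^ Finset.univ.sup M • y, funext fun p => (Λ.L2 p).πQ_injective ?_⟩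
  obtain ⟨e, he⟩ := Nat.exists_eq_add_of_le (Finset.le_sup (f := M) (Finset.mem_univ p))
  show (Λ.L2 p).πQ 0 (Λ.r2 0 p (g l ^ Finset.univ.sup M • y p.2) - Λ.r1 0 p (g l ^ Finset.univ.sup M • y p.1)) =
    (Λ.L2 p).πQ 0 (g l ^ (Finset.univ.sup M + K₀) • z p)
  symm
  rw [← sub_eq_zero, ← map_sub, map_smul (Λ.r2 0 p), map_smul (Λ.r1 0 p), ← smul_sub, pow_add, mul_smul, ← smul_sub,
    he, add_comm, pow_add, mul_smul, map_smul, map_smul, hM, smul_zero]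

include hnz in
theorem torsionSub_W [IsNoetherianRing A] {I : Ideal A} (hI : ∀ i, g i ∈ I) :
    DRing.torsionSub I (∀ p, (Λ.L2 p).Q 0) = ⊥ := by
  refine (Submodule.eq_bot_iff _).2 fun x hx => funext fun p => ?_
  obtain ⟨n, hn⟩ := hx
  refine (smul_bijective_Q hnz (Λ.L2 p) (dvd_mul_right (g p.1) (g p.2)) n).1 ?_
  show g p.1 ^ n • x p = g p.1 ^ n • 0
  rw [smul_zero]
  exact congrFun (hn _ (Ideal.pow_mem_pow (hI p.1) n)) p

/-- An element of the algebra as a family at level zero. -/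
def κL : C →ₗ[A] (∀ i, (Λ.L1 i).Q 0) :=
  (LinearEquiv.ofBijective Λ.π0 Λ.bijective_π0).symm.toLinearMap ∘ₗ LinearMap.pi fun i => H9Lef.lC C (g i)

theorem π0_κL (c : C) (i : Fin r) : Λ.π0 (Λ.κL c) i = algebraMap C (H9Pur.L C (g i)) c :=
  congrFun (LinearEquiv.apply_ofBijective_symm_apply (f := Λ.π0) (h := Λ.bijective_π0)
    ((LinearMap.pi fun i => H9Lef.lC C (g i)) c)) i

theorem κL_mem (c : C) : Λ.κL c ∈ (Λ.cx hnz).N 0 := (Λ.mem_N_zero_iff hnz).2 fun p => by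
  rw [π0_κL, π0_κL, resC_algebraMap, resC_algebraMap]

/-- An element of the algebra as a section. -/
def κ0 : C →ₗ[A] (Λ.cx hnz).N 0 := LinearMap.codRestrict _ Λ.κL (Λ.κL_mem hnz)

theorem exists_κ0_eq {x : ∀ i, (Λ.L1 i).Q 0} (hx : x ∈ (Λ.cx hnz).N 0) (l : Fin r) :
    ∃ K c, g l ^ K • x = Λ.κL c := by
  obtain ⟨k, c, hc⟩ := exists_frac_L (g l) (Λ.π0 x l)
  have key : ∀ i, ∃ M, g l ^ M • (g l ^ k • Λ.π0 x i - algebraMap C (H9Pur.L C (g i)) c) = 0 := fun i => by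
    refine exists_kill_resC (u := g l) (a := g l * g i) rfl (dvd_mul_left _ _) ?_
    have h := (Λ.mem_N_zero_iff hnz).1 hx (l, i)
    rw [map_sub, map_smul, h, ← map_smul, hc, resC_algebraMap, resC_algebraMap, sub_self]
  choose M hM using key
  refine ⟨Finset.univ.sup M + k, g l ^ Finset.univ.sup M • c, Λ.bijective_π0.1 (funext fun i => ?_)⟩
  obtain ⟨e, he⟩ := Nat.exists_eq_add_of_le (Finset.le_sup (f := M) (Finset.mem_univ i))
  rw [π0_κL, map_smul, Pi.smul_apply, ← sub_eq_zero,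
    show algebraMap C (H9Pur.L C (g i)) (g l ^ Finset.univ.sup M • c) = g l ^ Finset.univ.sup M • algebraMap C (H9Pur.L C (g i)) c
      from map_smul (H9Lef.lC C (g i)) _ _, pow_add, mul_smul, ← smul_sub, he, add_comm, pow_add, mul_smul, hM, smul_zero]

theorem finite_zero [IsNoetherianRing A] {I : Ideal A} (hg : Ideal.span (Set.range g) = I) [Module.Finite A C]
    (h1 : FinH I 1 C) (h2 : FinH I 2 C) :
    Module.Finite A ((Λ.cx hnz).N 0) ∧ Module.Finite A (Λ.cx hnz).H := by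
  have hI : ∀ i, g i ∈ I := fun i => hg ▸ Ideal.subset_span ⟨i, rfl⟩
  refine finite_cech (g := g) hg (X := ∀ i, (Λ.L1 i).Q 0) (W := ∀ p, (Λ.L2 p).Q 0) ((Λ.cx hnz).d.app 0) (Λ.cx hnz).Z
    ?_ ?_ (Λ.torsionSub_W hnz hI) ?_ h1 h2 (Λ.κ0 hnz) ?_ ?_
  · rintro _ ⟨x, rfl⟩
    exact (Λ.cx hnz).ed 0 x
  · intro j
    refine subsingleton_pi (fun i => (Λ.L1 i).Q 0) g hI (fun i => ?_) j
    simpa using smul_bijective_Q hnz (Λ.L1 i) (dvd_refl (g i)) 1
  · exact fun z hz l => Λ.exists_coboundary hnz hz l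
  · intro c hc l
    refine exists_kill_L (a := g l) (c := c) ?_
    have h0 : Λ.κL c = 0 := congrArg Subtype.val hc
    rw [← Λ.π0_κL, h0, map_zero, Pi.zero_apply]
  · intro x l
    obtain ⟨K, c, h⟩ := Λ.exists_κ0_eq hnz x.2 l
    exact ⟨K, c, Subtype.ext h.symm⟩

theorem isPowerTorsion_H (l : Fin r) (h : (Λ.cx hnz).H) : ∃ K, g l ^ K • h = 0 := by
  obtain ⟨z, rfl⟩ := Submodule.mkQ_surjective _ h
  obtain ⟨K, hK⟩ := Λ.exists_coboundary hnz z.2 l
  refine ⟨K, ?_⟩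
  rw [← map_smul, Submodule.mkQ_apply, Submodule.Quotient.mk_eq_zero]
  exact hK

theorem exists_lift_pow (l : Fin r) (m : ℕ) (s : ∀ i, (Λ.L1 i).Q m) (hs : s ∈ (Λ.cx hnz).N m) :
    ∃ K, ∃ s' ∈ (Λ.cx hnz).N (m + 1), (Λ.cx hnz).C0.red m s' = g l ^ K • s := by
  obtain ⟨K, hK⟩ := Λ.isPowerTorsion_H hnz l ((Λ.cx hnz).delta m ⟨s, hs⟩)
  exact ⟨K, (Λ.cx hnz).exists_lift_of_delta (g l ^ K • (⟨s, hs⟩ : (Λ.cx hnz).N m)) (by rw [map_smul, hK])⟩

end Lifting

end Groth.Agent.LefAlgz
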