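import Groth.Agent.LefAlgz.CechFin
import Groth.Agent.LC.TopDim

/-!
# Second cohomology classes of Čech cocycles

The classes are natural, and detect coboundaries when the first terms have no cohomology.
-/

noncomputable section

set_option autoImplicit false
set_option linter.style.haveILetI false
set_option backward.isDefEq.respectTransparency false
set_option backward.isDefEq.respectTransparency.types false

universe u

open CategoryTheory Limits

namespace Groth.Agent.LefAlgz

open Groth.Agent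

variable {A : Type u} [CommRing A] (I : Ideal A)

/-- The connecting maps are natural. -/
theorem δH_natural {S S' : ShortComplex (ModuleCat.{u} A)} (hS : S.ShortExact) (hS' : S'.ShortExact) (φ : S ⟶ S')
    (i j : ℕ) (hj : i + 1 = j) (z : (localCohomology I i).obj S.X₃) :
    LC.δH I i hS' j hj (((localCohomology I i).map φ.τ₃).hom z) =
      ((localCohomology I j).map φ.τ₁).hom (LC.δH I i hS j hj z) := by
  obtain ⟨n, x, rfl⟩ := LC.exists_toH I i z
  rw [LC.toH_natural, LC.δH_toH, LC.δH_toH, LC.toH_natural]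
  congr 1
  rw [Abelian.Ext.comp_assoc _ _ _ (add_zero i) (zero_add 1) (by omega),
    Abelian.Ext.comp_assoc _ _ _ hj (add_zero 1) (by omega),
    ShortComplex.ShortExact.extClass_naturality hS hS' φ]

variable {X W : Type u} [AddCommGroup X] [Module A X] [AddCommGroup W] [Module A W]
  (d : X →ₗ[A] W) (Z : Submodule A W) (hdZ : LinearMap.range d ≤ Z)

/-- Kernel, source and image of a linear map. -/
abbrev bdSeq : ShortComplex (ModuleCat.{u} A) :=
  ShortComplex.mk (ModuleCat.ofHom (LinearMap.ker d).subtype) (ModuleCat.ofHom d.rangeRestrict)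
    (ModuleCat.hom_ext (LinearMap.ext fun x => Subtype.ext (show d x.1 = 0 from x.2)))

theorem bdSeq_shortExact : (bdSeq d).ShortExact :=
  { exact := (ShortComplex.ShortExact.moduleCat_exact_iff_function_exact _).2 fun x =>
      ⟨fun hx => ⟨⟨x, congrArg Subtype.val hx⟩, rfl⟩, fun ⟨y, hy⟩ => by subst hy; exact Subtype.ext (show d y.1 = 0 from y.2)⟩
    mono_f := (ModuleCat.mono_iff_injective _).2 (Submodule.injective_subtype _)
    epi_g := (ModuleCat.epi_iff_surjective _).2 d.surjective_rangeRestrict }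

/-- Boundaries, cocycles, and their quotient. -/
abbrev cySeq : ShortComplex (ModuleCat.{u} A) := H9Lef.injSeq (Submodule.inclusion hdZ)

theorem cySeq_shortExact : (cySeq d Z hdZ).ShortExact :=
  H9Lef.injSeq_shortExact (Submodule.inclusion hdZ) (Submodule.inclusion_injective hdZ)

variable (htor : ∀ z : Z, Submodule.Quotient.mk z ∈
  DRing.torsionSub I (Z ⧸ LinearMap.range (Submodule.inclusion hdZ)))

/-- The class of a cocycle. -/
def cls : Z →ₗ[A] LocCoh.H I 2 (LinearMap.ker d) :=
  LC.δH I 1 (bdSeq_shortExact d) 2 rfl ∘ₗ LC.δH I 0 (cySeq_shortExact d Z hdZ) 1 rfl ∘ₗ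
    (LC.H0Equiv I (cySeq d Z hdZ).X₃).symm.toLinearMap ∘ₗ
      LinearMap.codRestrict _ (LinearMap.range (Submodule.inclusion hdZ)).mkQ htor

theorem mem_range_of_cls_eq_zero (h1 : Subsingleton (LocCoh.H I 1 X)) (hW : DRing.torsionSub I W = ⊥) (z : Z)
    (hz : cls I d Z hdZ htor z = 0) : (z : W) ∈ LinearMap.range d := by
  have hδ1 : Function.Injective (LC.δH I 1 (bdSeq_shortExact d) 2 rfl) := by
    rw [injective_iff_map_eq_zero]
    intro w hw
    obtain ⟨v, rfl⟩ := (LC.exact₃ I 1 (bdSeq_shortExact d) 2 rfl w).1 hw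
    haveI := h1
    rw [show v = 0 from Subsingleton.elim (α := LocCoh.H I 1 X) _ _, map_zero]
  have htZ : DRing.torsionSub I Z = ⊥ := by
    refine (Submodule.eq_bot_iff _).2 fun x hx => Subtype.ext ?_
    have : (x : W) ∈ DRing.torsionSub I W := hx.imp fun n h a ha => congrArg Subtype.val (h a ha)
    rwa [hW, Submodule.mem_bot] at this
  have h0 := hδ1 (hz.trans (map_zero _).symm)
  have h0' := H9Lef.δH_zero_injective (cySeq_shortExact d Z hdZ) htZ (h0.trans (map_zero _).symm)
  have h0'' := congrArg Subtype.val ((LC.H0Equiv I (cySeq d Z hdZ).X₃).symm.injective (h0'.trans (map_zero _).symm))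
  have hmem : z ∈ LinearMap.range (Submodule.inclusion hdZ) := (Submodule.Quotient.mk_eq_zero _).1 h0''
  obtain ⟨w, rfl⟩ := hmem
  exact w.2

theorem cls_inclusion (w : LinearMap.range d) : cls I d Z hdZ htor (Submodule.inclusion hdZ w) = 0 := by
  have h : LinearMap.codRestrict _ (LinearMap.range (Submodule.inclusion hdZ)).mkQ htor
      (Submodule.inclusion hdZ w) = 0 := Subtype.ext ((Submodule.Quotient.mk_eq_zero _).2 ⟨w, rfl⟩)
  simp only [cls, LinearMap.comp_apply, h, map_zero]

variable {X' W' : Type u} [AddCommGroup X'] [Module A X'] [AddCommGroup W'] [Module A W']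
  (d' : X' →ₗ[A] W') (Z' : Submodule A W') (hdZ' : LinearMap.range d' ≤ Z')
  (htor' : ∀ z : Z', Submodule.Quotient.mk z ∈
    DRing.torsionSub I (Z' ⧸ LinearMap.range (Submodule.inclusion hdZ')))

theorem cls_natural (τX : X →ₗ[A] X') (τW : W →ₗ[A] W') (comm : ∀ x, d' (τX x) = τW (d x))
    (hτZ : ∀ z ∈ Z, τW z ∈ Z') (hker : ∀ x ∈ LinearMap.ker d, τX x ∈ LinearMap.ker d') (z : Z) :
    cls I d' Z' hdZ' htor' (τW.restrict hτZ z) =
      ((localCohomology I 2).map (ModuleCat.ofHom (τX.restrict hker))).hom (cls I d Z hdZ htor z) := by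
  have hb : ∀ w ∈ LinearMap.range d, τW w ∈ LinearMap.range d' := by
    rintro _ ⟨x, rfl⟩
    exact ⟨τX x, comm x⟩
  let τB : LinearMap.range d →ₗ[A] LinearMap.range d' := τW.restrict hb
  let τQ : Z ⧸ LinearMap.range (Submodule.inclusion hdZ) →ₗ[A] Z' ⧸ LinearMap.range (Submodule.inclusion hdZ') :=
    Submodule.mapQ _ _ (τW.restrict hτZ) (by
      rintro _ ⟨w, rfl⟩
      exact ⟨τB w, rfl⟩)
  let φ₂ : cySeq d Z hdZ ⟶ cySeq d' Z' hdZ' :=
    ShortComplex.homMk (ModuleCat.ofHom τB) (ModuleCat.ofHom (τW.restrict hτZ)) (ModuleCat.ofHom τQ)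
      (ModuleCat.hom_ext (LinearMap.ext fun _ => rfl)) (ModuleCat.hom_ext (LinearMap.ext fun _ => rfl))
  let φ₁ : bdSeq d ⟶ bdSeq d' :=
    ShortComplex.homMk (ModuleCat.ofHom (τX.restrict hker)) (ModuleCat.ofHom τX) (ModuleCat.ofHom τB)
      (ModuleCat.hom_ext (LinearMap.ext fun _ => rfl))
      (ModuleCat.hom_ext (LinearMap.ext fun x => Subtype.ext (comm x)))
  have h0 : ((localCohomology I 0).map φ₂.τ₃).hom ((LC.H0Equiv I (cySeq d Z hdZ).X₃).symm
      ⟨Submodule.Quotient.mk z, htor z⟩) =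
      (LC.H0Equiv I (cySeq d' Z' hdZ').X₃).symm ⟨Submodule.Quotient.mk (τW.restrict hτZ z), htor' _⟩ := by
    refine (LC.H0Equiv I (cySeq d' Z' hdZ').X₃).injective (Subtype.ext ?_)
    rw [LC.H0Equiv_natural, LinearEquiv.apply_symm_apply, LinearEquiv.apply_symm_apply]
    rfl
  show LC.δH I 1 (bdSeq_shortExact d') 2 rfl (LC.δH I 0 (cySeq_shortExact d' Z' hdZ') 1 rfl
      ((LC.H0Equiv I (cySeq d' Z' hdZ').X₃).symm ⟨Submodule.Quotient.mk (τW.restrict hτZ z), htor' _⟩)) = _
  rw [← h0, δH_natural I (cySeq_shortExact d Z hdZ) (cySeq_shortExact d' Z' hdZ') φ₂]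
  exact δH_natural I (bdSeq_shortExact d) (bdSeq_shortExact d') φ₁ 1 2 rfl _

end Groth.Agent.LefAlgz
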