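import Groth.Agent.LefAlgz.Lattice
import Groth.Agent.H9Lef.SecLimit
import Groth.Agent.H9Lef.SecModule
import Groth.Agent.H9Lef.Dualizing
import Groth.Agent.S1775
import Groth.Agent.LC.CplDepthAdic
import Groth.Agent.LC.AdjDepth

/-!
# Depth conditions off a hypersurface, and their consequences for the lattice
-/

noncomputable section

set_option autoImplicit false
set_option linter.style.haveILetI false
set_option backward.isDefEq.respectTransparency false
set_option backward.isDefEq.respectTransparency.types false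

universe u

open CategoryTheory IsLocalRing
attribute [local instance] HasDerivedCategory.standard

namespace Groth.Agent.LefAlgz

open Groth.Agent

variable {A : Type u} [CommRing A] [IsNoetherianRing A] [IsLocalRing A] {ω : Dual.D A} {f : A}

/-- Depth plus dimension exceeds three at the primes off `f` specialising to `V(f)` outside the closed point. -/
def DepthStar (f : A) : Prop :=
  ∀ (p : Ideal A) [p.IsPrime], f ∉ p → (∃ q : Ideal A, q.IsPrime ∧ p ≤ q ∧ f ∈ q ∧ q ≠ maximalIdeal A) →
    (3 : WithBot ℕ∞) <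
      (LocCoh.depth (Localization.AtPrime p) (Localization.AtPrime p) : WithBot ℕ∞) + ringKrullDim (A ⧸ p)

theorem depthStar_of_forall (h : ∀ p : Ideal A, ∀ _ : p.IsPrime, f ∉ p →
      (p ⊔ Ideal.span {f}).radical ≠ IsLocalRing.maximalIdeal A → (3 : WithBot ℕ∞) <
        (LocCoh.depth (Localization.AtPrime p) (Localization.AtPrime p) : WithBot ℕ∞) + ringKrullDim (A ⧸ p)) :
    DepthStar f := fun p hp hfp ⟨q, hq, hpq, hfq, hne⟩ => h p hp hfp fun hr => hne
      (le_antisymm (IsLocalRing.le_maximalIdeal hq.ne_top) (hr ▸ (Ideal.IsPrime.radical_le_iff hq).2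
        (sup_le hpq ((Ideal.span_singleton_le_iff_mem _).2 hfq))))

theorem depthStar_of_hasSk (hω : Dual.IsDualizing A ω) (hf : f ∈ maximalIdeal A)
    (hS : LocCoh.HasSk 2 (Localization.Away f) (Localization.Away f))
    (hmin : ∀ p : Ideal A, p ∈ minimalPrimes A → f ∉ p → (4 : WithBot ℕ∞) ≤ ringKrullDim (A ⧸ p)) :
    DepthStar f := by
  intro p _ hfp ⟨q₁, hq₁, hpq₁, hfq₁, hne₁⟩
  obtain ⟨n, -, hcov, hmono, -⟩ := KFlatLib.exists_extDegree hω
  let P : PrimeSpectrum A := ⟨p, inferInstance⟩
  obtain ⟨e, he, he'⟩ := KFlatLib.ringKrullDim_quotient_eq hcov hmono P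
  have he2 : 2 ≤ e := by
    have h1 : n P < n ⟨q₁, hq₁⟩ := hmono (lt_of_le_of_ne (hpq₁ : P ≤ ⟨q₁, hq₁⟩) fun h => hfp (by
      have h' : p = q₁ := congrArg PrimeSpectrum.asIdeal h
      rw [h']; exact hfq₁))
    have h2 : n ⟨q₁, hq₁⟩ < n (IsLocalRing.closedPoint A) := hmono (lt_of_le_of_ne
      (IsLocalRing.le_maximalIdeal hq₁.ne_top : (⟨q₁, hq₁⟩ : PrimeSpectrum A) ≤ IsLocalRing.closedPoint A)
      fun h => hne₁ (congrArg PrimeSpectrum.asIdeal h))
    omega
  have hdisj : Disjoint (Submonoid.powers f : Set A) (p : Set A) := by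
    rw [Set.disjoint_left]
    rintro _ ⟨m, rfl⟩ hm
    exact hfp (Ideal.IsPrime.mem_of_pow_mem inferInstance m hm)
  have hd := (Synt29.SmoothProps.hasSk_self_localization_iff (Submonoid.powers f) 2).1 hS p hdisj
  rw [show ringKrullDim (A ⧸ p) = (e : WithBot ℕ∞) from he]
  suffices h : (4 : ℕ∞) ≤ LocCoh.depth (Localization.AtPrime p) (Localization.AtPrime p) + e by
    calc (3 : WithBot ℕ∞) < ((4 : ℕ∞) : WithBot ℕ∞) := WithBot.coe_lt_coe.2 (show (3 : ℕ∞) < 4 by norm_num)
      _ ≤ _ := by exact_mod_cast h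
  by_cases h0 : p.height = 0
  · have hpm : p ∈ minimalPrimes A := Ideal.height_eq_zero_iff.1 h0
    have h3 := hmin p hpm hfp
    rw [show ringKrullDim (A ⧸ p) = (e : WithBot ℕ∞) from he] at h3
    exact le_add_left (by exact_mod_cast h3)
  by_cases h1 : p.height = 1
  · obtain ⟨q, hq, hqp⟩ := Ideal.exists_minimalPrimes_le (I := (⊥ : Ideal A)) (J := p) bot_le
    haveI := hq.1.1
    have hne : q ≠ p := fun h => h0 (Ideal.height_eq_zero_iff.2 (h ▸ hq))
    let Q : PrimeSpectrum A := ⟨q, inferInstance⟩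
    have hQP : Q ⋖ P := ⟨lt_of_le_of_ne (hqp : Q ≤ P) fun h => hne (congrArg PrimeSpectrum.asIdeal h), fun R hQR hRP => by
      have h2 : q.height + 1 ≤ R.asIdeal.height :=
        Order.add_one_le_of_lt (Ideal.height_strict_mono_of_isPrime hQR)
      have h3 : R.asIdeal.height < p.height := Ideal.height_strict_mono_of_isPrime hRP
      rw [h1] at h3
      exact absurd h3 (not_lt.2 ((le_add_left le_rfl).trans h2))⟩
    have hfq : f ∉ q := fun h => hfp (hqp h)
    obtain ⟨e', h4, h5⟩ := KFlatLib.ringKrullDim_quotient_eq hcov hmono Q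
    have h6 := hmin q hq hfq
    rw [show ringKrullDim (A ⧸ q) = (e' : WithBot ℕ∞) from h4] at h6
    have h7 : 4 ≤ e' := by exact_mod_cast h6
    have := hcov Q P hQP
    have h8 : 3 ≤ e := by omega
    calc (4 : ℕ∞) = 1 + 3 := by norm_num
      _ ≤ _ := add_le_add (le_trans (by rw [h1]; norm_num) hd) (by exact_mod_cast h8)
  · have h2 : (2 : ℕ∞) ≤ p.height :=
      Order.add_one_le_of_lt (lt_of_le_of_ne (Order.one_le_iff_ne_zero.2 h0) (Ne.symm h1))
    calc (4 : ℕ∞) = 2 + 2 := by norm_num
      _ ≤ _ := add_le_add (le_trans (by rw [Nat.cast_two]; exact le_min le_rfl h2) hd) (by exact_mod_cast he2)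

omit [IsLocalRing A] in
theorem depth_atPrime_atPrime (p : Ideal A) [p.IsPrime] (Q : Ideal (Localization.AtPrime p)) [Q.IsPrime] :
    LocCoh.depth (Localization.AtPrime Q) (Localization.AtPrime Q) =
      LocCoh.depth (Localization.AtPrime (Q.comap (algebraMap A (Localization.AtPrime p))))
        (Localization.AtPrime (Q.comap (algebraMap A (Localization.AtPrime p)))) := by
  let q := Q.comap (algebraMap A (Localization.AtPrime p))
  haveI : IsLocalization.AtPrime (Localization.AtPrime Q) q :=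
    IsLocalization.isLocalization_atPrime_localization_atPrime (M := p.primeCompl) Q
  let e := (IsLocalization.algEquiv q.primeCompl (Localization.AtPrime Q) (Localization.AtPrime q)).toRingEquiv
  exact Alg6.depth_eq_of_semilinear e.toRingHom e.surjective e.toAddEquiv fun r x => map_mul e r x

/-- The local ring at a curve prime has first local cohomology killed by a power of `f`. -/
theorem killedH_curve (hω : Dual.IsDualizing A ω) (hstar : DepthStar f) {p : Ideal A} [p.IsPrime]
    (hp : IsCurve f p) :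
    H9Lef.KilledH (maximalIdeal (Localization.AtPrime p)) (algebraMap A (Localization.AtPrime p) f) 1
      (Localization.AtPrime p) := by
  haveI := Groth.Agent.H9Misc.DRingLBase.hasLBaseChange (algebraMap A (Localization p.primeCompl))
  have hωp := S1775.result A p.primeCompl ω hω
  obtain ⟨n, -, hcov, hmono, -⟩ := KFlatLib.exists_extDegree hω
  let φ := algebraMap A (Localization.AtPrime p)
  let P : PrimeSpectrum A := ⟨p, inferInstance⟩
  let M : PrimeSpectrum A := IsLocalRing.closedPoint A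
  have hPM : P < M := lt_of_le_of_ne (IsLocalRing.le_maximalIdeal hp.prime.ne_top : P ≤ M)
    fun h => hp.ne (congrArg PrimeSpectrum.asIdeal h)
  have hnPM : n (IsLocalRing.closedPoint A) = n P + 1 := hcov P M ⟨hPM, fun R hPR hRM => hRM.ne (PrimeSpectrum.ext
    (hp.max R.asIdeal R.isPrime hPR))⟩
  refine H9Lef.killedH_of_dualizing hωp fun Q _ hfQ => ?_
  let q := Q.comap φ
  have hqp : q ≤ p := by
    have h := Ideal.comap_mono (f := φ) (IsLocalRing.le_maximalIdeal (Ideal.IsPrime.ne_top ‹Q.IsPrime›))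
    exact h.trans (Localization.AtPrime.comap_maximalIdeal (I := p)).le
  have hfq : f ∉ q := fun h => hfQ h
  have hstar' := hstar q hfq ⟨p, hp.prime, hqp, hp.mem, hp.ne⟩
  rw [depth_atPrime_atPrime p Q]
  let Qq : PrimeSpectrum A := ⟨q, inferInstance⟩
  have hlt : Qq < P := lt_of_le_of_ne hqp fun h => hfq (by
    rw [show q = p from congrArg PrimeSpectrum.asIdeal h]; exact hp.mem)
  by_cases hc : Qq ⋖ P
  · obtain ⟨e, he, he'⟩ := KFlatLib.ringKrullDim_quotient_eq hcov hmono Qq
    have := hcov Qq P hc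
    have he2 : e = 2 := by omega
    rw [show ringKrullDim (A ⧸ q) = (e : WithBot ℕ∞) from he, he2] at hstar'
    have h0 : (0 : WithBot ℕ∞) ≤ ringKrullDim (Localization.AtPrime p ⧸ Q) := by
      haveI : Nontrivial (Localization.AtPrime p ⧸ Q) :=
        Ideal.Quotient.nontrivial_iff.2 (Ideal.IsPrime.ne_top ‹_›)
      exact ringKrullDim_nonneg_of_nontrivial
    refine lt_of_lt_of_le ?_ (le_add_of_nonneg_right h0)
    obtain ⟨d, hd⟩ : ∃ d : ℕ∞, d = LocCoh.depth (Localization.AtPrime q) (Localization.AtPrime q) := ⟨_, rfl⟩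
    rw [← hd] at hstar' ⊢
    induction d using ENat.recTopCoe with
    | top => exact WithBot.coe_lt_coe.2 (WithTop.coe_lt_top _)
    | coe d =>
      have h4' : (((3 : ℕ) : ℕ∞) : WithBot ℕ∞) < (((d + 2 : ℕ) : ℕ∞) : WithBot ℕ∞) := by push_cast; exact hstar'
      have h4 : 3 < d + 2 := by exact_mod_cast h4'
      exact_mod_cast (show 1 < d by omega)
  · obtain ⟨R, hQR, hRP⟩ : ∃ R, Qq < R ∧ R < P := by
      rw [not_covBy_iff hlt] at hc
      exact hc
    have hdR : Disjoint (p.primeCompl : Set A) (R.asIdeal : Set A) := Set.disjoint_left.2 fun x hx hxR =>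
      hx (hRP.le hxR)
    let R' := R.asIdeal.map φ
    haveI hR' : R'.IsPrime := IsLocalization.isPrime_of_isPrime_disjoint p.primeCompl _ _ R.isPrime hdR
    have hcR : R'.comap φ = R.asIdeal :=
      IsLocalization.under_map_of_isPrime_disjoint p.primeCompl _ R.isPrime hdR
    have h1 : Q < R' := by
      refine lt_of_le_of_ne ?_ fun h => hQR.ne (PrimeSpectrum.ext (show q = R.asIdeal by rw [← hcR, ← h]))
      rw [← IsLocalization.map_comap p.primeCompl (Localization.AtPrime p) Q]
      exact Ideal.map_mono hQR.le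
    have h2 : R' < maximalIdeal (Localization.AtPrime p) := by
      refine lt_of_le_of_ne (IsLocalRing.le_maximalIdeal hR'.ne_top) fun h => hRP.ne (PrimeSpectrum.ext ?_)
      rw [← hcR, h]
      exact Localization.AtPrime.comap_maximalIdeal
    have h2' : (2 : WithBot ℕ∞) ≤ ringKrullDim (Localization.AtPrime p ⧸ Q) := by
      rw [ringKrullDim_quotient]
      let l : LTSeries (PrimeSpectrum.zeroLocus (Q : Set (Localization.AtPrime p))) :=
        { length := 2
          toFun := ![⟨⟨Q, inferInstance⟩, fun x hx => hx⟩, ⟨⟨R', hR'⟩, fun x hx => h1.le hx⟩,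
            ⟨IsLocalRing.closedPoint _, fun x hx => h2.le (h1.le hx)⟩]
          step := fun i => by
            fin_cases i
            · exact h1
            · exact h2 }
      exact le_iSup_of_le l (le_of_eq rfl)
    calc ((1 : ℕ) : WithBot ℕ∞) < 2 := by exact_mod_cast Nat.one_lt_two
      _ ≤ _ := h2'.trans (le_add_of_nonneg_left (WithBot.coe_le_coe.2 bot_le))

theorem exists_good (hω : Dual.IsDualizing A ω) (hstar : DepthStar f) {p : Ideal A} (hp : IsCurve f p) :
    ∃ c, Good f p c := by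
  haveI := hp.prime
  let R := Localization.AtPrime p
  let φ := algebraMap A R
  let fR := φ f
  obtain ⟨r, g, hg⟩ := Submodule.fg_iff_exists_fin_generating_family.1 (IsNoetherian.noetherian p)
  have hg' : Ideal.span (Set.range g) = p := hg
  let G : Fin r → R := fun i => φ (g i)
  have hG : Ideal.span (Set.range G) = maximalIdeal R := by
    rw [show Set.range G = φ '' Set.range g from Set.range_comp φ g, ← Ideal.map_span, hg']
    exact Localization.AtPrime.map_eq_maximalIdeal
  let ℓ : ∀ i, R →ₗ[R] Localization.Away (G i) := fun i => Algebra.linearMap R _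
  haveI : ∀ i, IsLocalizedModule (Submonoid.powers (G i)) (ℓ i) := fun i => inferInstance
  obtain ⟨c, hc⟩ := H9Lef.exists_pow_smul_mem_range hG ℓ (killedH_curve hω hstar hp)
  obtain ⟨t, ht⟩ := H9Lef.exists_torsion_exponent fR R
  obtain ⟨c₀, hc₀⟩ := H9Lef.exists_torsion_exponent f A
  -- the torsion is killed uniformly
  have hker : ∀ z : A, algebraMap A (Af f) z = 0 → f ^ c₀ * z = 0 := fun z hz => by
    obtain ⟨⟨_, n, rfl⟩, hn⟩ := (IsLocalization.map_eq_zero_iff (Submonoid.powers f) (Af f) z).1 hz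
    exact hc₀ n z hn
  obtain ⟨e0, he0⟩ := H9Lef.killedH_zero (I := maximalIdeal R) (show fR ∈ maximalIdeal R from
    (IsLocalization.AtPrime.to_map_mem_maximal_iff R p f).2 hp.mem) R
  refine ⟨e0 + (c + t) + c₀, fun w hw => ?_⟩
  obtain ⟨⟨z, _, j, rfl⟩, hz⟩ := IsLocalization.surj (Submonoid.powers f) w
  replace hz : f ^ j • w = algebraMap A (Af f) z := by rw [Algebra.smul_def, mul_comm]; exact hz
  -- reading the hypothesis in the local ring
  have hG' : ∀ i, ∃ (k : ℕ) (b : R), G i ^ k * φ (f ^ c₀ * z) = fR ^ j * b := fun i => by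
    obtain ⟨s, hs, k, b, hb⟩ := hw (g i) (hg' ▸ Ideal.subset_span ⟨i, rfl⟩)
    have h1 : algebraMap A (Af f) (s * g i ^ k * z - f ^ j * b) = 0 := by
      rw [map_sub, map_mul, map_mul (algebraMap A (Af f)) (f ^ j), ← Algebra.smul_def, ← hz, smul_comm,
        Algebra.smul_def (f ^ j), show (s * g i ^ k) • w = algebraMap A (Af f) b from hb.symm, sub_self]
    have h2 := congrArg φ (hker _ h1)
    obtain ⟨v, hv⟩ := (IsLocalization.map_units R (⟨s, hs⟩ : p.primeCompl)).exists_left_inv
    refine ⟨k, v * φ (f ^ c₀ * b), ?_⟩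
    simp only [map_mul, map_sub, map_zero, map_pow] at h2 hv ⊢
    linear_combination v * h2 - (φ (g i) ^ k * φ f ^ c₀ * φ z) * hv
  choose k b hb using hG'
  let K := Finset.univ.sup k
  have hb' : ∀ i, ∃ b' : R, G i ^ K * φ (f ^ c₀ * z) = fR ^ j * b' := fun i => by
    obtain ⟨d, hd⟩ := Nat.exists_eq_add_of_le (Finset.le_sup (f := k) (Finset.mem_univ i))
    exact ⟨G i ^ d * b i, by rw [show K = k i + d from hd, pow_add]; linear_combination (G i ^ d) * hb i⟩
  choose b' hb' using hb'
  have hsec : ∀ i i', G i' ^ K * (fR ^ t * b' i) = G i ^ K * (fR ^ t * b' i') := fun i i' => by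
    have h0 : fR ^ j • (G i' ^ K * b' i - G i ^ K * b' i') = 0 := by
      rw [smul_eq_mul]
      linear_combination (G i ^ K) * hb' i' - (G i' ^ K) * hb' i
    have := ht j _ h0
    rw [smul_eq_mul] at this
    linear_combination this
  have hu : ∀ i, IsUnit (algebraMap R (Localization.Away (G i)) (G i ^ K)) := fun i => by
    rw [map_pow]; exact (IsLocalization.Away.algebraMap_isUnit (G i)).pow K
  choose ui hui using fun i => (hu i).exists_left_inv
  let x : ∀ i, Localization.Away (G i) := fun i => ui i * ℓ i (fR ^ t * b' i)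
  have hx1 : ∀ i, G i ^ K • x i = ℓ i (fR ^ t * b' i) := fun i => by
    refine (Algebra.smul_def (A := Localization.Away (G i)) (G i ^ K) (x i)).trans ?_
    rw [← mul_assoc, mul_comm (algebraMap R _ (G i ^ K)), hui, one_mul]
  have hxs : H9Lef.IsSec ℓ G x := ⟨K, fun i => fR ^ t * b' i, hx1, hsec⟩
  obtain ⟨β, hβ⟩ := hc ⟨x, hxs⟩
  -- the difference is torsion for the maximal ideal
  have hdiff : ∀ i, ∃ N, G i ^ N * (fR ^ (c + t) * φ (f ^ c₀ * z) - fR ^ j * β) = 0 := fun i => by
    have h1 : ℓ i β = fR ^ c • x i := congrFun (congrArg Subtype.val hβ) i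
    have h2 : algebraMap R (Localization.Away (G i)) (G i ^ K * β - fR ^ c * (fR ^ t * b' i)) = 0 := by
      rw [map_sub, map_mul, map_mul, show algebraMap R (Localization.Away (G i)) β = fR ^ c • x i from h1,
        ← Algebra.smul_def, smul_comm, hx1]
      exact sub_eq_zero.2 (Algebra.smul_def (A := Localization.Away (G i)) _ _)
    obtain ⟨⟨_, N, rfl⟩, hN⟩ := (IsLocalization.map_eq_zero_iff (Submonoid.powers (G i)) _ _).1 h2
    refine ⟨N + K, ?_⟩
    rw [pow_add (G i) N K]
    simp only at hN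
    rw [pow_add fR c t]
    linear_combination (-(fR ^ j)) * hN + (G i ^ N * fR ^ c * fR ^ t) * hb' i
  choose N hN using hdiff
  have htor : (fR ^ (c + t) * φ (f ^ c₀ * z) - fR ^ j * β) ∈ DRing.torsionSub (maximalIdeal R) R := by
    obtain ⟨n, hn⟩ := H9Lef.exists_pow_le_span hG (Finset.univ.sup N)
    refine ⟨n, fun a ha => ?_⟩
    have := hn ha
    clear ha
    induction this using Submodule.span_induction with
    | mem a ha =>
      obtain ⟨i, rfl⟩ := ha
      obtain ⟨d, hd⟩ := Nat.exists_eq_add_of_le (Finset.le_sup (f := N) (Finset.mem_univ i))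
      show G i ^ Finset.univ.sup N * _ = 0
      rw [hd, add_comm, pow_add, mul_assoc, hN, mul_zero]
    | zero => rw [zero_smul]
    | add _ _ _ _ h h' => rw [add_smul, h, h', add_zero]
    | smul _ _ _ h => rw [smul_assoc, h, smul_zero]
  have hfin : fR ^ e0 * (fR ^ (c + t) * φ (f ^ c₀ * z) - fR ^ j * β) = 0 := by
    have h1 := congrArg (LC.H0Equiv (maximalIdeal R) (ModuleCat.of R R))
      (he0 ((LC.H0Equiv (maximalIdeal R) (ModuleCat.of R R)).symm ⟨_, htor⟩))
    rw [map_smul, LinearEquiv.apply_symm_apply, map_zero] at h1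
    exact congrArg Subtype.val h1
  -- back to the fractions
  obtain ⟨⟨β₁, s₁⟩, hβ₁⟩ := IsLocalization.surj p.primeCompl (fR ^ e0 * β)
  have h3 : φ ((s₁ : A) * (f ^ (e0 + (c + t) + c₀) * z) - f ^ j * β₁) = 0 := by
    simp only at hβ₁
    simp only [map_sub, map_mul, map_pow, pow_add] at hfin ⊢
    rw [← hβ₁]
    linear_combination (φ (s₁ : A)) * hfin
  obtain ⟨s₂, hs₂⟩ := (IsLocalization.map_eq_zero_iff p.primeCompl R _).1 h3
  refine ⟨(s₂ : A) * s₁, fun h => (hp.prime.mem_or_mem h).elim s₂.2 s₁.2, ?_⟩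
  refine ⟨(s₂ : A) * β₁, (isUnit_smul_Af f j).1 ?_⟩
  show f ^ j • algebraMap A (Af f) ((s₂ : A) * β₁) = f ^ j • ((s₂ : A) * s₁ * f ^ (e0 + (c + t) + c₀)) • w
  rw [smul_comm (f ^ j) (_ * _) w, hz, Algebra.smul_def, Algebra.smul_def, ← map_mul, ← map_mul]
  congr 1
  linear_combination -hs₂

end Groth.Agent.LefAlgz
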