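import Groth.Agent.LefAlgz.DepthCond

/-!
# Annihilators of the local cohomology of the lattice algebra
-/

noncomputable section

set_option autoImplicit false
set_option linter.style.haveILetI false
set_option backward.isDefEq.respectTransparency false
set_option backward.isDefEq.respectTransparency.types false

universe u

open CategoryTheory IsLocalRing
attribute [local instance] HasDerivedCategory.standard

namespace Groth.Agent.LefAlgz

open Groth.Agent

variable {A : Type u} [CommRing A] [IsNoetherianRing A] [IsLocalRing A] {ω : Dual.D A} {f : A}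

omit [IsNoetherianRing A] [IsLocalRing A] in
theorem smul_injective_Af_sub (N : Submodule A (Af f)) : Function.Injective fun x : N => f • x :=
  fun x y h => Subtype.ext ((isUnit_smul_Af f 1).1 (by simpa using congrArg Subtype.val h))

omit [IsNoetherianRing A] [IsLocalRing A] in
theorem smul_injective_alg (S : Subalgebra A (Af f)) : Function.Injective fun x : S => f • x :=
  fun x y h => Subtype.ext ((isUnit_smul_Af f 1).1 (by simpa using congrArg Subtype.val h))

theorem exists_good_all (hω : Dual.IsDualizing A ω) (hstar : DepthStar f) :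
    ∃ c, ∀ p, IsCurve f p → Good f p c := by
  classical
  choose d hd using fun p : {p // p ∈ bad f} => exists_good hω hstar p.2.2
  haveI : Fintype {p // p ∈ bad f} := (finite_bad f).fintype
  refine ⟨Finset.univ.sup d, fun p hp => ?_⟩
  by_cases h : p ∈ bad f
  · exact (hd ⟨p, h⟩).mono f (Finset.le_sup (Finset.mem_univ _))
  · exact (good_zero_of_notMem f hp h).mono f (Nat.zero_le _)

variable {c : ℕ}

theorem depth_multB_of_notMem {p : Ideal A} [p.IsPrime] (hfp : f ∉ p) :
    LocCoh.depth (Localization.AtPrime p) (LocalizedModule p.primeCompl (multB f c)) =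
      LocCoh.depth (Localization.AtPrime p) (Localization.AtPrime p) := by
  haveI := finite_multB f c
  let ι : A →ₗ[A] multB f c := Algebra.linearMap A (multB f c)
  have hu : ∀ k, f ^ k ∈ p.primeCompl := fun k h => hfp (Ideal.IsPrime.mem_of_pow_mem inferInstance k h)
  have hbij : Function.Bijective (LocalizedModule.map p.primeCompl ι) := by
    refine ⟨(injective_iff_map_eq_zero _).2 fun z hz => ?_, fun z => ?_⟩
    · induction z using LocalizedModule.induction_on with
      | h a s =>
        rw [LocalizedModule.map_mk, ← LocalizedModule.zero_mk 1, LocalizedModule.mk_eq] at hz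
        obtain ⟨t, ht⟩ := hz
        have h1 : algebraMap A (Af f) ((t : A) * a) = 0 := by
          have h2 := congrArg Subtype.val ht
          simp only [one_smul, smul_zero] at h2
          rw [map_mul, ← Algebra.smul_def]
          exact h2
        obtain ⟨⟨_, k, rfl⟩, hk⟩ := (IsLocalization.map_eq_zero_iff (Submonoid.powers f) (Af f) _).1 h1
        rw [← LocalizedModule.zero_mk 1, LocalizedModule.mk_eq]
        refine ⟨⟨f ^ k, hu k⟩ * t, ?_⟩
        simp only [smul_zero, one_smul]
        rw [Submonoid.smul_def, Submonoid.coe_mul, smul_eq_mul, mul_assoc]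
        exact hk
    · induction z using LocalizedModule.induction_on with
      | h x s =>
        obtain ⟨a, ha⟩ := (mem_lat_of_mem_multB f x.2).1
        refine ⟨LocalizedModule.mk a (⟨f ^ c, hu c⟩ * s), ?_⟩
        rw [LocalizedModule.map_mk, LocalizedModule.mk_eq]
        refine ⟨1, Subtype.ext ?_⟩
        simp only [one_smul]
        show (s : A) • algebraMap A (Af f) a = (f ^ c * s) • (x : Af f)
        rw [mul_comm, mul_smul, ← ha]
        rfl
  rw [← FlatLoc6.depth_self_atPrime p]
  exact (LC.depth_localized_congr (M := A) p (LinearEquiv.ofBijective _ hbij)).symm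

theorem two_lt_depth_add_dim (hω : Dual.IsDualizing A ω) (hgood : ∀ p, IsCurve f p → Good f p c) {p : Ideal A}
    [hp : p.IsPrime] (hfp : f ∈ p) (hne : p ≠ maximalIdeal A) :
    (2 : WithBot ℕ∞) < (LocCoh.depth (Localization.AtPrime p) (LocalizedModule p.primeCompl (multB f c)) : WithBot ℕ∞) +
      ringKrullDim (A ⧸ p) := by
  haveI := finite_multB f c
  obtain ⟨n, -, hcov, hmono, -⟩ := KFlatLib.exists_extDegree hω
  let P : PrimeSpectrum A := ⟨p, hp⟩
  obtain ⟨e, he, he'⟩ := KFlatLib.ringKrullDim_quotient_eq hcov hmono P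
  have hPM : n P < n (IsLocalRing.closedPoint A) := hmono (lt_of_le_of_ne
    (IsLocalRing.le_maximalIdeal hp.ne_top : P ≤ IsLocalRing.closedPoint A)
    fun h => hne (congrArg PrimeSpectrum.asIdeal h))
  have hreg : IsSMulRegular (multB f c) f := smul_injective_alg (multB f c)
  rw [show ringKrullDim (A ⧸ p) = (e : WithBot ℕ∞) from he]
  suffices h : (3 : ℕ∞) ≤ LocCoh.depth (Localization.AtPrime p) (LocalizedModule p.primeCompl (multB f c)) + e by
    calc (2 : WithBot ℕ∞) < ((3 : ℕ∞) : WithBot ℕ∞) := WithBot.coe_lt_coe.2 (show (2 : ℕ∞) < 3 by norm_num)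
      _ ≤ _ := by exact_mod_cast h
  by_cases hcurve : IsCurve f p
  · have h2 := (Alg6.two_le_depth_atPrime_iff (p := p) hfp hreg).2 (notMem_ass_quot f hcurve (hgood p hcurve))
    calc (3 : ℕ∞) = 2 + 1 := by norm_num
      _ ≤ _ := add_le_add h2 (by exact_mod_cast (show 1 ≤ e by omega))
  · obtain ⟨r, hr, hpr, hrm⟩ : ∃ r : Ideal A, r.IsPrime ∧ p < r ∧ r ≠ maximalIdeal A := by
      by_contra hh
      push Not at hh
      exact hcurve ⟨hp, hfp, hne, hh⟩
    have h1 : n P < n ⟨r, hr⟩ := hmono hpr
    have h2 : n ⟨r, hr⟩ < n (IsLocalRing.closedPoint A) := hmono (lt_of_le_of_ne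
      (IsLocalRing.le_maximalIdeal hr.ne_top : (⟨r, hr⟩ : PrimeSpectrum A) ≤ IsLocalRing.closedPoint A)
      fun h => hrm (congrArg PrimeSpectrum.asIdeal h))
    have hd : (1 : ℕ∞) ≤ LocCoh.depth (Localization.AtPrime p) (LocalizedModule p.primeCompl (multB f c)) :=
      (Alg6.one_le_depth_atPrime_iff (p := p)).2 fun hass => by
        obtain ⟨hpp, x, hx⟩ := Alg6.mem_ass_iff.1 hass
        have h0 : x = 0 := hreg ((show f • x = 0 from (hx f).1 hfp).trans (smul_zero f).symm)
        exact hpp.ne_top ((Ideal.eq_top_iff_one p).2 ((hx 1).2 (by rw [h0, smul_zero])))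
    calc (3 : ℕ∞) = 1 + 2 := by norm_num
      _ ≤ _ := add_le_add hd (by exact_mod_cast (show 2 ≤ e by omega))

omit [IsLocalRing A] in
theorem exists_torsion_exponent' {R : Type u} [CommRing R] [IsNoetherianRing R] (g : R) (M : Type*)
    [AddCommGroup M] [Module R M] [Module.Finite R M] :
    ∃ e, ∀ (n : ℕ) (z : M), g ^ n • z = 0 → g ^ e • z = 0 := by
  haveI : IsNoetherian R M := isNoetherian_of_isNoetherianRing_of_finite R M
  let K : ℕ →o Submodule R M := ⟨fun n => LinearMap.ker (g ^ n • (LinearMap.id : M →ₗ[R] M)), fun a b hab z hz => by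
    obtain ⟨d, rfl⟩ := Nat.exists_eq_add_of_le hab
    rw [LinearMap.mem_ker, LinearMap.smul_apply, LinearMap.id_apply] at hz ⊢
    rw [add_comm, pow_add, mul_smul, hz, smul_zero]⟩
  obtain ⟨e, he⟩ := monotone_stabilizes_iff_noetherian.2 inferInstance K
  refine ⟨e, fun n z hz => ?_⟩
  rcases le_total n e with h | h
  · exact LinearMap.mem_ker.1 (K.mono h (show z ∈ K n from hz))
  · exact LinearMap.mem_ker.1 ((he n h).ge (show z ∈ K n from hz))

theorem maximalIdeal_le_radical {J : Ideal A} (h : ∀ q : Ideal A, q.IsPrime → J ≤ q → q = maximalIdeal A) :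
    maximalIdeal A ≤ J.radical := by
  rw [Ideal.radical_eq_sInf]
  exact le_sInf fun q hq => (h q hq.2 hq.1).ge

/-- The annihilators of the first three local cohomology modules of the lattice algebra. -/
theorem killCond_multB (hω : Dual.IsDualizing A ω) (hstar : DepthStar f) (hgood : ∀ p, IsCurve f p → Good f p c) :
    (∀ i, i ≤ 2 → maximalIdeal A ≤ (Module.annihilator A (LocCoh.H (maximalIdeal A) i (multB f c)) ⊔
        Ideal.span {f}).radical) ∧
      ∃ d, maximalIdeal A ≤ Ideal.radical (Submodule.comap (LinearMap.lsmul A A (f ^ d))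
        (Module.annihilator A (LocCoh.H (maximalIdeal A) 3 (multB f c))) ⊔ Ideal.span {f}) := by
  haveI := finite_multB f c
  obtain ⟨ω', hω', hN⟩ := H9Lef.exists_normalized hω
  obtain ⟨a, b, -, hGE, -⟩ := KFlatLib.exists_bounds_of_isDualizing hω'
  haveI := hGE
  haveI hfin : ∀ i : ℕ, Module.Finite A (Dual.inD A (multB f c) ⟶ ω'⟦(-(i : ℤ))⟧) := fun i =>
    KFlatLib.finite_hom_module ω' a hω'.finite_cohomology (multB f c) _
  have hsupp : ∀ (i : ℕ) (q : Ideal A) (hq : q.IsPrime), Module.annihilator A (Dual.inD A (multB f c) ⟶ ω'⟦(-(i : ℤ))⟧) ≤ q →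
      (LocCoh.depth (Localization.AtPrime q) (LocalizedModule q.primeCompl (multB f c)) : WithBot ℕ∞) +
        ringKrullDim (A ⧸ q) ≤ (i : WithBot ℕ∞) := fun i q hq hle => by
    refine (S1712.result A ω' hω' hN (multB f c) i ⟨q, hq⟩).1 ⟨i, le_rfl, ?_⟩
    rw [Module.support_eq_zeroLocus]
    exact hle
  refine ⟨fun i hi => maximalIdeal_le_radical fun q hq hle => ?_, ?_⟩
  · rw [← S1713.result A ω' hω' hN (multB f c) i] at hle
    by_contra hne
    have h1 := hsupp i q hq ((le_sup_left).trans hle)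
    have h2 := two_lt_depth_add_dim hω hgood (hp := hq)
      ((le_sup_right.trans hle) (Ideal.mem_span_singleton_self f)) hne
    exact absurd (lt_of_lt_of_le h2 h1) (not_lt.2 (by exact_mod_cast hi))
  obtain ⟨d, hd⟩ := exists_torsion_exponent' f (Dual.inD A (multB f c) ⟶ ω'⟦(-((3 : ℕ) : ℤ))⟧)
  refine ⟨d, maximalIdeal_le_radical fun q hq hle => ?_⟩
  rw [← S1713.result A ω' hω' hN (multB f c) 3] at hle
  by_contra hne
  have hfq : f ∈ q := (le_sup_right.trans hle) (Ideal.mem_span_singleton_self f)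
  let E' : Submodule A (Dual.inD A (multB f c) ⟶ ω'⟦(-((3 : ℕ) : ℤ))⟧) := LinearMap.range (f ^ d • (LinearMap.id : (Dual.inD A (multB f c) ⟶ ω'⟦(-((3 : ℕ) : ℤ))⟧) →ₗ[A] (Dual.inD A (multB f c) ⟶ ω'⟦(-((3 : ℕ) : ℤ))⟧)))
  have hE' : Module.annihilator A E' ≤ q := fun a ha => hle (Submodule.mem_sup_left (by
    show f ^ d * a ∈ Module.annihilator A (Dual.inD A (multB f c) ⟶ ω'⟦(-((3 : ℕ) : ℤ))⟧)
    refine Module.mem_annihilator.2 fun x => ?_
    rw [mul_comm, mul_smul]
    exact congrArg Subtype.val (Module.mem_annihilator.1 ha ⟨f ^ d • x, x, rfl⟩)))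
  haveI : Module.Finite A E' := Module.Finite.range _
  obtain ⟨P, hP, hPq⟩ := Ideal.exists_minimalPrimes_le hE'
  have hPass := Module.associatedPrimes.minimalPrimes_annihilator_subset_associatedPrimes A E' hP
  haveI := hP.1.1
  have hfP : f ∉ P := fun hf' => by
    obtain ⟨hpp, x, hx⟩ := Alg6.mem_ass_iff.1 hPass
    obtain ⟨⟨_, y, rfl⟩, hfx⟩ : {x' : E' // f • x' = 0} := ⟨x, (hx f).1 hf'⟩
    refine hpp.ne_top ((Ideal.eq_top_iff_one P).2 ((hx 1).2 ?_))
    obtain ⟨y, hy⟩ := x.2
    have h0 : f ^ d • y = 0 := hd (d + 1) y (by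
      rw [pow_succ', mul_smul]
      have := congrArg Subtype.val ((hx f).1 hf')
      rwa [Submodule.coe_smul, ← hy] at this)
    rw [one_smul]
    exact Subtype.ext (hy.symm.trans h0)
  have hann : Module.annihilator A (Dual.inD A (multB f c) ⟶ ω'⟦(-((3 : ℕ) : ℤ))⟧) ≤ P := fun a ha => hP.1.2 (Module.mem_annihilator.2 fun x =>
    Subtype.ext (Module.mem_annihilator.1 ha x.1))
  have h1 := hsupp 3 P hP.1.1 hann
  rw [depth_multB_of_notMem hfP] at h1
  exact absurd (lt_of_lt_of_le (hstar P hfP ⟨q, hq, hPq, hfq, hne⟩) h1) (lt_irrefl _)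

end Groth.Agent.LefAlgz
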