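import Groth.Agent.LefAlgz.Nbhd

/-!
# Neighbourhoods from a finite algebra which is étale along a closed subscheme off the closed point
-/

noncomputable section

set_option autoImplicit false
set_option linter.style.haveILetI false
set_option backward.isDefEq.respectTransparency false
set_option backward.isDefEq.respectTransparency.types false

universe u

open CategoryTheory CategoryTheory.Limits AlgebraicGeometry IsLocalRing TensorProduct Groth.Agent.Pi1Ext.RegPurity
  Groth.Agent.Pi1Ext.PuritySch Groth.Agent.H9Lef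

attribute [-instance] CategoryTheory.catToReflQuiver

namespace Groth.Agent.LefAlgz

open Groth.Agent

variable {A : Type u} [CommRing A] [IsNoetherianRing A] [IsLocalRing A]

/-- A finite algebra, étale along `V(J)` off the closed point, extends the cover it defines modulo `J`. -/
theorem exists_nbhd_of_model (J : Ideal A) [IsLocalRing (A ⧸ J)] {M : Type u} [CommRing M] [Algebra A M]
    [Module.Finite A M] (hnb : ∀ (p : Ideal A) [p.IsPrime], J ≤ p → p ≠ maximalIdeal A → ∃ h ∉ p, EtAway A M h)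
    {C : Type u} [CommRing C] [Algebra (A ⧸ J) C] [Module.Finite (A ⧸ J) C] (hC : EtOff (A ⧸ J) C)
    (ρ : (A ⧸ J) ⊗[A] M →ₐ[A ⧸ J] C) (hρ : ∀ b ∈ maximalIdeal (A ⧸ J), IsoAway ρ b)
    (V : FEt.Cat (pullback (FEt.puncturedSpec A).ι (qSpec J)))
    (eC : obj C (prop_rest C hC) ≅ (FEt.restrict (isPullback_jP J).isoPullback.hom).obj V) :
    ∃ (U' : (Spec (CommRingCat.of A)).Opens) (_ : U' ≤ FEt.puncturedSpec A)
      (u' : pullback (FEt.puncturedSpec A).ι (qSpec J) ⟶ (U' : Scheme.{u}))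
      (_ : u' ≫ U'.ι = pullback.fst _ _ ≫ (FEt.puncturedSpec A).ι) (V' : FEt.Cat (U' : Scheme.{u})),
      Nonempty ((FEt.restrict u').obj V' ≅ V) := by
  let B := A ⧸ J
  let e := (isPullback_jP J).isoPullback
  have hM : EtOff B (B ⊗[A] M) := fun b hb => etAway_of_isoAway (hρ b hb) (hC b hb)
  obtain ⟨iρ⟩ := nonempty_iso ρ hρ (prop_rest (B ⊗[A] M) hM) (prop_rest C hC)
  let U' := FEt.puncturedSpec A ⊓ etW (A := A) M
  have hrange : Set.range (pullback.fst (FEt.puncturedSpec A).ι (qSpec J) ≫ (FEt.puncturedSpec A).ι) ⊆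
      Set.range U'.ι := by
    rw [Scheme.Opens.range_ι]
    rintro _ ⟨z, rfl⟩
    let y := pullback.fst (FEt.puncturedSpec A).ι (qSpec J) z
    let p : PrimeSpectrum A := (FEt.puncturedSpec A).ι y
    have hp : (pullback.fst (FEt.puncturedSpec A).ι (qSpec J) ≫ (FEt.puncturedSpec A).ι) z = p :=
      Scheme.Hom.comp_apply _ _ z
    have hJp : J ≤ p.asIdeal := fun a ha => by
      have h : p = PrimeSpectrum.comap (Ideal.Quotient.mk J) (pullback.snd (FEt.puncturedSpec A).ι (qSpec J) z) := by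
        rw [← hp, pullback.condition]
        rfl
      rw [h]
      show Ideal.Quotient.mk J a ∈ (pullback.snd (FEt.puncturedSpec A).ι (qSpec J) z : PrimeSpectrum B).asIdeal
      rw [Ideal.Quotient.eq_zero_iff_mem.2 ha]
      exact zero_mem _
    obtain ⟨a, ha, hap⟩ := exists_mem_max y
    obtain ⟨h, hhp, hh⟩ := hnb p.asIdeal hJp fun hm => hap (show a ∈ p.asIdeal from hm.symm ▸ ha)
    rw [hp]
    exact ⟨y.2, TopologicalSpace.Opens.mem_iSup.2 ⟨⟨h, hh⟩, hhp⟩⟩
  let u' := IsOpenImmersion.lift U'.ι _ hrange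
  have hu' : u' ≫ U'.ι = pullback.fst _ _ ≫ (FEt.puncturedSpec A).ι := IsOpenImmersion.lift_fac _ _ _
  let V' : FEt.Cat (U' : Scheme.{u}) :=
    MorphismProperty.Over.mk ⊤ (pullback.snd (sp A M) U'.ι) (prop_restrict U' inf_le_right)
  let v := e.hom ≫ u'
  have hv : v ≫ U'.ι = (FEt.puncturedSpec B).ι ≫ sp A B := by
    show (e.hom ≫ u') ≫ U'.ι = _
    rw [Category.assoc, hu', ← Category.assoc, IsPullback.isoPullback_hom_fst, jP_ι]
    rfl
  have p1 : IsPullback (pullback.fst (sp B (B ⊗[A] M)) (FEt.puncturedSpec B).ι ≫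
      Spec.map (CommRingCat.ofHom (Algebra.TensorProduct.includeRight (R := A) (A := B) (B := M)).toRingHom))
      (rest B (B ⊗[A] M)) (sp A M) ((FEt.puncturedSpec B).ι ≫ sp A B) :=
    (IsPullback.of_hasPullback (sp B (B ⊗[A] M)) (FEt.puncturedSpec B).ι).paste_horiz
      (isPullback_SpecMap_of_isPushout _ _ _ _ (CommRingCat.isPushout_tensorProduct A B M).flip)
  have p2 : IsPullback (pullback.fst (pullback.snd (sp A M) U'.ι) v ≫ pullback.fst (sp A M) U'.ι)
      (pullback.snd (pullback.snd (sp A M) U'.ι) v) (sp A M) ((FEt.puncturedSpec B).ι ≫ sp A B) := by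
    rw [← hv]
    exact (IsPullback.of_hasPullback (pullback.snd (sp A M) U'.ι) v).paste_horiz
      (IsPullback.of_hasPullback (sp A M) U'.ι)
  let i1 : (FEt.restrict v).obj V' ≅ obj (B ⊗[A] M) (prop_rest (B ⊗[A] M) hM) :=
    MorphismProperty.Over.isoMk (p2.isoIsPullback _ _ p1) (IsPullback.isoIsPullback_hom_snd _ _ _ _)
  haveI : (FEt.restrict e.hom).IsEquivalence := S0238.result e.hom
  refine ⟨U', inf_le_left, u', hu', V', ⟨(FEt.restrict e.hom).preimageIso ?_⟩⟩
  exact ((MorphismProperty.Over.pullbackComp (P := FEt.prop) (Q := ⊤) e.hom u').symm.app V') ≪≫ i1 ≪≫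
    iρ.symm ≪≫ eC

end Groth.Agent.LefAlgz
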