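import Groth.Agent.LefAlgz.Pinch
import Groth.Agent.LefAlgz.DualKill
import Groth.Agent.LefAlgz.ModelNbhd

/-!
# Extending covers from a hypersurface of the punctured spectrum, with a dualizing complex
-/

noncomputable section

set_option autoImplicit false
set_option linter.style.haveILetI false
set_option backward.isDefEq.respectTransparency false
set_option backward.isDefEq.respectTransparency.types false

universe u

open CategoryTheory CategoryTheory.Limits AlgebraicGeometry IsLocalRing TensorProduct Groth.Agent.Pi1Ext.RegPurity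
  Groth.Agent.Pi1Ext.PuritySch Groth.Agent.H9Lef
attribute [local instance] HasDerivedCategory.standard

attribute [-instance] CategoryTheory.catToReflQuiver

namespace Groth.Agent.LefAlgz

open Groth.Agent

variable {A : Type u} [CommRing A] [IsNoetherianRing A] [IsLocalRing A] {ω : Dual.D A} {f : A}

/-- The comparison of the two thickenings of the hypersurface. -/
def thick (J J' : Ideal A) (h : J' ≤ J) :
    pullback (FEt.puncturedSpec A).ι (qSpec J) ⟶ pullback (FEt.puncturedSpec A).ι (qSpec J') :=
  pullback.lift (pullback.fst _ _) (pullback.snd _ _ ≫ Spec.map (CommRingCat.ofHom (Ideal.Quotient.factor h)))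
    (by
      rw [pullback.condition, Category.assoc, ← Spec.map_comp, ← CommRingCat.ofHom_comp, Ideal.Quotient.factor_comp_mk])

theorem thick_fst (J J' : Ideal A) (h : J' ≤ J) :
    thick J J' h ≫ pullback.fst (FEt.puncturedSpec A).ι (qSpec J') = pullback.fst _ _ :=
  pullback.lift_fst _ _ _

theorem isClosedImmersion_thick (J J' : Ideal A) (h : J' ≤ J) : IsClosedImmersion (thick J J' h) := by
  haveI : IsClosedImmersion (thick J J' h ≫ pullback.fst (FEt.puncturedSpec A).ι (qSpec J')) := by
    rw [thick_fst]; infer_instance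
  exact IsClosedImmersion.of_comp (thick J J' h) (pullback.fst (FEt.puncturedSpec A).ι (qSpec J'))

theorem surjective_thick (J J' : Ideal A) (h : J' ≤ J) (hrad : J ≤ J'.radical) : Surjective (thick J J' h) := by
  refine ⟨fun y => ?_⟩
  have hmem : pullback.fst (FEt.puncturedSpec A).ι (qSpec J') y ∈
      Set.range (pullback.fst (FEt.puncturedSpec A).ι (qSpec J)) := by
    have hy : pullback.fst (FEt.puncturedSpec A).ι (qSpec J') y ∈
        Set.range (pullback.fst (FEt.puncturedSpec A).ι (qSpec J')) := ⟨y, rfl⟩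
    rw [Scheme.Pullback.range_fst] at hy ⊢
    have hr : ∀ K : Ideal A, Set.range (qSpec K).base = PrimeSpectrum.zeroLocus (K : Set A) := fun K => by
      show Set.range (PrimeSpectrum.comap (Ideal.Quotient.mk K)) = _
      rw [_root_.range_comap_of_surjective _ _ Ideal.Quotient.mk_surjective, Ideal.mk_ker]
    rw [Set.mem_preimage, hr, PrimeSpectrum.mem_zeroLocus] at hy ⊢
    exact SetLike.coe_subset_coe.2 (hrad.trans ((Ideal.IsPrime.radical_le_iff (PrimeSpectrum.isPrime _)).2 hy))
  obtain ⟨x, hx⟩ := hmem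
  exact ⟨x, (pullback.fst (FEt.puncturedSpec A).ι (qSpec J')).isClosedEmbedding.injective (by
    rw [← Scheme.Hom.comp_apply, thick_fst]; exact hx)⟩

set_option maxHeartbeats 1000000 in
set_option synthInstance.maxHeartbeats 100000 in
/-- Covers extend when the ring is pinched from an algebra satisfying the annihilator condition. -/
theorem exists_extension_of_pinch (hf : f ∈ maximalIdeal A) [IsAdicComplete (Ideal.span {f}) A] {B : Type u}
    [CommRing B] [IsNoetherianRing B] [Algebra A B] [Module.Finite A B] {N : ℕ} (hN : 1 ≤ N) {I₀ : Ideal A}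
    (hI₀f : I₀ ≤ Ideal.span {f}) (hI : IsPinch A B (f ^ N) I₀)
    (hann : AnnCond ((maximalIdeal A).map (algebraMap A B)) (algebraMap A B f))
    (V₀ : FEt.Cat (pullback (FEt.puncturedSpec A).ι (qSpec (Ideal.span {f})))) :
    ∃ (U' : (Spec (CommRingCat.of A)).Opens) (_ : U' ≤ FEt.puncturedSpec A)
      (u' : pullback (FEt.puncturedSpec A).ι (qSpec (Ideal.span {f})) ⟶ (U' : Scheme.{u}))
      (_ : u' ≫ U'.ι = pullback.fst _ _ ≫ (FEt.puncturedSpec A).ι) (V' : FEt.Cat (U' : Scheme.{u})),
      Nonempty ((FEt.restrict u').obj V' ≅ V₀) := by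
  classical
  have hI₀m : I₀ ≤ maximalIdeal A := hI₀f.trans ((Ideal.span_singleton_le_iff_mem _).2 hf)
  let e := f ^ N
  have hrad : Ideal.span {f} ≤ I₀.radical :=
    (Ideal.span_singleton_le_iff_mem _).2 ⟨N, hI.mem⟩
  have he : e ∈ maximalIdeal A := hI₀m hI.mem
  let T := A ⧸ I₀
  haveI : Nontrivial T := Ideal.Quotient.nontrivial_iff.2 fun h => (maximalIdeal.isMaximal A).ne_top
    (top_le_iff.1 (h ▸ hI₀m))
  haveI : IsLocalRing T := IsLocalRing.of_surjective' (Ideal.Quotient.mk I₀) Ideal.Quotient.mk_surjective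
  -- the lift of the cover to the thickening
  let j := thick (Ideal.span {f}) I₀ hI₀f
  haveI := isClosedImmersion_thick (Ideal.span {f}) I₀ hI₀f
  haveI := surjective_thick (Ideal.span {f}) I₀ hI₀f hrad
  haveI : (FEt.restrict j).IsEquivalence := S0238.result j
  obtain ⟨V, ⟨eV⟩⟩ : (FEt.restrict j).essImage V₀ := Functor.EssSurj.mem_essImage (FEt.restrict j) V₀
  obtain ⟨C, _, _, hCfin, hC, ⟨eC⟩⟩ := exists_finite_model ((FEt.restrict (isPullback_jP I₀).isoPullback.hom).obj V)
  -- the algebra over the lattice algebra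
  let B' := B ⧸ Ideal.span {algebraMap A B e}
  let φT : T →+* B' := Ideal.Quotient.lift I₀ (algebraMap A B') fun i hi => by
    obtain ⟨b, hb⟩ := hI.into i hi
    rw [IsScalarTower.algebraMap_apply A B B', hb, map_mul]
    rw [show algebraMap B B' (algebraMap A B e) = 0 from
      Ideal.Quotient.eq_zero_iff_mem.2 (Ideal.mem_span_singleton_self _), zero_mul]
  letI : Algebra T B' := φT.toAlgebra
  haveI : IsScalarTower A T B' := IsScalarTower.of_algebraMap_eq fun _ => rfl
  let C' := B' ⊗[T] C
  haveI : Module.Finite B C' := Module.Finite.trans B' C'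
  haveI : IsAdicComplete (Ideal.span {algebraMap A B e}) B := by
    haveI : IsAdicComplete (Ideal.span {e}) A :=
      (AdicLib.iff_of_pow_le (I := Ideal.span {f}) (J := Ideal.span {e}) (c := N) (d := 1) hN one_pos
        (le_of_eq (Ideal.span_singleton_pow f N))
        (by rw [pow_one]; exact Ideal.span_singleton_le_span_singleton.2 (dvd_pow_self f (Nat.one_le_iff_ne_zero.1 hN)))).1
        inferInstance
    have h1 : IsAdicComplete (Ideal.span {e}) B := AdicLib.isAdicComplete_of_finite _ _
    have h2 := (IsAdicComplete.map_algebraMap_iff (S := B) (Ideal.span {e}) B).2 h1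
    rwa [Ideal.map_span, Set.image_singleton] at h2
  have hA' : AnnCond ((maximalIdeal A).map (algebraMap A B)) (algebraMap A B e) := by
    rw [map_pow]
    exact hann.pow hN
  obtain ⟨c', hc'⟩ := exists_imgKill hI.nzd hA'
  obtain ⟨r, g, hg⟩ := Submodule.fg_iff_exists_fin_generating_family.1 (IsNoetherian.noetherian (maximalIdeal A))
  have hg' : Ideal.span (Set.range g) = maximalIdeal A := hg
  let G : Fin r → B := fun i => algebraMap A B (g i)
  have hG : Ideal.span (Set.range G) = (maximalIdeal A).map (algebraMap A B) := by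
    rw [show Set.range G = algebraMap A B '' Set.range g from Set.range_comp (algebraMap A B) g, ← Ideal.map_span, hg']
  have hmemT : ∀ a ∈ maximalIdeal A, algebraMap A T a ∈ maximalIdeal T := fun a ha => by
    rw [IsLocalRing.mem_maximalIdeal, mem_nonunits_iff]
    intro hu
    haveI : IsLocalHom (Ideal.Quotient.mk I₀) := IsLocalHom.of_surjective _ Ideal.Quotient.mk_surjective
    exact (IsLocalRing.mem_maximalIdeal a).1 ha (IsUnit.of_map (Ideal.Quotient.mk I₀) a hu)
  have hE : ∀ a ∈ maximalIdeal A, Algebra.Etale B' (H9Pur.L C' (algebraMap A B a)) := fun a ha => by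
    show Algebra.Etale B' (Localization.Away (algebraMap B C' (algebraMap A B a)))
    have h := etAway_baseChange B' (hC _ (hmemT a ha))
    unfold EtAway at h
    rwa [← IsScalarTower.algebraMap_apply A T B', IsScalarTower.algebraMap_apply A B B',
      ← IsScalarTower.algebraMap_apply B B' C'] at h
  have hgm : ∀ i, g i ∈ maximalIdeal A := fun i => hg' ▸ Ideal.subset_span ⟨i, rfl⟩
  obtain ⟨MB, S, _, _, _, _, _, _, ρ, κ, hinj, hρe, hρker, hloc⟩ :=
    exists_algebraization_of_imgKill (C := C') (g := G) hI.nzd hG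
      (finH_one_quot hI.nzd hA' cofinOne_map) hc' cofinTwo_map
      (fun i => hE _ (hgm i))
      (fun p => by
        have h := hE (g p.1 * g p.2) (Ideal.mul_mem_right _ _ (hgm p.1))
        rwa [map_mul] at h)
      (fun p => by
        have h := hE (g p.1 * g p.2.1 * g p.2.2) (Ideal.mul_mem_right _ _ (Ideal.mul_mem_right _ _ (hgm p.1)))
        rwa [map_mul, map_mul] at h)
  obtain ⟨M, _, _, _, π, hπ, hnb⟩ := exists_model hI he hI₀m hC ρ κ hinj hρe hρker hloc
  obtain ⟨U', hU', u', hu', V', ⟨eV'⟩⟩ :=
    exists_nbhd_of_model I₀ (M := M) (fun p _ hp hne => hnb p hp hne) hC π hπ V eC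
  refine ⟨U', hU', j ≫ u', by rw [Category.assoc, hu', ← Category.assoc, thick_fst], V', ⟨?_⟩⟩
  exact ((MorphismProperty.Over.pullbackComp (P := FEt.prop) (Q := ⊤) j u' (j ≫ u') rfl).app V') ≪≫
    (FEt.restrict j).mapIso eV' ≪≫ eV


/-- Covers of the punctured hypersurface extend to a neighbourhood. -/
theorem exists_extension_of_star (hω : Dual.IsDualizing A ω) (hf : f ∈ maximalIdeal A)
    [IsAdicComplete (Ideal.span {f}) A] (hstar : DepthStar f)
    (V₀ : FEt.Cat (pullback (FEt.puncturedSpec A).ι (qSpec (Ideal.span {f})))) :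
    ∃ (U' : (Spec (CommRingCat.of A)).Opens) (_ : U' ≤ FEt.puncturedSpec A)
      (u' : pullback (FEt.puncturedSpec A).ι (qSpec (Ideal.span {f})) ⟶ (U' : Scheme.{u}))
      (_ : u' ≫ U'.ι = pullback.fst _ _ ≫ (FEt.puncturedSpec A).ι) (V' : FEt.Cat (U' : Scheme.{u})),
      Nonempty ((FEt.restrict u').obj V' ≅ V₀) := by
  classical
  obtain ⟨t, ht⟩ := H9Lef.exists_torsion_exponent f A
  obtain ⟨c, hgood⟩ := exists_good_all hω hstar
  let B := multB f c
  haveI : Module.Finite A B := finite_multB f c
  haveI : IsNoetherianRing B := isNoetherianRing_of_fg ((Subalgebra.fg_top _).1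
    (Algebra.FiniteType.out : (⊤ : Subalgebra A B).FG))
  let N := t + 1 + c
  let e := f ^ N
  let I₀ : Ideal A := Ideal.span {f ^ (t + 1)} ⊓ (Ideal.span {algebraMap A B e}).comap (algebraMap A B)
  have hker : ∀ z : A, algebraMap A B z = 0 → f ^ t * z = 0 := fun z hz => by
    obtain ⟨⟨_, n, rfl⟩, hn⟩ := (IsLocalization.map_eq_zero_iff (Submonoid.powers f) (Af f) z).1
      (congrArg Subtype.val hz)
    exact ht n z hn
  have hnzf : algebraMap A B f ∈ nonZeroDivisors B := by
    refine mem_nonZeroDivisors_iff_right.2 fun x hx => smul_injective_alg B ?_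
    show f • x = f • 0
    rw [smul_zero, Algebra.smul_def, mul_comm, hx]
  have hI : IsPinch A B e I₀ := by
    refine ⟨⟨Ideal.mem_span_singleton.2 (pow_dvd_pow f (by omega)), Ideal.mem_span_singleton_self _⟩, ?_, ?_, ?_, ?_⟩
    · rw [map_pow]; exact pow_mem hnzf N
    · rintro i ⟨hi, -⟩ hi0
      obtain ⟨y, rfl⟩ := Ideal.mem_span_singleton.1 hi
      have hy : algebraMap A B y = 0 := by
        rw [map_mul, map_pow] at hi0
        exact (mem_nonZeroDivisors_iff.1 (pow_mem hnzf (t + 1))).1 _ hi0
      rw [pow_succ', mul_assoc, hker y hy, mul_zero]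
    · intro b
      obtain ⟨a, ha⟩ := (mem_lat_of_mem_multB f b.2).1
      have hval : algebraMap A B (f ^ (t + 1) * a) = algebraMap A B e * b := by
        refine Subtype.ext ?_
        show algebraMap A (Af f) (f ^ (t + 1) * a) = algebraMap A (Af f) (f ^ (t + 1 + c)) * (b : Af f)
        rw [map_mul, pow_add f (t + 1) c, map_mul, mul_assoc, ← Algebra.smul_def (f ^ c), ← ha]
        rfl
      exact ⟨f ^ (t + 1) * a, ⟨Ideal.mem_span_singleton.2 (dvd_mul_right _ _),
        Ideal.mem_span_singleton.2 ⟨b, hval⟩⟩, hval⟩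
    · rintro i ⟨-, hi⟩
      obtain ⟨b, hb⟩ := Ideal.mem_span_singleton.1 hi
      exact ⟨b, hb⟩
  have hI₀f : I₀ ≤ Ideal.span {f} :=
    inf_le_left.trans (Ideal.span_singleton_le_span_singleton.2 (dvd_pow_self f (Nat.succ_ne_zero t)))
  exact exists_extension_of_pinch hf (B := B) (N := N) (by omega) hI₀f hI
    (annCond_map (R := B) (killCond_multB hω hstar hgood)) V₀

end Groth.Agent.LefAlgz
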