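import Groth.Agent.Pi1Ext.RegPurity
import Mathlib.RingTheory.Regular.Free
import Mathlib.RingTheory.Kaehler.TensorProduct
import Mathlib.RingTheory.Etale.Locus
import Mathlib.RingTheory.Smooth.Flat

/-!
# Étaleness near the points where a regular element vanishes
-/

noncomputable section

set_option autoImplicit false
set_option linter.style.haveILetI false
set_option backward.isDefEq.respectTransparency false
set_option backward.isDefEq.respectTransparency.types false

universe u

open TensorProduct Groth.Agent.Pi1Ext.RegPurity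

namespace Groth.Agent.LefAlgz

/-- A finite algebra over a local ring is étale if it is so modulo a regular element. -/
theorem etale_of_quot {R N : Type u} [CommRing R] [IsNoetherianRing R] [IsLocalRing R] [CommRing N] [Algebra R N]
    [Module.Finite R N] {x : R} (hx : x ∈ IsLocalRing.maximalIdeal R) (hreg : IsSMulRegular N x)
    [Algebra.Etale (R ⧸ Ideal.span {x}) ((R ⧸ Ideal.span {x}) ⊗[R] N)] : Algebra.Etale R N := by
  let T := R ⧸ Ideal.span {x}
  haveI : Nontrivial T := Ideal.Quotient.nontrivial_iff.2 fun h =>
    (IsLocalRing.maximalIdeal.isMaximal R).ne_top (top_le_iff.1 (h ▸ (Ideal.span_singleton_le_iff_mem _).2 hx))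
  haveI : IsLocalRing T := IsLocalRing.of_surjective' (Ideal.Quotient.mk _) Ideal.Quotient.mk_surjective
  haveI : Module.Free T (T ⊗[R] N) := Module.free_of_flat_of_isLocalRing
  haveI : Module.FinitePresentation R N := Module.finitePresentation_of_finite R N
  have hjac : x ∈ (⊥ : Ideal R).jacobson := IsLocalRing.maximalIdeal_le_jacobson ⊥ hx
  haveI : Module.Free R N := (Module.free_quotSMulTop_iff_free R N hjac hreg).1
    (Module.Free.of_equiv ((QuotSMulTop.equivQuotTensor x N).extendScalarsOfSurjective
      Ideal.Quotient.mk_surjective).symm)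
  haveI : Algebra.FiniteType R N := inferInstance
  haveI : Module.Finite R Ω[N⁄R] := Module.Finite.trans N _
  letI : Algebra N (T ⊗[R] N) := Algebra.TensorProduct.rightAlgebra
  haveI : Subsingleton (T ⊗[R] Ω[N⁄R]) :=
    (KaehlerDifferential.tensorKaehlerEquivBase R T N (T ⊗[R] N)).toEquiv.subsingleton
  have h3 : Subsingleton (Ω[N⁄R] ⧸ Ideal.span {x} • (⊤ : Submodule R Ω[N⁄R])) :=
    (TensorProduct.quotTensorEquivQuotSMul _ _).symm.toEquiv.subsingleton
  rw [Submodule.Quotient.subsingleton_iff] at h3
  have hbot : (⊤ : Submodule R Ω[N⁄R]) = ⊥ :=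
    Submodule.eq_bot_of_le_smul_of_le_jacobson_bot (Ideal.span {x}) _ Module.Finite.fg_top h3.ge
      ((Ideal.span_singleton_le_iff_mem _).2 hjac)
  haveI : Algebra.FormallyUnramified R N := ⟨subsingleton_of_forall_eq 0 fun z =>
    (Submodule.mem_bot R).1 (hbot ▸ Submodule.mem_top)⟩
  haveI : Algebra.FinitePresentation R N := Algebra.FinitePresentation.of_finiteType.1 inferInstance
  exact Algebra.Etale.of_formallyUnramified_of_flat

theorem etale_cancel (A B T M : Type u) [CommRing A] [CommRing B] [CommRing T] [CommRing M] [Algebra A B]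
    [Algebra B T] [Algebra A T] [IsScalarTower A B T] [Algebra A M]
    [Algebra.Etale T (T ⊗[B] (B ⊗[A] M))] : Algebra.Etale T (T ⊗[A] M) :=
  Algebra.Etale.of_equiv (Algebra.TensorProduct.cancelBaseChange A B T T M)

theorem etale_cancel' (A R T M : Type u) [CommRing A] [CommRing R] [CommRing T] [CommRing M] [Algebra A R]
    [Algebra R T] [Algebra A T] [IsScalarTower A R T] [Algebra A M]
    [Algebra.Etale T (T ⊗[A] M)] : Algebra.Etale T (T ⊗[R] (R ⊗[A] M)) :=
  Algebra.Etale.of_equiv (Algebra.TensorProduct.cancelBaseChange A R T T M).symm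

variable {A M : Type u} [CommRing A] [IsNoetherianRing A] [CommRing M] [Algebra A M] [Module.Finite A M]

/-- Étaleness modulo a regular element extends to a neighbourhood. -/
theorem exists_etAway_nbhd {f a : A} (hinj : Function.Injective fun x : M => f • x) (p : Ideal A) [p.IsPrime]
    (hfp : f ∈ p) (hap : a ∉ p)
    (hEt : EtAway (A ⧸ Ideal.span {f}) ((A ⧸ Ideal.span {f}) ⊗[A] M) (algebraMap A _ a)) :
    ∃ h, h ∉ p ∧ EtAway A M h := by
  let B := A ⧸ Ideal.span {f}
  let R := Localization.AtPrime p
  let x := algebraMap A R f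
  let T := R ⧸ Ideal.span {x}
  let N := R ⊗[A] M
  have hx : x ∈ IsLocalRing.maximalIdeal R :=
    (IsLocalization.AtPrime.to_map_mem_maximal_iff R p f).2 hfp
  letI : Algebra B T := (Ideal.Quotient.lift (Ideal.span {f}) (algebraMap A T) fun z hz => by
    obtain ⟨w, rfl⟩ := Ideal.mem_span_singleton'.1 hz
    rw [map_mul, IsScalarTower.algebraMap_apply A R T f,
      show algebraMap R T (algebraMap A R f) = 0 from
        Ideal.Quotient.eq_zero_iff_mem.2 (Ideal.mem_span_singleton_self x), mul_zero]).toAlgebra
  haveI : IsScalarTower A B T := IsScalarTower.of_algebraMap_eq fun z => rfl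
  have hu : IsUnit (algebraMap B T (algebraMap A B a)) := by
    rw [← IsScalarTower.algebraMap_apply A B T, IsScalarTower.algebraMap_apply A R T]
    exact (IsLocalization.map_units R (⟨a, hap⟩ : p.primeCompl)).map _
  haveI : Algebra.Etale T (T ⊗[B] (B ⊗[A] M)) := etale_tensor_of_etAway hEt T hu
  haveI : Algebra.Etale T (T ⊗[A] M) := etale_cancel A B T M
  haveI : Algebra.Etale T (T ⊗[R] N) := etale_cancel' A R T M
  have hreg : IsSMulRegular N x := fun y z h => by
    refine Module.Flat.lTensor_preserves_injective_linearMap (M := R) (LinearMap.lsmul A M f) hinj ?_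
    have key : ∀ w : N, (LinearMap.lsmul A M f).lTensor R w = x • w := fun w => by
      induction w using TensorProduct.induction_on with
      | zero => rw [map_zero, smul_zero]
      | tmul r m =>
        rw [LinearMap.lTensor_tmul, LinearMap.lsmul_apply, tmul_smul]
        exact (algebraMap_smul R f (r ⊗ₜ[A] m)).symm
      | add u v hu hv => rw [map_add, smul_add, hu, hv]
    rw [key, key]
    exact h
  haveI : Algebra.Etale R N := etale_of_quot hx hreg
  haveI : Algebra.FormallyEtale A R := Algebra.FormallyEtale.of_isLocalization p.primeCompl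
  haveI : Algebra.FormallyEtale A N := Algebra.FormallyEtale.comp A R N
  letI : Algebra M N := Algebra.TensorProduct.rightAlgebra
  haveI : IsScalarTower A M N := IsScalarTower.of_algebraMap_eq fun z => by
    show algebraMap A R z ⊗ₜ[A] (1 : M) = (1 : R) ⊗ₜ[A] algebraMap A M z
    rw [Algebra.algebraMap_eq_smul_one, Algebra.algebraMap_eq_smul_one, smul_tmul]
  haveI : IsLocalization (Algebra.algebraMapSubmonoid M p.primeCompl) N := by
    refine isLocalizedModule_iff_isLocalization.1 ?_
    exact (isLocalizedModule_iff_isBaseChange p.primeCompl R _).2 (TensorProduct.isBaseChange A M R)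
  have hloc : ∀ q : PrimeSpectrum M, PrimeSpectrum.comap (algebraMap A M) q = ⟨p, inferInstance⟩ →
      q ∈ Algebra.etaleLocus A M := fun q hq => by
    let Q := Localization.AtPrime q.asIdeal
    have hle : Algebra.algebraMapSubmonoid M p.primeCompl ≤ q.asIdeal.primeCompl := by
      rintro _ ⟨z, hz, rfl⟩ hzq
      exact hz (show z ∈ p from (congrArg PrimeSpectrum.asIdeal hq).le hzq)
    letI : Algebra N Q := (IsLocalization.lift (S := N) (M := Algebra.algebraMapSubmonoid M p.primeCompl) (g := algebraMap M Q)
      fun y => IsLocalization.map_units Q (⟨y.1, hle y.2⟩ : q.asIdeal.primeCompl)).toAlgebra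
    haveI : IsScalarTower M N Q := IsScalarTower.of_algebraMap_eq fun z =>
      (IsLocalization.lift_eq (S := N) (M := Algebra.algebraMapSubmonoid M p.primeCompl) (g := algebraMap M Q)
        (fun y => IsLocalization.map_units Q (⟨y.1, hle y.2⟩ : q.asIdeal.primeCompl)) z).symm
    haveI : IsScalarTower A N Q := IsScalarTower.of_algebraMap_eq fun z =>
      (IsScalarTower.algebraMap_apply A M Q z).trans ((IsScalarTower.algebraMap_apply M N Q _).trans
        (congrArg (algebraMap N Q) (IsScalarTower.algebraMap_apply A M N z).symm))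
    haveI : IsLocalization (q.asIdeal.primeCompl.map (algebraMap M N)) Q :=
      IsLocalization.isLocalization_of_submonoid_le N Q _ _ hle
    haveI : Algebra.FormallyEtale N Q := Algebra.FormallyEtale.of_isLocalization (q.asIdeal.primeCompl.map (algebraMap M N))
    exact Algebra.FormallyEtale.comp A N Q
  haveI : Algebra.FinitePresentation A M := Algebra.FinitePresentation.of_finiteType.1 inferInstance
  have hclosed : IsClosed (PrimeSpectrum.comap (algebraMap A M) '' (Algebra.etaleLocus A M)ᶜ) :=
    PrimeSpectrum.isClosedMap_comap_of_isIntegral _ (algebraMap_isIntegral_iff.2 inferInstance) _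
      Algebra.isOpen_etaleLocus.isClosed_compl
  obtain ⟨_, ⟨h, rfl⟩, hph, hsub⟩ :=
    PrimeSpectrum.isTopologicalBasis_basic_opens.exists_subset_of_mem_open
      (show (⟨p, inferInstance⟩ : PrimeSpectrum A) ∈ (PrimeSpectrum.comap (algebraMap A M) '' (Algebra.etaleLocus A M)ᶜ)ᶜ from
        fun ⟨q, hq, hqp⟩ => hq (hloc q hqp)) hclosed.isOpen_compl
  refine ⟨h, hph, Algebra.basicOpen_subset_etaleLocus_iff_etale.1 fun q hq => ?_⟩
  by_contra hne
  exact hsub (show h ∉ (PrimeSpectrum.comap (algebraMap A M) q).asIdeal from hq) ⟨q, hne, rfl⟩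

end Groth.Agent.LefAlgz
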