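import Groth.Agent.LefAlgz.EtLocal
import Mathlib.Algebra.Module.FinitePresentation

/-!
# Étale neighbourhoods from free localisations, and coordinates of locally free algebras
-/

noncomputable section

set_option autoImplicit false
set_option linter.style.haveILetI false
set_option backward.isDefEq.respectTransparency false
set_option backward.isDefEq.respectTransparency.types false

universe u

open TensorProduct Groth.Agent.Pi1Ext.RegPurity

namespace Groth.Agent.LefAlgz

/-- A finite free algebra over a local ring is étale if it is so modulo a proper ideal. -/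
theorem etale_of_free_quot {R N : Type u} [CommRing R] [IsNoetherianRing R] [IsLocalRing R] [CommRing N]
    [Algebra R N] [Module.Finite R N] [Module.Free R N] (J : Ideal R) (hJ : J ≤ IsLocalRing.maximalIdeal R)
    [Algebra.Etale (R ⧸ J) ((R ⧸ J) ⊗[R] N)] : Algebra.Etale R N := by
  let T := R ⧸ J
  have hjac : J ≤ (⊥ : Ideal R).jacobson := hJ.trans (IsLocalRing.maximalIdeal_le_jacobson ⊥)
  haveI : Algebra.FiniteType R N := inferInstance
  haveI : Module.Finite R Ω[N⁄R] := Module.Finite.trans N _
  letI : Algebra N (T ⊗[R] N) := Algebra.TensorProduct.rightAlgebra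
  haveI : Subsingleton (T ⊗[R] Ω[N⁄R]) :=
    (KaehlerDifferential.tensorKaehlerEquivBase R T N (T ⊗[R] N)).toEquiv.subsingleton
  have h3 : Subsingleton (Ω[N⁄R] ⧸ J • (⊤ : Submodule R Ω[N⁄R])) :=
    (TensorProduct.quotTensorEquivQuotSMul _ _).symm.toEquiv.subsingleton
  rw [Submodule.Quotient.subsingleton_iff] at h3
  have hbot : (⊤ : Submodule R Ω[N⁄R]) = ⊥ :=
    Submodule.eq_bot_of_le_smul_of_le_jacobson_bot J _ Module.Finite.fg_top h3.ge hjac
  haveI : Algebra.FormallyUnramified R N := ⟨subsingleton_of_forall_eq 0 fun z =>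
    (Submodule.mem_bot R).1 (hbot ▸ Submodule.mem_top)⟩
  haveI : Algebra.FinitePresentation R N := Algebra.FinitePresentation.of_finiteType.1 inferInstance
  exact Algebra.Etale.of_formallyUnramified_of_flat

variable {A M : Type u} [CommRing A] [IsNoetherianRing A] [CommRing M] [Algebra A M] [Module.Finite A M]

/-- An étale localisation extends to a neighbourhood. -/
theorem exists_etAway_of_etale_atPrime (p : Ideal A) [p.IsPrime]
    (hEt : Algebra.Etale (Localization.AtPrime p) (Localization.AtPrime p ⊗[A] M)) :
    ∃ h, h ∉ p ∧ EtAway A M h := by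
  let R := Localization.AtPrime p
  let N := R ⊗[A] M
  haveI : Algebra.Etale R N := hEt
  haveI : Algebra.FormallyEtale A R := Algebra.FormallyEtale.of_isLocalization p.primeCompl
  haveI : Algebra.FormallyEtale A N := Algebra.FormallyEtale.comp A R N
  letI : Algebra M N := Algebra.TensorProduct.rightAlgebra
  haveI : IsScalarTower A M N := IsScalarTower.of_algebraMap_eq fun z => by
    show algebraMap A R z ⊗ₜ[A] (1 : M) = (1 : R) ⊗ₜ[A] algebraMap A M z
    rw [Algebra.algebraMap_eq_smul_one, Algebra.algebraMap_eq_smul_one, smul_tmul]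
  haveI : IsLocalization (Algebra.algebraMapSubmonoid M p.primeCompl) N := by
    refine isLocalizedModule_iff_isLocalization.1 ?_
    exact (isLocalizedModule_iff_isBaseChange p.primeCompl R _).2 (TensorProduct.isBaseChange A M R)
  have hloc : ∀ q : PrimeSpectrum M, PrimeSpectrum.comap (algebraMap A M) q = ⟨p, inferInstance⟩ →
      q ∈ Algebra.etaleLocus A M := fun q hq => by
    let Q := Localization.AtPrime q.asIdeal
    have hle : Algebra.algebraMapSubmonoid M p.primeCompl ≤ q.asIdeal.primeCompl := by
      rintro _ ⟨z, hz, rfl⟩ hzq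
      exact hz (show z ∈ p from (congrArg PrimeSpectrum.asIdeal hq).le hzq)
    letI : Algebra N Q := (IsLocalization.lift (S := N) (M := Algebra.algebraMapSubmonoid M p.primeCompl) (g := algebraMap M Q)
      fun y => IsLocalization.map_units Q (⟨y.1, hle y.2⟩ : q.asIdeal.primeCompl)).toAlgebra
    haveI : IsScalarTower M N Q := IsScalarTower.of_algebraMap_eq fun z =>
      (IsLocalization.lift_eq (S := N) (M := Algebra.algebraMapSubmonoid M p.primeCompl) (g := algebraMap M Q)
        (fun y => IsLocalization.map_units Q (⟨y.1, hle y.2⟩ : q.asIdeal.primeCompl)) z).symm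
    haveI : IsScalarTower A N Q := IsScalarTower.of_algebraMap_eq fun z =>
      (IsScalarTower.algebraMap_apply A M Q z).trans ((IsScalarTower.algebraMap_apply M N Q _).trans
        (congrArg (algebraMap N Q) (IsScalarTower.algebraMap_apply A M N z).symm))
    haveI : IsLocalization (q.asIdeal.primeCompl.map (algebraMap M N)) Q :=
      IsLocalization.isLocalization_of_submonoid_le N Q _ _ hle
    haveI : Algebra.FormallyEtale N Q := Algebra.FormallyEtale.of_isLocalization (q.asIdeal.primeCompl.map (algebraMap M N))
    exact Algebra.FormallyEtale.comp A N Q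
  haveI : Algebra.FinitePresentation A M := Algebra.FinitePresentation.of_finiteType.1 inferInstance
  have hclosed : IsClosed (PrimeSpectrum.comap (algebraMap A M) '' (Algebra.etaleLocus A M)ᶜ) :=
    PrimeSpectrum.isClosedMap_comap_of_isIntegral _ (algebraMap_isIntegral_iff.2 inferInstance) _
      Algebra.isOpen_etaleLocus.isClosed_compl
  obtain ⟨_, ⟨h, rfl⟩, hph, hsub⟩ :=
    PrimeSpectrum.isTopologicalBasis_basic_opens.exists_subset_of_mem_open
      (show (⟨p, inferInstance⟩ : PrimeSpectrum A) ∈ (PrimeSpectrum.comap (algebraMap A M) '' (Algebra.etaleLocus A M)ᶜ)ᶜ from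
        fun ⟨q, hq, hqp⟩ => hq (hloc q hqp)) hclosed.isOpen_compl
  refine ⟨h, hph, Algebra.basicOpen_subset_etaleLocus_iff_etale.1 fun q hq => ?_⟩
  by_contra hne
  exact hsub (show h ∉ (PrimeSpectrum.comap (algebraMap A M) q).asIdeal from hq) ⟨q, hne, rfl⟩

/-- Coordinates of an algebra which is étale away from `a`, at a prime avoiding `a`. -/
theorem exists_coordinates {T C : Type u} [CommRing T] [IsNoetherianRing T] [CommRing C] [Algebra T C]
    [Module.Finite T C] {a : T} (hC : EtAway T C a) (q : Ideal T) [q.IsPrime] (ha : a ∉ q) :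
    ∃ (d : ℕ) (x : Fin d → C) (u : T) (_ : u ∉ q) (l : Fin d → (C →ₗ[T] T)),
      (∀ i j, l i (x j) = if i = j then u else 0) ∧
      ∀ c, ∃ v ∉ q, v • c ∈ Submodule.span T (Set.range x) := by
  classical
  let R := Localization.AtPrime q
  let N := R ⊗[T] C
  haveI : Algebra.Etale R N := etale_tensor_of_etAway hC R (IsLocalization.map_units R (⟨a, ha⟩ : q.primeCompl))
  haveI : Module.Free R N := Module.free_of_flat_of_isLocalRing
  let b := Module.finBasis R N
  let mk : C →ₗ[T] N := TensorProduct.mk T R C 1
  haveI : IsLocalizedModule q.primeCompl mk :=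
    (isLocalizedModule_iff_isBaseChange q.primeCompl R _).2 (TensorProduct.isBaseChange T C R)
  choose xs hxs using fun i => IsLocalizedModule.surj q.primeCompl mk (b i)
  let x : Fin _ → C := fun i => (xs i).1
  let s : Fin _ → q.primeCompl := fun i => (xs i).2
  have hx : ∀ i, mk (x i) = (s i : T) • b i := fun i => (hxs i).symm
  let π : T →ₗ[T] R := Algebra.linearMap T R
  haveI : IsLocalizedModule q.primeCompl π := inferInstance
  choose l w hw using fun i => Module.FinitePresentation.exists_lift_of_isLocalizedModule (h :=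
    Module.finitePresentation_of_finite T C) q.primeCompl π (((b.coord i).restrictScalars T) ∘ₗ mk)
  have hlx : ∀ i j, π (l i (x j)) = π (if i = j then (w i : T) * s j else 0) := fun i j => by
    have h := LinearMap.congr_fun (hw i) (x j)
    simp only [LinearMap.comp_apply, LinearMap.smul_apply, LinearMap.restrictScalars_apply] at h
    rw [h, Submonoid.smul_def, hx j, LinearMap.map_smul_of_tower, Module.Basis.coord_apply, b.repr_self,
      Finsupp.single_apply]
    by_cases hij : i = j
    · subst hij
      rw [if_pos rfl, if_pos rfl, smul_smul]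
      exact (Algebra.smul_def _ _).trans (mul_one _)
    · rw [if_neg hij, if_neg fun h' => hij h'.symm, smul_zero, smul_zero, map_zero]
  have hz : ∀ i j, ∃ z : q.primeCompl, (z : T) * l i (x j) = (z : T) * (if i = j then (w i : T) * s j else 0) :=
    fun i j => (IsLocalization.eq_iff_exists q.primeCompl R).1 (hlx i j)
  choose z hz using hz
  let Z : T := ∏ p : Fin _ × Fin _, (z p.1 p.2 : T)
  let U : T := Z * ∏ i, ((w i : T) * s i)
  have hnot : ∀ {ι : Type} [Fintype ι] (e : ι → q.primeCompl), (∏ i, (e i : T)) ∉ q := fun {ι} _ e h => by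
    obtain ⟨i, -, hi⟩ := Ideal.IsPrime.prod_mem_iff.1 h
    exact (e i).2 hi
  have hU : U ∉ q := fun h => by
    rcases Ideal.IsPrime.mem_or_mem inferInstance h with h1 | h1
    · exact hnot (fun p : Fin _ × Fin _ => z p.1 p.2) h1
    · obtain ⟨i, -, hi⟩ := Ideal.IsPrime.prod_mem_iff.1 h1
      rcases Ideal.IsPrime.mem_or_mem inferInstance hi with h2 | h2
      · exact (w i).2 h2
      · exact (s i).2 h2
  refine ⟨_, x, U, hU, fun i => (Z * ∏ k ∈ Finset.univ.erase i, ((w k : T) * s k)) • l i, fun i j => ?_, fun c => ?_⟩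
  · rw [LinearMap.smul_apply, smul_eq_mul]
    obtain ⟨e, he⟩ : (z i j : T) ∣ Z :=
      Finset.dvd_prod_of_mem (fun p : Fin _ × Fin _ => (z p.1 p.2 : T)) (Finset.mem_univ (i, j))
    rw [he, show ((z i j : T) * e * ∏ k ∈ Finset.univ.erase i, ((w k : T) * s k)) * l i (x j) =
      e * (∏ k ∈ Finset.univ.erase i, ((w k : T) * s k)) * ((z i j : T) * l i (x j)) by ring, hz]
    by_cases hij : i = j
    · subst hij
      rw [if_pos rfl, if_pos rfl]
      simp only [U]
      rw [he, ← Finset.mul_prod_erase Finset.univ (fun k => (w k : T) * s k) (Finset.mem_univ i)]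
      ring
    · rw [if_neg hij, if_neg hij, mul_zero, mul_zero]
  · choose r hr using fun i => IsLocalization.surj q.primeCompl (b.repr (mk c) i)
    have hsum := b.sum_repr (mk c)
    let D : T := ∏ i, ((r i).2 : T) * s i
    have hterm : ∀ i, ∃ α : T, D • (b.repr (mk c) i • b i) = mk (α • x i) := fun i => by
      obtain ⟨e, he⟩ : ((r i).2 : T) * s i ∣ D :=
        Finset.dvd_prod_of_mem (fun i => ((r i).2 : T) * s i) (Finset.mem_univ i)
      refine ⟨e * (r i).1, ?_⟩
      rw [map_smul, hx, he, mul_comm _ e, mul_smul, mul_smul e (r i).1]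
      congr 1
      rw [mul_comm, mul_smul, ← smul_assoc ((r i).2 : T), Algebra.smul_def ((r i).2 : T) (b.repr (mk c) i),
        mul_comm, hr, algebraMap_smul, smul_comm]
    choose α hα using hterm
    have heq : mk (D • c) = mk (∑ i, α i • x i) := by
      rw [map_smul, ← hsum, Finset.smul_sum, map_sum]
      exact Finset.sum_congr rfl fun i _ => hα i
    obtain ⟨t, ht⟩ := IsLocalizedModule.exists_of_eq (S := q.primeCompl) heq
    refine ⟨(t : T) * D, fun h => ?_, ?_⟩
    · rcases Ideal.IsPrime.mem_or_mem inferInstance h with h1 | h1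
      · exact t.2 h1
      · obtain ⟨i, -, hi⟩ := Ideal.IsPrime.prod_mem_iff.1 h1
        rcases Ideal.IsPrime.mem_or_mem inferInstance hi with h2 | h2
        · exact (r i).2.2 h2
        · exact (s i).2 h2
    · rw [mul_smul, show (t : T) • D • c = (t : T) • ∑ i, α i • x i from ht]
      exact Submodule.smul_mem _ _ (Submodule.sum_mem _ fun i _ =>
        Submodule.smul_mem _ _ (Submodule.subset_span ⟨i, rfl⟩))

end Groth.Agent.LefAlgz
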