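import Groth.Agent.LefAlgz.Tower
import Groth.Agent.SekSuwaLib.Exact
import Groth.Agent.PPSheaf.GrStalk
import Groth.Agent.KFlatLib.Scheme.Pullback
import Groth.Agent.QCoh.LocFree
import Groth.Prelude.Def_FSch5

/-!
# Freeness from freeness on all infinitesimal neighbourhoods
-/

noncomputable section

set_option autoImplicit false
set_option linter.style.haveILetI false
set_option backward.isDefEq.respectTransparency false
set_option backward.isDefEq.respectTransparency.types false

universe u

open CategoryTheory AlgebraicGeometry IsLocalRing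
open scoped TensorProduct

namespace Groth.Agent.LefAlgz

open Groth.Agent

/-- A finite module over a Noetherian local ring which is free over quotients with kernels in arbitrarily high powers of
the maximal ideal is free. -/
theorem free_of_forall_quot {B : Type u} [CommRing B] [IsLocalRing B] [IsNoetherianRing B] (M : Type u) [AddCommGroup M]
    [Module B M] [Module.Finite B M] (C : ℕ → Type u) [∀ n, CommRing (C n)] [∀ n, Algebra B (C n)]
    (hsurj : ∀ n, Function.Surjective (algebraMap B (C n)))
    (hker : ∀ n, RingHom.ker (algebraMap B (C n)) ≤ maximalIdeal B ^ (n + 1))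
    (hfree : ∀ n, Module.Free (C n) (C n ⊗[B] M)) : Module.Free B M := by
  classical
  haveI := hfree
  let f : ∀ n, M →ₗ[B] C n ⊗[B] M := fun n => TensorProduct.mk B (C n) M 1
  let J : ℕ → Ideal B := fun n => RingHom.ker (algebraMap B (C n))
  have hJm : ∀ n, J n ≤ maximalIdeal B := fun n =>
    (hker n).trans (Ideal.pow_le_self (Nat.succ_ne_zero n))
  haveI : ∀ n, Nontrivial (C n) := fun n =>
    nontrivial_of_ne 1 0 fun h => (IsLocalRing.maximalIdeal.isMaximal B).ne_top ((Ideal.eq_top_iff_one _).2
      (hJm n (RingHom.mem_ker.2 ((map_one (algebraMap B (C n))).trans h))))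
  haveI : ∀ n, IsLocalRing (C n) := fun n => IsLocalRing.of_surjective' (algebraMap B (C n)) (hsurj n)
  have hf : ∀ n, Function.Surjective (f n) := fun n z => by
    induction z using TensorProduct.induction_on with
    | zero => exact ⟨0, map_zero _⟩
    | tmul q m =>
      obtain ⟨b, rfl⟩ := hsurj n q
      exact ⟨b • m, by
        show (1 : C n) ⊗ₜ[B] (b • m) = _
        rw [← TensorProduct.smul_tmul, Algebra.smul_def, mul_one]⟩
    | add z w hz hw =>
      obtain ⟨a, rfl⟩ := hz
      obtain ⟨c, rfl⟩ := hw
      exact ⟨a + c, map_add _ _ _⟩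
  have hkerf : ∀ n (m : M), f n m = 0 → m ∈ J n • (⊤ : Submodule B M) := fun n m hm => by
    let ε : C n →ₗ[B] B ⧸ J n := descend (Algebra.linearMap B (C n)) (hsurj n) (Submodule.mkQ (J n))
      fun x hx => (Submodule.Quotient.mk_eq_zero _).2 hx
    have hε : ε 1 = Submodule.mkQ (J n) 1 := by
      rw [← map_one (algebraMap B (C n))]
      exact descend_apply _ _ _ _ _
    have h1 := congrArg (TensorProduct.quotTensorEquivQuotSMul M (J n)) (congrArg (ε.rTensor M) hm)
    rw [map_zero, map_zero, show f n m = (1 : C n) ⊗ₜ[B] m from rfl, LinearMap.rTensor_tmul, hε] at h1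
    rw [← Submodule.Quotient.mk_eq_zero, ← h1]
    exact (TensorProduct.quotTensorEquivQuotSMul_mk_one_tmul (J n) m).symm
  let b := Module.Free.chooseBasis (C 0) (C 0 ⊗[B] M)
  let ι := Module.Free.ChooseBasisIndex (C 0) (C 0 ⊗[B] M)
  haveI : Module.Finite (C 0) (C 0 ⊗[B] M) := inferInstance
  choose g hg using fun i => hf 0 (b i)
  let φ : (ι → B) →ₗ[B] M := Fintype.linearCombination B g
  have hφn : ∀ n c, f n (φ c) = ∑ i, algebraMap B (C n) (c i) • f n (g i) := fun n c => by
    simp only [φ, Fintype.linearCombination_apply, map_sum, map_smul]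
    exact Finset.sum_congr rfl fun i _ => (algebraMap_smul (C n) (c i) _).symm
  have hφs : Function.Surjective φ := by
    rw [← LinearMap.range_eq_top, eq_top_iff]
    refine Submodule.le_of_le_smul_of_le_jacobson_bot (I := J 0) Module.Finite.fg_top
      ((hJm 0).trans (IsLocalRing.maximalIdeal_le_jacobson _)) fun m _ => ?_
    choose c hc using fun i => hsurj 0 (b.repr (f 0 m) i)
    have h1 : f 0 (m - φ c) = 0 := by
      rw [map_sub, hφn, sub_eq_zero]
      simp only [hc, hg]
      exact (b.sum_repr (f 0 m)).symm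
    rw [show m = φ c + (m - φ c) by abel]
    exact Submodule.add_mem_sup ⟨c, rfl⟩ (hkerf 0 _ h1)
  have hinj0 : ∀ c, φ c = 0 → ∀ i, c i ∈ maximalIdeal B := fun c hc i => hJm 0 <| by
    have h := hφn 0 c
    rw [hc, map_zero] at h
    simp only [hg] at h
    exact RingHom.mem_ker.2 (Fintype.linearIndependent_iff.1 b.linearIndependent _ h.symm i)
  have hmem : ∀ n c, f n (φ c) = 0 → ∀ i, c i ∈ maximalIdeal B := fun n c hc i => by
    have hle : J n • (⊤ : Submodule B M) ≤ Submodule.map φ (maximalIdeal B • ⊤) := by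
      rw [Submodule.map_smul'', Submodule.map_top, LinearMap.range_eq_top.2 hφs]
      exact Submodule.smul_mono_left (hJm n)
    obtain ⟨d, hd, hde⟩ := hle (hkerf n _ hc)
    have h2 := hinj0 (c - d) (by rw [map_sub, hde, sub_self]) i
    have h3 : d i ∈ maximalIdeal B := by
      refine Submodule.smul_induction_on hd (fun r hr x _ => ?_) (fun x y hx hy => add_mem hx hy)
      exact Ideal.mul_mem_right _ _ hr
    simpa using add_mem h2 h3
  have hinj : ∀ n c, φ c = 0 → ∀ i, c i ∈ J n := fun n c hc i => by
    let v : ι → C n ⊗[B] M := fun i => f n (g i)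
    let ψ : (ι → C n) →ₗ[C n] C n ⊗[B] M := Fintype.linearCombination (C n) v
    have hψ : ∀ c : ι → B, ψ (fun i => algebraMap B (C n) (c i)) = f n (φ c) := fun c => by
      rw [hφn]; exact Fintype.linearCombination_apply _ _ _
    have hψs : Function.Surjective ψ := fun z => by
      obtain ⟨m, rfl⟩ := hf n z
      obtain ⟨c, rfl⟩ := hφs m
      exact ⟨_, hψ c⟩
    have hK : LinearMap.ker ψ ≤ maximalIdeal (C n) • ⊤ := fun x hx => by
      choose c hc using fun i => hsurj n (x i)
      obtain rfl : (fun i => algebraMap B (C n) (c i)) = x := funext hc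
      have hci := hmem n c ((hψ c).symm.trans hx)
      rw [pi_eq_sum_univ (fun i => algebraMap B (C n) (c i))]
      refine Submodule.sum_mem _ fun i _ => Submodule.smul_mem_smul ?_ Submodule.mem_top
      rw [← IsLocalRing.map_maximalIdeal_of_surjective _ (hsurj n)]
      exact Ideal.mem_map_of_mem _ (hci i)
    obtain ⟨σ, hσ⟩ := Module.projective_lifting_property ψ LinearMap.id hψs
    let r : (ι → C n) →ₗ[C n] (ι → C n) := LinearMap.id - σ ∘ₗ ψ
    have hr : ∀ x, ψ (r x) = 0 := fun x => by
      show ψ (x - σ (ψ x)) = 0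
      rw [map_sub, show ψ (σ (ψ x)) = ψ x from LinearMap.congr_fun hσ (ψ x), sub_self]
    have hK0 : LinearMap.ker ψ = ⊥ := by
      refine Submodule.eq_bot_of_le_smul_of_le_jacobson_bot (maximalIdeal (C n)) _ ?_ ?_
        (IsLocalRing.maximalIdeal_le_jacobson _)
      · rw [show LinearMap.ker ψ = LinearMap.range r from le_antisymm (fun x hx => ⟨x, by
            show x - σ (ψ x) = x
            rw [LinearMap.mem_ker.1 hx, map_zero, sub_zero]⟩) (by rintro _ ⟨x, rfl⟩; exact hr x)]
        exact Submodule.FG.map r Module.Finite.fg_top |>.imp fun s hs => hs.trans (Submodule.map_top r)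
      · intro x hx
        have hx' : r x = x := by
          show x - σ (ψ x) = x
          rw [LinearMap.mem_ker.1 hx, map_zero, sub_zero]
        rw [← hx']
        have hle : Submodule.map r (maximalIdeal (C n) • ⊤) ≤ maximalIdeal (C n) • LinearMap.ker ψ := by
          rw [Submodule.map_smul'', Submodule.map_top]
          exact Submodule.smul_mono le_rfl (by rintro _ ⟨y, rfl⟩; exact hr y)
        exact hle ⟨x, hK hx, rfl⟩
    refine RingHom.mem_ker.2 (congrFun (LinearMap.ker_eq_bot'.1 hK0 (fun i => algebraMap B (C n) (c i)) ?_) i)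
    rw [hψ, hc, map_zero]
  refine Module.Free.of_equiv (LinearEquiv.ofBijective φ ⟨?_, hφs⟩)
  rw [← LinearMap.ker_eq_bot, LinearMap.ker_eq_bot']
  intro c hc
  funext i
  have : c i ∈ ⨅ n : ℕ, maximalIdeal B ^ n := Ideal.mem_iInf.2 fun n => by
    cases n with
    | zero => simp
    | succ n => exact hker n (hinj n c hc i)
  rwa [Ideal.iInf_pow_eq_bot_of_isLocalRing (I := maximalIdeal B) (IsLocalRing.maximalIdeal.isMaximal B).ne_top] at this

variable {X : Scheme.{u}} [IsLocallyNoetherian X] (𝓘 : X.IdealSheafData)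

/-- A coherent module with locally free restrictions to all thickenings is free near the closed subscheme. -/
theorem free_stalk_of_levels {F : X.Modules} (hF : Coh.IsCoh F)
    (h : ∀ n, FlatMod.IsFinLocFree ((Scheme.Modules.pullback (FSch.completionToX X 𝓘 n)).obj F))
    {x : X} (hx : x ∈ (𝓘.support : Set X)) : Module.Free (X.presheaf.stalk x) (F.presheaf.stalk x) := by
  have hy : ∀ n, ∃ y, FSch.completionToX X 𝓘 n y = x := fun n => by
    have : x ∈ Set.range (FSch.completionToX X 𝓘 n) := by
      show x ∈ Set.range ((𝓘 ^ (n + 1)).subschemeι)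
      rw [Scheme.IdealSheafData.range_subschemeι, Scheme.IdealSheafData.support_pow _ _ (Nat.succ_ne_zero n)]
      exact hx
    exact this
  choose y hy using hy
  haveI := QCoh.finite_stalk_of_isFT hF.1 hF.2 x
  let σ : ∀ n, X.presheaf.stalk x →+* ((FSch.completionAlong X 𝓘).X n).presheaf.stalk (y n) := fun n =>
    ((FSch.completionToX X 𝓘 n).stalkMap (y n)).hom.comp
      (X.presheaf.stalkCongr (.of_eq (hy n).symm)).hom.hom
  letI : ∀ n, Algebra (X.presheaf.stalk x) (((FSch.completionAlong X 𝓘).X n).presheaf.stalk (y n)) :=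
    fun n => (σ n).toAlgebra
  refine free_of_forall_quot (F.presheaf.stalk x) (fun n => ((FSch.completionAlong X 𝓘).X n).presheaf.stalk (y n))
    (fun n => ?_) (fun n => ?_) (fun n => ?_)
  all_goals
    obtain ⟨yn, hyn⟩ : ∃ z, z = y n := ⟨_, rfl⟩
  · exact ((FSch.completionToX X 𝓘 n).stalkMap_surjective (y n)).comp
      (ConcreteCategory.bijective_of_isIso (X.presheaf.stalkCongr (.of_eq (hy n).symm)).hom).2
  · suffices key : ∀ (x' : X) (z : ((FSch.completionAlong X 𝓘).X n)) (e : FSch.completionToX X 𝓘 n z = x'),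
        RingHom.ker (((FSch.completionToX X 𝓘 n).stalkMap z).hom.comp
          (X.presheaf.stalkCongr (.of_eq e.symm)).hom.hom) ≤ maximalIdeal (X.presheaf.stalk x') ^ (n + 1) from
      key x (y n) (hy n)
    rintro x' z rfl
    haveI : QuasiCompact (FSch.completionToX X 𝓘 n) := inferInstance
    have hp : RingHom.ker ((FSch.completionToX X 𝓘 n).stalkMap z).hom =
        PPSheaf.GrStalk.stI 𝓘 (FSch.completionToX X 𝓘 n z) ^ (n + 1) := by
      rw [← PPSheaf.GrStalk.stI_ker, Scheme.IdealSheafData.ker_subschemeι, PPSheaf.GrStalk.stI_pow]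
    have hle : PPSheaf.GrStalk.stI 𝓘 (FSch.completionToX X 𝓘 n z) ≤ maximalIdeal _ := by
      refine IsLocalRing.le_maximalIdeal fun htop => ?_
      rw [htop, Ideal.top_pow] at hp
      exact RingHom.ker_ne_top _ hp
    intro a ha
    refine Ideal.pow_right_mono hle (n + 1) (hp.le ?_)
    simpa [TopCat.Presheaf.stalkCongr] using ha
  · suffices key : ∀ (x' : X) (z : ((FSch.completionAlong X 𝓘).X n)) (e : FSch.completionToX X 𝓘 n z = x'),
        letI : Algebra (X.presheaf.stalk x') (((FSch.completionAlong X 𝓘).X n).presheaf.stalk z) :=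
          (((FSch.completionToX X 𝓘 n).stalkMap z).hom.comp (X.presheaf.stalkCongr (.of_eq e.symm)).hom.hom).toAlgebra
        Module.Free (((FSch.completionAlong X 𝓘).X n).presheaf.stalk z)
          (((FSch.completionAlong X 𝓘).X n).presheaf.stalk z ⊗[X.presheaf.stalk x'] F.presheaf.stalk x') from
      key x (y n) (hy n)
    rintro x' z rfl
    haveI := QCoh.free_stalk_of_isFinLocFree (h n) z
    have h1 : (((FSch.completionToX X 𝓘 n).stalkMap z).hom.comp
        (X.presheaf.stalkCongr (.of_eq (Eq.refl (FSch.completionToX X 𝓘 n z)).symm)).hom.hom) =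
        ((FSch.completionToX X 𝓘 n).stalkMap z).hom := by
      ext a
      simp [TopCat.Presheaf.stalkCongr]
    rw [h1]
    let e := ((KFlatLib.stalkPullbackIso (FSch.completionToX X 𝓘 n) z).app F).toLinearEquiv
    haveI : Module.Free (((FSch.completionAlong X 𝓘).X n).presheaf.stalk z)
        ((Scheme.Modules.pullback (FSch.completionToX X 𝓘 n) ⋙
          DerSch.stalkFunctor ((FSch.completionAlong X 𝓘).X n) z).obj F) :=
      QCoh.free_stalk_of_isFinLocFree (h n) z
    exact Module.Free.of_equiv e

end Groth.Agent.LefAlgz
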