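import Groth.Agent.LefAlgz.ModSheaf
import Groth.Agent.S0841

/-!
# Algebraisation of formal vector bundles along a hypersurface on a punctured spectrum
-/

noncomputable section

set_option autoImplicit false
set_option linter.style.haveILetI false
set_option backward.isDefEq.respectTransparency false
set_option backward.isDefEq.respectTransparency.types false

universe u

open CategoryTheory CategoryTheory.Limits AlgebraicGeometry Opposite TopologicalSpace

namespace Groth.Agent.LefAlgz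

open Groth.Agent

variable {A : Type u} [CommRing A] [IsNoetherianRing A] {𝔞 : Ideal A}

/-- The sheaf on the punctured spectrum attached to a module. -/
abbrev rt (𝔞 : Ideal A) (M : Type u) [AddCommGroup M] [Module A M] :
    (↑(LocCoh.puncturedOpen A 𝔞) : Scheme.{u}).Modules :=
  (Scheme.Modules.restrictFunctor (LocCoh.puncturedOpen A 𝔞).ι).obj (Formal2.tmod A M)

/-- Maps with torsion kernel and cokernel become isomorphisms on the punctured spectrum. -/
theorem isIso_rt_map {P Q : Type u} [AddCommGroup P] [Module A P] [AddCommGroup Q] [Module A Q]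
    (φ : P →ₗ[A] Q) (hk : ∀ x, φ x = 0 → ∀ a ∈ 𝔞, ∃ k : ℕ, a ^ k • x = 0)
    (hc : ∀ y, ∀ a ∈ 𝔞, ∃ k : ℕ, a ^ k • y ∈ LinearMap.range φ) :
    IsIso ((Scheme.Modules.restrictFunctor (LocCoh.puncturedOpen A 𝔞).ι).map (Formal2.tmodMap A φ)) := by
  let Rf := Scheme.Modules.restrictFunctor (LocCoh.puncturedOpen A 𝔞).ι
  let T := tilde.functor (CommRingCat.of A)
  haveI : T.IsLeftAdjoint := tilde.adjunction.isLeftAdjoint
  haveI : Rf.IsLeftAdjoint := (Scheme.Modules.restrictAdjunction (LocCoh.puncturedOpen A 𝔞).ι).isLeftAdjoint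
  haveI : (T ⋙ Rf).IsLeftAdjoint := inferInstance
  let K := LinearMap.ker φ
  let iK : ModuleCat.of A K ⟶ ModuleCat.of A P := ModuleCat.ofHom K.subtype
  let q : ModuleCat.of A P ⟶ ModuleCat.of A (P ⧸ K) := ModuleCat.ofHom K.mkQ
  let j : ModuleCat.of A (P ⧸ K) ⟶ ModuleCat.of A Q := ModuleCat.ofHom (K.liftQ φ le_rfl)
  have hj : IsIso ((T ⋙ Rf).map j) := by
    refine H9FCoh.isIso_restrict_tilde_map (R := CommRingCat.of A) (𝔞 := 𝔞) rfl j
      (LinearMap.ker_eq_bot.1 (Submodule.ker_liftQ_eq_bot K φ le_rfl le_rfl)) fun y a ha => ?_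
    obtain ⟨k, x, hx⟩ := hc y a ha
    exact ⟨k, Submodule.Quotient.mk x, hx⟩
  -- the kernel dies
  have hK : IsZero ((T ⋙ Rf).obj (ModuleCat.of A K)) := by
    let z : ModuleCat.of A (⊥ : Submodule A K) ⟶ ModuleCat.of A K := ModuleCat.ofHom (⊥ : Submodule A K).subtype
    haveI : IsIso ((T ⋙ Rf).map z) :=
      H9FCoh.isIso_restrict_tilde_map (R := CommRingCat.of A) (𝔞 := 𝔞) rfl z Subtype.val_injective fun y a ha => by
        obtain ⟨k, hk'⟩ := hk y.1 y.2 a ha
        refine ⟨k, 0, ?_⟩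
        show ((0 : (⊥ : Submodule A K)) : K) = a ^ k • y
        exact Subtype.ext hk'.symm
    have h0 : IsZero ((T ⋙ Rf).obj (ModuleCat.of A (⊥ : Submodule A K))) :=
      (T ⋙ Rf).map_isZero (ModuleCat.isZero_of_subsingleton _)
    exact h0.of_iso (asIso ((T ⋙ Rf).map z)).symm
  haveI hqe : Epi q := (ModuleCat.epi_iff_surjective q).2 (Submodule.mkQ_surjective _)
  have hcok : IsColimit (CokernelCofork.ofπ (f := iK) q (ModuleCat.hom_ext (LinearMap.ext fun x =>
      (Submodule.Quotient.mk_eq_zero _).2 x.2))) := by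
    refine CokernelCofork.IsColimit.ofπ' q _ fun {Z} l hl => ⟨ModuleCat.ofHom (K.liftQ l.hom fun x hx => ?_), ?_⟩
    · exact congr($hl ⟨x, hx⟩)
    · exact ModuleCat.hom_ext (LinearMap.ext fun x => rfl)
  have hcok' := CokernelCofork.mapIsColimit _ hcok (T ⋙ Rf)
  haveI hq : IsIso ((T ⋙ Rf).map q) := by
    obtain ⟨s, hs⟩ := CokernelCofork.IsColimit.desc' hcok' (𝟙 _) (hK.eq_of_src _ _)
    haveI : Epi ((T ⋙ Rf).map q) := by
      exact @Functor.map_epi _ _ _ _ (T ⋙ Rf) inferInstance _ _ q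
        ((ModuleCat.epi_iff_surjective q).2 (Submodule.mkQ_surjective _))
    refine ⟨s, hs, ?_⟩
    rw [← cancel_epi ((T ⋙ Rf).map q)]
    exact (Category.assoc _ _ _).symm.trans ((congrArg (· ≫ (T ⋙ Rf).map q) hs).trans
      ((Category.id_comp _).trans (Category.comp_id _).symm))
  have h : IsIso ((T ⋙ Rf).map (q ≫ j)) := by
    haveI := hj
    rw [Functor.map_comp]
    infer_instance
  exact h

/-- A map of systems of modules with torsion kernels and cokernels gives isomorphic systems of sheaves. -/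
theorem nonempty_iso_rt {P Q : ℕ → Type u} [∀ n, AddCommGroup (P n)] [∀ n, Module A (P n)]
    [∀ n, AddCommGroup (Q n)] [∀ n, Module A (Q n)] (tP : ∀ n, P (n + 1) →ₗ[A] P n)
    (tQ : ∀ n, Q (n + 1) →ₗ[A] Q n) (φ : ∀ n, P n →ₗ[A] Q n)
    (comm : ∀ n x, tQ n (φ (n + 1) x) = φ n (tP n x))
    (hk : ∀ n (x : P n), φ n x = 0 → ∀ a ∈ 𝔞, ∃ k : ℕ, a ^ k • x = 0)
    (hc : ∀ n (y : Q n), ∀ a ∈ 𝔞, ∃ k : ℕ, a ^ k • y ∈ LinearMap.range (φ n)) :
    Nonempty (Functor.ofOpSequence (X := fun n => rt 𝔞 (P n))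
        (fun n => (Scheme.Modules.restrictFunctor (LocCoh.puncturedOpen A 𝔞).ι).map (Formal2.tmodMap A (tP n))) ≅
      Functor.ofOpSequence (X := fun n => rt 𝔞 (Q n))
        (fun n => (Scheme.Modules.restrictFunctor (LocCoh.puncturedOpen A 𝔞).ι).map (Formal2.tmodMap A (tQ n)))) := by
  let Rf := Scheme.Modules.restrictFunctor (LocCoh.puncturedOpen A 𝔞).ι
  let T := tilde.functor (CommRingCat.of A)
  let ψ := NatTrans.ofOpSequence
    (F := Functor.ofOpSequence (X := fun n => rt 𝔞 (P n)) (fun n => Rf.map (Formal2.tmodMap A (tP n))))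
    (G := Functor.ofOpSequence (X := fun n => rt 𝔞 (Q n)) (fun n => Rf.map (Formal2.tmodMap A (tQ n))))
    (fun n => Rf.map (Formal2.tmodMap A (φ n))) fun n => by
      rw [Functor.ofOpSequence_map_homOfLE_succ, Functor.ofOpSequence_map_homOfLE_succ]
      show Rf.map (T.map _) ≫ Rf.map (T.map _) = Rf.map (T.map _) ≫ Rf.map (T.map _)
      rw [← Rf.map_comp, ← Rf.map_comp, ← T.map_comp, ← T.map_comp]
      congr 2
      exact ModuleCat.hom_ext (LinearMap.ext fun x => (comm n x).symm)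
  haveI : ∀ n : ℕ, IsIso (ψ.app (op n)) := fun n => isIso_rt_map (φ n) (hk n) (hc n)
  haveI : ∀ x, IsIso (ψ.app x) := fun x => this x.unop
  haveI : IsIso ψ := NatIso.isIso_of_isIso_app ψ
  exact ⟨asIso ψ⟩

/-- The completion of the sheaf of a finite module is given by its reductions. -/
theorem nonempty_iso_completion_rt (I : Ideal A) (M : Type u) [AddCommGroup M] [Module A M] :
    Nonempty (Formal.completion I (rt 𝔞 M) ≅ Functor.ofOpSequence (X := fun n => rt 𝔞 (Formal2.quotPow A I M n))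
      (fun n => (Scheme.Modules.restrictFunctor (LocCoh.puncturedOpen A 𝔞).ι).map
        (Formal2.tmodMap A (Formal2.quotPowTrans A I M n)))) := by
  letI : (Spec (CommRingCat.of A)).Over (Spec (CommRingCat.of A)) := ⟨𝟙 _⟩
  let U : (Spec (CommRingCat.of A)).Opens := LocCoh.puncturedOpen A 𝔞
  let Rf := Scheme.Modules.restrictFunctor U.ι
  let T := tilde.functor (CommRingCat.of A)
  have hq : ∀ n, Algz7.IsQuot (I ^ (n + 1))
      (T.map (ModuleCat.ofHom (Formal2.quotPowπ A I M n) :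
        ModuleCat.of A M ⟶ ModuleCat.of A (Formal2.quotPow A I M n))) := fun n =>
    Algz7.isQuot_tilde_map _ (Submodule.mkQ_surjective _) (Submodule.ker_mkQ _)
  refine Algz7.nonempty_iso_of_isQuot (A := A) (Iso.refl (rt 𝔞 M))
    (fun n => Formal.modPowπ I (n + 1) (rt 𝔞 M))
    (fun n => Rf.map (Formal2.tmodMap A (Formal2.quotPowπ A I M n)))
    (fun n => Algz7.isQuot_modPowπ I (n + 1) _)
    (fun n => Algz7.IsQuot.restrict U.ι (Category.comp_id _) (hq n))
    (fun n => by rw [Algz7.completion_map_succ]; exact Formal.modPowπ_trans I (n + 1) _)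
    (fun n => by
      rw [Functor.ofOpSequence_map_homOfLE_succ]
      show Rf.map (T.map _) ≫ Rf.map (T.map _) = Rf.map (T.map _)
      rw [← Rf.map_comp, ← T.map_comp]
      congr 2)

/-- The algebraisation. -/
theorem exists_coh_completion_iso_of (f : A) (hnz : f ∈ nonZeroDivisors A) [IsAdicComplete (Ideal.span {f}) A]
    (hf : f ∈ 𝔞)
    (hfin : ∀ (r : ℕ) (g : Fin r → A) (S : MSys f g), Ideal.span (Set.range g) = 𝔞 →
      (∀ n, LocFree (Ideal.span {f ^ (n + 1)}) 𝔞 (S.M n)) → Module.Finite A (S.cx.N 0) ∧ S.cx.IsStab)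
    (G : ℕᵒᵖ ⥤ (↑(LocCoh.puncturedOpen A 𝔞) : Scheme.{u}).Modules) (hG : Formal.IsCohFormal (Ideal.span {f}) G)
    (hfree : ∀ n : ℕ, Formal2.IsFinLocFreeMod (Ideal.span {f}) (n + 1) (G.obj (op n))) :
    ∃ F : (↑(LocCoh.puncturedOpen A 𝔞) : Scheme.{u}).Modules, Coh.IsCoh F ∧
      Nonempty (Formal.completion (Ideal.span {f}) F ≅ G) := by
  obtain ⟨M, hgrp, hmod, t, hMfin, hkill, hker, hran, ⟨θ⟩⟩ :=
    S0841.result A (Ideal.span {f}) 𝔞 ((Ideal.span_singleton_le_iff_mem _).2 hf) G hG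
  letI := hgrp
  letI := hmod
  haveI := hMfin
  have hk0 : ∀ n (x : M n), f ^ (n + 1) • x = 0 := fun n x => by
    have h : f ^ (n + 1) • x ∈ (Ideal.span {f}) ^ (n + 1) • (⊤ : Submodule A (M n)) :=
      Submodule.smul_mem_smul (Ideal.pow_mem_pow (Ideal.mem_span_singleton_self f) _) Submodule.mem_top
    rwa [hkill, Submodule.mem_bot] at h
  have hloc : ∀ n, LocFree (Ideal.span {f ^ (n + 1)}) 𝔞 (M n) := fun n =>
    locFree_of_iso f 𝔞 n (M n) (hk0 n) (G.obj (op n)) (hG.1 n).1 (θ.app (op n)) (hfree n)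
  obtain ⟨r, g, hg⟩ := Submodule.fg_iff_exists_fin_generating_family.1 (IsNoetherian.noetherian 𝔞)
  have hg' : Ideal.span (Set.range g) = 𝔞 := hg
  have hgI : ∀ i, g i ∈ 𝔞 := fun i => hg' ▸ Ideal.subset_span ⟨i, rfl⟩
  let S : MSys f g :=
    { M := M
      t := t
      killed := hk0
      ker_t := fun n x hx i => by
        obtain ⟨m, hm⟩ := hker n x hx
        obtain ⟨y, hy⟩ := H9Lef.mem_span_pow_smul_top.1 (hm _ (Ideal.pow_mem_pow (hgI i) m))
        exact ⟨m, y, hy.symm⟩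
      surj_t := fun n y i => by
        obtain ⟨m, hm⟩ := hran n y
        obtain ⟨x, hx⟩ := hm _ (Ideal.pow_mem_pow (hgI i) m)
        exact ⟨m, x, hx⟩
      reg := fun n x hx i => (hloc (n + 1)).exists_reg hnz hx (hgI i) }
  obtain ⟨hN, hst⟩ := hfin r g S hg' hloc
  haveI := hN
  haveI := hst
  haveI := S.cx.finite_M
  have hall : ∀ {N : Type u} [AddCommGroup N] [Module A N] (P : Submodule A N) (x : N),
      (∀ l, ∃ K : ℕ, g l ^ K • x ∈ P) → ∀ a ∈ 𝔞, ∃ K : ℕ, a ^ K • x ∈ P := fun {N} _ _ P x h a ha => by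
    have hle : Ideal.span (Set.range g) ≤ Ideal.radical (P.comap (LinearMap.toSpanSingleton A N x)) := by
      rw [Ideal.span_le]
      rintro _ ⟨l, rfl⟩
      exact h l
    exact hle (hg'.symm ▸ ha)
  have hall0 : ∀ {N : Type u} [AddCommGroup N] [Module A N] (x : N),
      (∀ l, ∃ K : ℕ, g l ^ K • x = 0) → ∀ a ∈ 𝔞, ∃ K : ℕ, a ^ K • x = 0 := fun {N} _ _ x h a ha => by
    obtain ⟨K, hK⟩ := hall (⊥ : Submodule A N) x (fun l => (h l).imp fun K hK => by simp [hK]) a ha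
    exact ⟨K, (Submodule.mem_bot A).1 hK⟩
  obtain ⟨e₁⟩ := nonempty_iso_completion_rt (𝔞 := 𝔞) (Ideal.span {f}) S.cx.M
  obtain ⟨e₂⟩ := nonempty_iso_rt (𝔞 := 𝔞) (P := fun n => Formal2.quotPow A (Ideal.span {f}) S.cx.M n)
    (Q := fun n => S.W n) (fun n => Formal2.quotPowTrans A (Ideal.span {f}) S.cx.M n) S.tW S.iQ
    (fun n x => S.tW_iQ n x) (fun n x hx a _ => ⟨0, by
      rw [(injective_iff_map_eq_zero _).1 (S.injective_iQ n) x hx, smul_zero]⟩)
    (fun n y => hall _ y fun l => S.exists_mem_range_iQ n y l)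
  obtain ⟨e₃⟩ := nonempty_iso_rt (𝔞 := 𝔞) (P := fun n => S.M n) (Q := fun n => S.W n) S.t S.tW S.iM
    (fun n x => S.tW_iM n x) (fun n x hx => hall0 x fun l => S.exists_kill_iM hx l)
    (fun n y => hall _ y fun l => S.exists_mem_range_iM n y l)
  refine ⟨rt 𝔞 S.cx.M, ⟨QCoh.isQCoh_restrict _ (Algz7.isCoh_tilde (ModuleCat.of A S.cx.M)).1,
    Algz7.isFT_restrict _ (Algz7.isCoh_tilde (ModuleCat.of A S.cx.M)).1
      (Algz7.isCoh_tilde (ModuleCat.of A S.cx.M)).2⟩, ⟨e₁ ≪≫ e₂ ≪≫ e₃.symm ≪≫ θ.symm⟩⟩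

/-- The algebraisation when the first two cohomology modules modulo `f` are finite. -/
theorem exists_coh_completion_iso (f : A) (hnz : f ∈ nonZeroDivisors A) [IsAdicComplete (Ideal.span {f}) A]
    (hf : f ∈ 𝔞) (h1 : FinH 𝔞 1 (A ⧸ Ideal.span {f})) (h2 : FinH 𝔞 2 (A ⧸ Ideal.span {f}))
    (G : ℕᵒᵖ ⥤ (↑(LocCoh.puncturedOpen A 𝔞) : Scheme.{u}).Modules) (hG : Formal.IsCohFormal (Ideal.span {f}) G)
    (hfree : ∀ n : ℕ, Formal2.IsFinLocFreeMod (Ideal.span {f}) (n + 1) (G.obj (op n))) :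
    ∃ F : (↑(LocCoh.puncturedOpen A 𝔞) : Scheme.{u}).Modules, Coh.IsCoh F ∧
      Nonempty (Formal.completion (Ideal.span {f}) F ≅ G) :=
  exists_coh_completion_iso_of f hnz hf
    (fun _ _ S hg hloc => S.finite_of_finH hg (by have := hloc 0; rwa [zero_add, pow_one] at this) h1 h2) G hG hfree

end Groth.Agent.LefAlgz
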