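import Groth.Agent.LefAlgz.GrDepth
import Groth.Agent.LefAlgz.ModCoh
import Groth.Agent.AssLib.OpenRestrict

/-!
# A locally free module modulo an ideal is locally free up to torsion
-/

noncomputable section

set_option autoImplicit false
set_option linter.style.haveILetI false
set_option backward.isDefEq.respectTransparency false
set_option backward.isDefEq.respectTransparency.types false

universe u

open CategoryTheory CategoryTheory.Limits AlgebraicGeometry Opposite TopologicalSpace
open Groth.Agent.TFQuot (st st_comp st_zero st_surjective)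

namespace Groth.Agent.LefAlgz.GrGeom

open Groth.Agent

variable {A : Type u} [CommRing A] [IsNoetherianRing A]

/-- The stalk of a module locally free modulo an ideal has a basis modulo the ideal. -/
theorem exists_stalk_basis {X : Scheme.{u}} [X.Over (Spec (CommRingCat.of A))] [IsLocallyNoetherian X]
    {I : Ideal A} {M : X.Modules} (hM : Formal2.IsFinLocFreeMod I 1 M) (x : X) :
    ∃ (q : ℕ) (b : Fin q → (DerSch.stalkFunctor X x).obj M),
      (∀ z, ∃ c : Fin q → X.presheaf.stalk x, ∑ t, c t • b t = z) ∧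
      ∀ c : Fin q → X.presheaf.stalk x, ∑ t, c t • b t = 0 → ∀ t, c t ∈ I.map (scal A x) := by
  classical
  obtain ⟨V, q, hxV, ⟨ε⟩⟩ := hM x
  let F := FlatMod.freeMod X q
  let p : (DerSch.stalkFunctor X x).obj F ⟶ (DerSch.stalkFunctor X x).obj M :=
    (DerSch.stalkFunctor X x).map (Formal.modPowπ I 1 F) ≫ KFlatLib.stalkAt hxV ε.inv
  have hq : Function.Bijective (KFlatLib.stalkAt hxV ε.inv) := by
    haveI : IsIso (KFlatLib.stalkAt hxV ε.inv) := ⟨KFlatLib.stalkAt hxV ε.hom,
      by rw [← KFlatLib.stalkAt_comp, ε.inv_hom_id]; exact KFlatLib.stalkAt_id hxV,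
      by rw [← KFlatLib.stalkAt_comp, ε.hom_inv_id]; exact KFlatLib.stalkAt_id hxV⟩
    exact ConcreteCategory.bijective_of_isIso _
  haveI : Epi (Formal.modPowπ I 1 F) := coequalizer.π_epi
  have hp : Function.Surjective p := hq.2.comp (st_surjective (Formal.modPowπ I 1 F) x)
  let B : Module.Basis (Fin q) (X.presheaf.stalk x) ((DerSch.stalkFunctor X x).obj F) := KFlatLib.eBasis x q
  refine ⟨q, fun t => p (B t), fun z => ?_, fun c hc => ?_⟩
  · obtain ⟨v, rfl⟩ := hp z
    refine ⟨B.equivFun v, ?_⟩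
    conv_rhs => rw [← B.sum_equivFun v]
    rw [map_sum]
    exact Finset.sum_congr rfl fun t _ => (map_smul p.hom _ _).symm
  · let v := ∑ t, c t • B t
    have hv : p v = 0 := by
      rw [map_sum, ← hc]
      exact Finset.sum_congr rfl fun t _ => map_smul p.hom _ _
    obtain ⟨s, e, he⟩ := Submodule.fg_iff_exists_fin_generating_family.1 (IsNoetherian.noetherian (I ^ 1 : Ideal A))
    obtain ⟨w, hw⟩ := exists_of_st_cokernel_eq_zero (J := I ^ 1) he x
      (v := v) (hq.1 ((show p v = 0 from hv).trans (map_zero _).symm))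
    intro t
    have h := congrArg (fun z => B.equivFun z t) hw
    have hv2 : B.equivFun v = c := by
      simp only [v, ← B.equivFun_symm_apply, LinearEquiv.apply_symm_apply]
    simp only [hv2, map_sum, map_smul, Finset.sum_apply, Pi.smul_apply, smul_eq_mul] at h
    rw [h]
    refine Ideal.sum_mem _ fun i _ => Ideal.mul_mem_right _ _ (Ideal.mem_map_of_mem _ ?_)
    have hi : e i ∈ I ^ 1 := he ▸ Submodule.subset_span ⟨i, rfl⟩
    rwa [pow_one] at hi

omit [IsNoetherianRing A] in
/-- The stalks of an open of the spectrum are localisations. -/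
theorem isLocalization_scal (U : (Spec (CommRingCat.of A)).Opens) (x : (U : Scheme.{u})) :
    letI : Algebra A ((U : Scheme.{u}).presheaf.stalk x) := (scal A x).toAlgebra
    IsLocalization.AtPrime ((U : Scheme.{u}).presheaf.stalk x) (x.1 : PrimeSpectrum A).asIdeal := by
  letI : Algebra A ((U : Scheme.{u}).presheaf.stalk x) := (scal A x).toAlgebra
  let p : PrimeSpectrum A := x.1
  letI : Algebra A ((Spec (CommRingCat.of A)).presheaf.stalk x.1) := StructureSheaf.stalkAlgebra A p
  haveI : IsLocalization.AtPrime ((Spec (CommRingCat.of A)).presheaf.stalk x.1) p.asIdeal :=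
    inferInstanceAs (IsLocalization.AtPrime ((Spec.structureSheaf A).presheaf.stalk p) p.asIdeal)
  haveI : IsIso (U.ι.stalkMap x) := inferInstance
  let σ : (Spec (CommRingCat.of A)).presheaf.stalk x.1 ≃+* (U : Scheme.{u}).presheaf.stalk x :=
    (asIso (U.ι.stalkMap x)).commRingCatIsoToRingEquiv
  exact IsLocalization.isLocalization_of_algEquiv p.asIdeal.primeCompl (AlgEquiv.ofRingEquiv (f := σ) fun a =>
    Scheme.Hom.germ_stalkMap_apply U.ι ⊤ x trivial _)

omit [IsNoetherianRing A] in
/-- The stalks of the sheaf of a module on an open are its localisations. -/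
theorem exists_stalk_loc {R : CommRingCat.{u}} (M : ModuleCat.{u} R) (U : (Spec R).Opens) (x : (U : Scheme.{u}))
    [(U : Scheme.{u}).Over (Spec (CommRingCat.of R))] (hov : ((U : Scheme.{u}) ↘ Spec (CommRingCat.of R)) = U.ι)
    {G : (U : Scheme.{u}).Modules} (e : G ≅ (Scheme.Modules.restrictFunctor U.ι).obj (tilde M)) :
    ∃ g : M → (DerSch.stalkFunctor (U : Scheme.{u}) x).obj G, (∀ m m', g (m + m') = g m + g m') ∧
      (∀ (a : R) m, g (a • m) = scal R x a • g m) ∧
      (∀ z, ∃ (s : R) (m : M), s ∉ (x.1 : PrimeSpectrum R).asIdeal ∧ scal R x s • z = g m) ∧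
      ∀ m, g m = 0 → ∃ s, s ∉ (x.1 : PrimeSpectrum R).asIdeal ∧ s • m = 0 := by
  let p : PrimeSpectrum R := x.1
  obtain ⟨ψ, hψ⟩ := AssLib.exists_semilinear_restrict U.ι (tilde M) x
  let l := ((DerSch.stalkFunctor (U : Scheme.{u}) x).mapIso e).toLinearEquiv
  letI : Algebra R ((Spec R).presheaf.stalk x.1) := StructureSheaf.stalkAlgebra R p
  haveI : IsScalarTower R ((Spec R).presheaf.stalk p) ((tilde M).presheaf.stalk p) :=
    inferInstanceAs (IsScalarTower R ((AlgebraicGeometry.structurePresheafInCommRingCat R).stalk p)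
      ↑(TopCat.Presheaf.stalk (AlgebraicGeometry.moduleStructurePresheaf R M).presheaf p))
  let g₀ : M →ₗ[R] (tilde M).presheaf.stalk p := (tilde.toStalk M p).hom
  haveI : IsLocalizedModule p.asIdeal.primeCompl g₀ :=
    inferInstanceAs (IsLocalizedModule p.asIdeal.primeCompl (tilde.toStalk M p).hom)
  have hscal : ∀ a : R, scal R x a = (U.ι.stalkMap x).hom (algebraMap R ((Spec R).presheaf.stalk x.1) a) := fun a => by
    rw [scal, hov]
    exact (Scheme.Hom.germ_stalkMap_apply U.ι ⊤ x trivial _).symm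
  have hsm : ∀ (a : R) (z : (tilde M).presheaf.stalk p), ψ.symm (a • z) = scal R x a • ψ.symm z := fun a z => by
    apply ψ.injective
    rw [hscal, hψ]
    erw [ψ.apply_symm_apply, ψ.apply_symm_apply]
    exact (algebraMap_smul ((Spec R).presheaf.stalk p) a z).symm
  refine ⟨fun m => l.symm (ψ.symm (g₀ m)), fun m m' => ?_, fun a m => ?_, fun z => ?_, fun m hm => ?_⟩
  · exact (congrArg (fun z => l.symm (ψ.symm z)) (map_add g₀ m m')).trans
      ((congrArg l.symm (map_add ψ.symm (g₀ m) (g₀ m'))).trans (map_add l.symm _ _))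
  · exact (congrArg (fun z => l.symm (ψ.symm z)) (map_smul g₀ a m)).trans
      ((congrArg l.symm (hsm a (g₀ m))).trans (map_smul l.symm _ _))
  · obtain ⟨⟨m, s⟩, h⟩ := IsLocalizedModule.surj p.asIdeal.primeCompl g₀ (ψ (l z))
    refine ⟨s.1, m, s.2, ?_⟩
    show _ = l.symm (ψ.symm (g₀ m))
    rw [← h]
    erw [hsm s.1 (ψ (l z)), ψ.symm_apply_apply, map_smul, l.symm_apply_apply]
  · have h0 : g₀ m = 0 := by
      have h1 : ψ.symm (g₀ m) = 0 := l.symm.injective (hm.trans (map_zero l.symm).symm)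
      exact ψ.symm.injective (h1.trans (map_zero ψ.symm).symm)
    obtain ⟨s, hs⟩ := (IsLocalizedModule.eq_zero_iff p.asIdeal.primeCompl g₀).1 h0
    exact ⟨s.1, s.2, hs⟩

set_option maxHeartbeats 1000000 in
/-- A module giving a sheaf locally free modulo `J` is locally free modulo `J` up to torsion. -/
theorem locFree_of_finLocFreeMod {J 𝔞 : Ideal A} (M : Type u) [AddCommGroup M] [Module A M] [Module.Finite A M]
    (hk : ∀ a ∈ J, ∀ m : M, a • m = 0) {G : (↑(LocCoh.puncturedOpen A 𝔞) : Scheme.{u}).Modules}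
    (e : G ≅ rt 𝔞 M) (hfree : Formal2.IsFinLocFreeMod J 1 G) : LocFree J 𝔞 M := by
  classical
  intro P hP h𝔞
  let U := LocCoh.puncturedOpen A 𝔞
  haveI : IsLocallyNoetherian (U : Scheme.{u}) := LocallyOfFiniteType.isLocallyNoetherian U.ι
  let p : PrimeSpectrum A := ⟨P, hP⟩
  let pt : Spec (CommRingCat.of A) := p
  let x : (U : Scheme.{u}) := ⟨pt, h𝔞⟩
  letI : Algebra A ((U : Scheme.{u}).presheaf.stalk x) := (scal A x).toAlgebra
  haveI := isLocalization_scal U x
  obtain ⟨q, b, hspan, hindep⟩ := exists_stalk_basis hfree x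
  -- the localisation map into the stalk
  obtain ⟨g, hadd, hsmul, hsurjg, hzero⟩ :=
    exists_stalk_loc (R := CommRingCat.of A) (ModuleCat.of A M) U x rfl e
  have hg0 : g 0 = 0 := by
    have := hadd 0 0
    rw [add_zero] at this
    simpa using this
  have hsum : ∀ (s : Finset (Fin q)) (v : Fin q → M), g (∑ t ∈ s, v t) = ∑ t ∈ s, g (v t) := fun s v => by
    induction s using Finset.induction_on with
    | empty => rw [Finset.sum_empty, Finset.sum_empty, hg0]
    | insert i s hi ih => rw [Finset.sum_insert hi, Finset.sum_insert hi, hadd, ih]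
  -- lifts of the basis
  choose s m hs hm using fun t => hsurjg (b t)
  let φ : (Fin q → A ⧸ J) →ₗ[A] M :=
    LinearMap.lsum A (fun _ : Fin q => A ⧸ J) A fun t =>
      Submodule.liftQ _ (LinearMap.toSpanSingleton A M (m t)) fun a ha => hk a ha (m t)
  have hφ : ∀ c : Fin q → A, φ (fun t => Submodule.mkQ _ (c t)) = ∑ t, c t • m t := fun c => by
    simp only [φ, LinearMap.lsum_apply, LinearMap.sum_apply, LinearMap.comp_apply, LinearMap.proj_apply]
    rfl
  have hker : ∀ v, φ v = 0 → ∃ a, a ∉ P ∧ a • v = 0 := fun v hv => by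
    choose c hc using fun t => Submodule.mkQ_surjective J (v t)
    obtain rfl : (fun t => Submodule.mkQ J (c t)) = v := funext hc
    have h0 : ∑ t, (scal A x (c t) * scal A x (s t)) • b t = 0 := by
      rw [← hg0, ← hv, hφ, hsum]
      exact Finset.sum_congr rfl fun t _ => by rw [mul_smul, hm, hsmul]
    have hmem : ∀ t, ∃ a, a ∉ P ∧ a * c t ∈ J := fun t => by
      have h1 := hindep _ h0 t
      rw [← map_mul] at h1
      obtain ⟨⟨⟨j, hj⟩, w⟩, hw⟩ := (IsLocalization.mem_map_algebraMap_iff p.asIdeal.primeCompl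
        ((U : Scheme.{u}).presheaf.stalk x) (I := J) (z := scal A x (c t * s t))).1 h1
      change algebraMap A _ (c t * s t) * algebraMap A _ w.1 = algebraMap A _ j at hw
      rw [← map_mul] at hw
      obtain ⟨u, hu⟩ := (IsLocalization.eq_iff_exists p.asIdeal.primeCompl _).1 hw
      refine ⟨u.1 * w.1 * s t, fun h => ?_, ?_⟩
      · rcases hP.mem_or_mem h with h' | h'
        · rcases hP.mem_or_mem h' with h'' | h''
          exacts [u.2 h'', w.2 h'']
        · exact hs t h'
      · rw [show u.1 * w.1 * s t * c t = u.1 * (c t * s t * w.1) by ring, hu]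
        exact Ideal.mul_mem_left _ _ hj
    choose a ha haJ using hmem
    refine ⟨∏ t, a t, fun h => ?_, funext fun t => ?_⟩
    · obtain ⟨t, -, ht⟩ := (hP.prod_mem_iff).1 h
      exact ha t ht
    · show (∏ t, a t) • Submodule.mkQ J (c t) = 0
      rw [← map_smul]
      refine (Submodule.Quotient.mk_eq_zero J).2 ?_
      obtain ⟨d, hd⟩ := Finset.dvd_prod_of_mem a (Finset.mem_univ t)
      rw [smul_eq_mul, hd, show a t * d * c t = d * (a t * c t) by ring]
      exact Ideal.mul_mem_left _ _ (haJ t)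
  have hcok : ∀ y, ∃ a, a ∉ P ∧ a • y ∈ LinearMap.range φ := fun y => by
    obtain ⟨c, hc⟩ := hspan (g y)
    choose nw hw using fun t => IsLocalization.surj p.asIdeal.primeCompl (c t)
    let n := fun t => (nw t).1
    let w := fun t => (nw t).2
    have hd : ∀ t, ∃ u : A, scal A x (∏ i, (w i).1) * c t = scal A x u := fun t => by
      refine ⟨(∏ i ∈ Finset.univ.erase t, (w i).1) * n t, ?_⟩
      rw [← Finset.mul_prod_erase _ _ (Finset.mem_univ t), map_mul, map_mul]
      have := hw t
      change c t * scal A x (w t).1 = scal A x (n t) at this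
      rw [← this]
      ring
    choose u hu using hd
    have hns : ∀ t, ∃ v : A, scal A x (∏ i, s i) • (scal A x (u t) • b t) = g (v • m t) := fun t => by
      refine ⟨(∏ i ∈ Finset.univ.erase t, s i) * u t, ?_⟩
      rw [hsmul, ← hm, smul_smul, smul_smul, ← Finset.mul_prod_erase _ _ (Finset.mem_univ t), map_mul, map_mul]
      congr 1
      ring
    choose v hv using hns
    have hkey : g (((∏ i, s i) * (∏ i, (w i).1)) • y) = g (∑ t, v t • m t) := by
      rw [hsum, hsmul, map_mul, mul_smul, ← hc, Finset.smul_sum, Finset.smul_sum]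
      refine Finset.sum_congr rfl fun t _ => ?_
      rw [← hv, smul_smul (scal A x (∏ i, (w i).1)) (c t), hu]
    have hdiff : g (((∏ i, s i) * (∏ i, (w i).1)) • y - ∑ t, v t • m t) = 0 := by
      have := hadd (((∏ i, s i) * (∏ i, (w i).1)) • y - ∑ t, v t • m t) (∑ t, v t • m t)
      rw [sub_add_cancel, hkey] at this
      simpa using this
    obtain ⟨a, ha, ha0⟩ := hzero _ hdiff
    refine ⟨a * ((∏ i, s i) * (∏ i, (w i).1)), fun h => ?_, ⟨fun t => Submodule.mkQ J (a * v t), ?_⟩⟩
    · rcases hP.mem_or_mem h with h' | h'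
      · exact ha h'
      · rcases hP.mem_or_mem h' with h'' | h''
        · obtain ⟨t, -, ht⟩ := (hP.prod_mem_iff).1 h''
          exact hs t ht
        · obtain ⟨t, -, ht⟩ := (hP.prod_mem_iff).1 h''
          exact (w t).2 ht
    · rw [hφ, mul_smul, ← sub_eq_zero, ← neg_eq_zero, neg_sub, ← ha0, smul_sub, Finset.smul_sum]
      congr 1
      exact Finset.sum_congr rfl fun t _ => mul_smul _ _ _
  -- one element
  obtain ⟨k₁, w₁, hw₁⟩ := Submodule.fg_iff_exists_fin_generating_family.1 (IsNoetherian.noetherian (LinearMap.ker φ))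
  choose a₁ ha₁ ha₁' using fun t => hker (w₁ t) (LinearMap.mem_ker.1 (hw₁ ▸ Submodule.subset_span ⟨t, rfl⟩))
  obtain ⟨k₂, w₂, hw₂⟩ := Module.Finite.exists_fin (R := A) (M := M)
  choose a₂ ha₂ ha₂' using fun t => hcok (w₂ t)
  refine ⟨(∏ t, a₁ t) * ∏ t, a₂ t, q, φ, fun h => ?_, fun v hv => ⟨1, ?_⟩, fun y => ⟨1, ?_⟩⟩
  · rcases hP.mem_or_mem h with h' | h'
    · obtain ⟨t, -, ht⟩ := (hP.prod_mem_iff).1 h'
      exact ha₁ t ht
    · obtain ⟨t, -, ht⟩ := (hP.prod_mem_iff).1 h'
      exact ha₂ t ht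
  · have hle : LinearMap.ker φ ≤ LinearMap.ker ((∏ t, a₁ t) • LinearMap.id : (Fin q → A ⧸ J) →ₗ[A] _) := by
      rw [← hw₁, Submodule.span_le]
      rintro _ ⟨t, rfl⟩
      obtain ⟨d, hd⟩ := Finset.dvd_prod_of_mem a₁ (Finset.mem_univ t)
      show (∏ t, a₁ t) • w₁ t = 0
      rw [hd, mul_comm, mul_smul, ha₁', smul_zero]
    rw [pow_one, mul_comm, mul_smul, show (∏ t, a₁ t) • v = 0 from hle hv, smul_zero]
  · have hle : (⊤ : Submodule A M) ≤ (LinearMap.range φ).comap ((∏ t, a₂ t) • LinearMap.id) := by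
      rw [← hw₂, Submodule.span_le]
      rintro _ ⟨t, rfl⟩
      obtain ⟨d, hd⟩ := Finset.dvd_prod_of_mem a₂ (Finset.mem_univ t)
      show (∏ t, a₂ t) • w₂ t ∈ LinearMap.range φ
      rw [hd, mul_comm, mul_smul]
      exact Submodule.smul_mem _ _ (ha₂' t)
    obtain ⟨v, hv⟩ := Submodule.smul_mem _ (∏ t, a₁ t) (hle (Submodule.mem_top (x := y)))
    exact ⟨v, by rw [pow_one, mul_smul]; simpa using hv⟩

end Groth.Agent.LefAlgz.GrGeom
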