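import Groth.Agent.LefAlgz.Levels
import Groth.Agent.LefAlgz.Cls
import Groth.Agent.LefAlgz.AlgMain

/-!
# The obstructions stabilise when reduction kills second cohomology up to powers
-/

noncomputable section

set_option autoImplicit false
set_option linter.style.haveILetI false
set_option backward.isDefEq.respectTransparency false
set_option backward.isDefEq.respectTransparency.types false

universe u

open CategoryTheory Limits TensorProduct

namespace Groth.Agent.LefAlgz

open Groth.Agent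

variable {A : Type u} [CommRing A]

/-- Reduction from level `c` to level zero. -/
def redA (f : A) (c : ℕ) : (A ⧸ Ideal.span {f ^ (c + 1)}) →ₗ[A] A ⧸ Ideal.span {f} :=
  Submodule.factor (Ideal.span_singleton_le_span_singleton.2 ⟨f ^ c, pow_succ' f c⟩)

/-- The image of second cohomology under reduction is killed by a power of every element of `I`. -/
def ImgKill (I : Ideal A) (f : A) (c : ℕ) : Prop :=
  ∀ a ∈ I, ∃ K, ∀ z : LocCoh.H I 2 (A ⧸ Ideal.span {f ^ (c + 1)}),
    a ^ K • ((localCohomology I 2).map (ModuleCat.ofHom (redA f c))).hom z = 0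

/-- Submodules of second cohomology of finite modules killed by a power of `I` are finite. -/
def CofinTwo (I : Ideal A) : Prop :=
  ∀ (M : Type u) [AddCommGroup M] [Module A M] [Module.Finite A M] (P : Submodule A (LocCoh.H I 2 M)) (n : ℕ),
    (∀ a ∈ I ^ n, ∀ z ∈ P, a • z = 0) → Module.Finite A P

theorem exists_pow_kill_of_gens [IsNoetherianRing A] {I : Ideal A} {r : ℕ} {g : Fin r → A}
    (hg : Ideal.span (Set.range g) = I) {M : Type u} [AddCommGroup M] [Module A M] (P : Submodule A M)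
    (h : ∀ l, ∃ K, ∀ z ∈ P, g l ^ K • z = 0) : ∃ n, ∀ a ∈ I ^ n, ∀ z ∈ P, a • z = 0 := by
  choose K hK using h
  obtain ⟨n, hn⟩ := H9Lef.exists_pow_le_span hg (Finset.univ.sup K)
  refine ⟨n, fun a ha z hz => ?_⟩
  have key : ∀ c ∈ Ideal.span (Set.range fun j => g j ^ Finset.univ.sup K), c • z = 0 := fun c hc => by
    induction hc using Submodule.span_induction with
    | mem c hc' =>
      obtain ⟨j, rfl⟩ := hc'
      obtain ⟨d, hd⟩ := Nat.exists_eq_add_of_le (Finset.le_sup (f := K) (Finset.mem_univ j))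
      show g j ^ Finset.univ.sup K • z = 0
      rw [hd, add_comm, pow_add, mul_smul, hK j z hz, smul_zero]
    | zero => rw [zero_smul]
    | add _ _ _ _ h h' => rw [add_smul, h, h', add_zero]
    | smul _ _ _ h => rw [smul_assoc, h, smul_zero]
  exact key a (hn ha)

variable {f : A} {I : Ideal A}

theorem map_H_smul {M N : Type u} [AddCommGroup M] [Module A M] [AddCommGroup N] [Module A N] (j : ℕ) (c : A)
    (φ : M →ₗ[A] N) (z : LocCoh.H I j M) :
    ((localCohomology I j).map (ModuleCat.ofHom (c • φ))).hom z =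
      c • ((localCohomology I j).map (ModuleCat.ofHom φ)).hom z := by
  have h : ModuleCat.ofHom (c • φ) = ModuleCat.ofHom φ ≫ (c • 𝟙 (ModuleCat.of A N)) :=
    ModuleCat.hom_ext rfl
  rw [h, Functor.map_comp, ModuleCat.comp_apply, LC.map_smul_id]

theorem map_H_comp {M N P : Type u} [AddCommGroup M] [Module A M] [AddCommGroup N] [Module A N] [AddCommGroup P]
    [Module A P] (j : ℕ) (φ : M →ₗ[A] N) (ψ : N →ₗ[A] P) (z : LocCoh.H I j M) :
    ((localCohomology I j).map (ModuleCat.ofHom (ψ ∘ₗ φ))).hom z =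
      ((localCohomology I j).map (ModuleCat.ofHom ψ)).hom
        (((localCohomology I j).map (ModuleCat.ofHom φ)).hom z) := by
  rw [ModuleCat.ofHom_comp, Functor.map_comp, ModuleCat.comp_apply]

variable [IsNoetherianRing A]

/-- The killing passes to maps into modules killed by `f` out of split modules. -/
theorem exists_kill_map {r : ℕ} {g : Fin r → A} (hgI : ∀ i, g i ∈ I) {c : ℕ} (hI : ImgKill I f c) {M N : Type u}
    [AddCommGroup M] [Module A M] [AddCommGroup N] [Module A N] (hM : Split g (A ⧸ Ideal.span {f ^ (c + 1)}) M)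
    (φ : M →ₗ[A] N) (hN : ∀ y : N, f • y = 0) (l : Fin r) :
    ∃ K, ∀ z : LocCoh.H I 2 M, g l ^ K • ((localCohomology I 2).map (ModuleCat.ofHom φ)).hom z = 0 := by
  classical
  obtain ⟨p, k, α, β, hβ⟩ := hM l
  obtain ⟨K, hK⟩ := hI _ (hgI l)
  let R := A ⧸ Ideal.span {f ^ (c + 1)}
  let R' := A ⧸ Ideal.span {f}
  let π : (Fin p → R) →ₗ[A] (Fin p → R') := LinearMap.pi fun t => redA f c ∘ₗ LinearMap.proj t
  let γ : (Fin p → R') →ₗ[A] N := LinearMap.lsum A (fun _ : Fin p => R') A fun t =>
    Submodule.liftQ (Ideal.span {f}) (LinearMap.toSpanSingleton A N (φ (β (Pi.single t 1)))) (by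
      rw [Ideal.span, Submodule.span_le]
      rintro _ rfl
      exact hN _)
  have hfac : γ ∘ₗ π = φ ∘ₗ β := by
    refine LinearMap.pi_ext fun t y => ?_
    obtain ⟨a, rfl⟩ := Submodule.mkQ_surjective _ y
    have h1 : π (Pi.single t (Submodule.Quotient.mk a)) =
        Pi.single t (Submodule.Quotient.mk a : R') := funext fun i => by
      show redA f c ((Pi.single t (Submodule.Quotient.mk a : R) : Fin p → R) i) = _
      by_cases hi : i = t
      · subst hi; rw [Pi.single_eq_same, Pi.single_eq_same]; rfl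
      · rw [Pi.single_eq_of_ne hi, Pi.single_eq_of_ne hi, map_zero]
    have h2 : (Pi.single t (Submodule.Quotient.mk a : R) : Fin p → R) = a • Pi.single t (1 : R) := by
      rw [← Pi.single_smul', Algebra.smul_def, mul_one]
      rfl
    show γ (π (Pi.single t (Submodule.Quotient.mk a))) = φ (β (Pi.single t (Submodule.Quotient.mk a)))
    rw [h1, h2, map_smul, map_smul]
    simp only [γ, LinearMap.lsum_piSingle]
    rfl
  refine ⟨K + k, fun z => ?_⟩
  have h3 : g l ^ k • ((localCohomology I 2).map (ModuleCat.ofHom φ)).hom z =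
      ((localCohomology I 2).map (ModuleCat.ofHom γ)).hom (((localCohomology I 2).map (ModuleCat.ofHom π)).hom
        (((localCohomology I 2).map (ModuleCat.ofHom α)).hom z)) := by
    rw [← map_H_smul, ← map_H_comp, ← map_H_comp]
    congr 4
    ext x
    show g l ^ k • φ x = γ (π (α x))
    rw [← LinearMap.comp_apply γ π, hfac, LinearMap.comp_apply, hβ, map_smul]
  rw [pow_add, mul_smul, h3, ← map_smul]
  obtain ⟨w, hw⟩ := exists_sum_map (I := I) (fun _ : Fin p => R) 2
    (((localCohomology I 2).map (ModuleCat.ofHom α)).hom z)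
  rw [hw, map_sum, Finset.smul_sum, Finset.sum_eq_zero fun t _ => ?_, map_zero]
  have h4 : π ∘ₗ LinearMap.single A (fun _ : Fin p => R) t =
      LinearMap.single A (fun _ : Fin p => R') t ∘ₗ redA f c := by
    refine LinearMap.ext fun y => funext fun i => ?_
    show redA f c ((Pi.single t y : Fin p → R) i) = (Pi.single t (redA f c y) : Fin p → R') i
    by_cases hi : i = t
    · subst hi; rw [Pi.single_eq_same, Pi.single_eq_same]
    · rw [Pi.single_eq_of_ne hi, Pi.single_eq_of_ne hi, map_zero]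
  rw [← map_H_comp, h4, map_H_comp, ← map_smul, hK, map_zero]

namespace Lifting

variable {C : Type u} [CommRing C] [Algebra A C] {r : ℕ} {g : Fin r → A} (Λ : Lifting f C g)
  (hnz : f ∈ nonZeroDivisors A)

theorem smul_level_eq_zero (n : ℕ) (i : Fin r) (y : (Λ.L1 i).Q n) : f ^ (n + 1) • y = 0 := by
  obtain ⟨x, rfl⟩ := Ideal.Quotient.mk_surjective y
  exact (Λ.L1 i).mk_pow_smul n x

include hnz in
set_option synthInstance.maxHeartbeats 200000 in
set_option maxHeartbeats 1000000 in
/-- The kernel algebra at any level splits near the opens. -/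
theorem split_level [∀ n, Module.Finite A (Λ.Nalg n)] (c : ℕ) :
    Split g (A ⧸ Ideal.span {f ^ (c + 1)}) (Λ.Nalg c) := by
  let J : Ideal A := Ideal.span {f ^ (c + 1)}
  let B := A ⧸ J
  have hz : algebraMap A (Λ.Nalg c) (f ^ (c + 1)) = 0 := Subtype.ext (funext fun i => by
    show algebraMap A ((Λ.L1 i).Q c) (f ^ (c + 1)) = 0
    have := Λ.smul_level_eq_zero c i 1
    rwa [Algebra.smul_def, mul_one] at this)
  letI : Algebra B (Λ.Nalg c) := (Ideal.Quotient.lift J (algebraMap A (Λ.Nalg c)) fun z hzz => by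
    obtain ⟨w, rfl⟩ := Ideal.mem_span_singleton'.1 hzz
    rw [map_mul, hz, mul_zero]).toAlgebra
  haveI : IsScalarTower A B (Λ.Nalg c) := IsScalarTower.of_algebraMap_eq fun _ => rfl
  refine split_of_etale (f := f ^ (c + 1)) (C := Λ.Nalg c) fun i => ?_
  letI : Algebra (Λ.Nalg c) ((Λ.L1 i).Q c) := (Λ.evN c i).toRingHom.toAlgebra
  haveI := Λ.isLocalization_evN hnz c i
  letI : Algebra B ((Λ.L1 i).Q c) :=
    ((algebraMap (Λ.Nalg c) ((Λ.L1 i).Q c)).comp (algebraMap B (Λ.Nalg c))).toAlgebra
  haveI : IsScalarTower B (Λ.Nalg c) ((Λ.L1 i).Q c) := IsScalarTower.of_algebraMap_eq fun _ => rfl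
  haveI : IsScalarTower A B ((Λ.L1 i).Q c) := IsScalarTower.of_algebraMap_eq fun a =>
    ((Λ.evN c i).commutes a).symm
  -- the thickening is étale over the truncation
  have hE : Algebra.Etale B (B ⊗[A] (Λ.L1 i).E) := inferInstance
  let I' := (Λ.L1 i).I c
  have hI' : I' = J.map (algebraMap A (Λ.L1 i).E) := by
    rw [Ideal.map_span, Set.image_singleton]
  let e0 : (Λ.L1 i).Q c ≃ₐ[A] B ⊗[A] (Λ.L1 i).E :=
    ((Ideal.quotientEquivAlgOfEq A hI').trans
      ((Algebra.TensorProduct.quotIdealMapEquivTensorQuot (Λ.L1 i).E J).restrictScalars A)).trans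
      (Algebra.TensorProduct.comm A _ _)
  have hsurj : Function.Surjective (algebraMap A B) := Ideal.Quotient.mk_surjective
  let e1 := AlgEquiv.extendScalarsOfSurjective hsurj e0
  haveI : Algebra.Etale B ((Λ.L1 i).Q c) := Algebra.Etale.of_equiv e1.symm
  exact Algebra.Etale.of_equiv ((IsLocalization.algEquiv (Submonoid.powers (algebraMap A (Λ.Nalg c) (g i)))
    ((Λ.L1 i).Q c) (H9Pur.L (Λ.Nalg c) (g i))).restrictScalars B)

include hnz in
/-- The obstructions stabilise. -/
theorem isStab (hg : Ideal.span (Set.range g) = I) [hN : Module.Finite A ((Λ.cx hnz).N 0)] {c : ℕ}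
    (hI : ImgKill I f c) (hC : CofinTwo I) : (Λ.cx hnz).IsStab := by
  let T := Λ.cx hnz
  have hgI : ∀ i, g i ∈ I := fun i => hg ▸ Ideal.subset_span ⟨i, rfl⟩
  haveI : ∀ n, Module.Finite A (Λ.Nalg n) := fun n => by
    haveI := finite_kernel T n
    exact Module.Finite.equiv (Λ.equivNalg hnz n)
  have hdZ : ∀ n, LinearMap.range (T.d.app n) ≤ LinearMap.ker (T.e.app n) := fun n => by
    rintro _ ⟨x, rfl⟩
    exact T.ed n x
  have htor : ∀ n, ∀ z : LinearMap.ker (T.e.app n), Submodule.Quotient.mk z ∈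
      DRing.torsionSub I (LinearMap.ker (T.e.app n) ⧸ LinearMap.range (Submodule.inclusion (hdZ n))) :=
    fun n z => isPowerTorsion_of_forall hg (M := LinearMap.ker (T.e.app n) ⧸
      LinearMap.range (Submodule.inclusion (hdZ n))) (fun w l => by
        obtain ⟨v, rfl⟩ := Submodule.mkQ_surjective _ w
        obtain ⟨K, x, hx⟩ := Λ.exists_coboundary_level hnz l n v.1 v.2
        refine ⟨K, ?_⟩
        rw [← map_smul, Submodule.mkQ_apply, Submodule.Quotient.mk_eq_zero]
        exact ⟨⟨_, x, rfl⟩, Subtype.ext hx⟩) _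
  let cl := fun n => cls I (T.d.app n) (LinearMap.ker (T.e.app n)) (hdZ n) (htor n)
  -- the map of kernels
  have hker : ∀ x ∈ LinearMap.ker (T.d.app c), T.C0.pr c x ∈ LinearMap.ker (T.d.app 0) := fun x hx => by
    show T.d.app 0 (T.C0.pr c x) = 0
    rw [FTower.pr, T.d.app_dn, LinearMap.mem_ker.1 hx, map_zero]
  let φ : Λ.Nalg c →ₗ[A] LinearMap.ker (T.d.app 0) :=
    (T.C0.pr c).restrict hker ∘ₗ (Λ.equivNalg hnz c).symm.toLinearMap
  have hφ : ∀ y : LinearMap.ker (T.d.app 0), f • y = 0 := fun y => Subtype.ext (funext fun i => by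
    show f • y.1 i = 0
    have := Λ.smul_level_eq_zero 0 i (y.1 i)
    rwa [zero_add, pow_one] at this)
  have hkill : ∀ l, ∃ K, ∀ w : LocCoh.H I 2 (LinearMap.ker (T.d.app c)),
      g l ^ K • ((localCohomology I 2).map (ModuleCat.ofHom ((T.C0.pr c).restrict hker))).hom w = 0 := fun l => by
    obtain ⟨K, hK⟩ := exists_kill_map hgI hI (Λ.split_level hnz c) φ hφ l
    refine ⟨K, fun w => ?_⟩
    have h := hK (((localCohomology I 2).map (ModuleCat.ofHom (Λ.equivNalg hnz c).toLinearMap)).hom w)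
    have hcomp : φ ∘ₗ (Λ.equivNalg hnz c).toLinearMap = (T.C0.pr c).restrict hker :=
      LinearMap.ext fun x => congrArg ((T.C0.pr c).restrict hker) ((Λ.equivNalg hnz c).symm_apply_apply x)
    rw [← map_H_comp, hcomp] at h
    exact h
  let P : Submodule A (LocCoh.H I 2 (LinearMap.ker (T.d.app 0))) :=
    LinearMap.range ((localCohomology I 2).map (ModuleCat.ofHom ((T.C0.pr c).restrict hker))).hom
  obtain ⟨n, hn⟩ := exists_pow_kill_of_gens hg P fun l => (hkill l).imp fun K hK => by
    rintro _ ⟨w, rfl⟩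
    exact hK w
  haveI : Module.Finite A P := hC (T.N 0) P n hn
  haveI : IsNoetherian A P := isNoetherian_of_isNoetherianRing_of_finite A P
  -- injectivity of the classes at level zero
  have hinj : ∀ z : T.Z, cl 0 z = 0 → (Submodule.Quotient.mk z : T.H) = 0 := fun z hz => by
    rw [Submodule.Quotient.mk_eq_zero]
    exact mem_range_of_cls_eq_zero I _ _ (hdZ 0) (htor 0)
      (subsingleton_pi (fun i => (Λ.L1 i).Q 0) g hgI
        (fun i => by simpa using smul_bijective_Q hnz (Λ.L1 i) (dvd_refl (g i)) 1) 1)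
      (Λ.torsionSub_W hnz hgI) z hz
  let Φ : T.H →ₗ[A] LocCoh.H I 2 (LinearMap.ker (T.d.app 0)) :=
    Submodule.liftQ _ (cl 0) (by
      rintro z ⟨x, hx⟩
      obtain rfl : z = Submodule.inclusion (hdZ 0) ⟨T.d.app 0 x, x, rfl⟩ := Subtype.ext hx.symm
      exact cls_inclusion I _ _ (hdZ 0) (htor 0) _)
  have hΦ : Function.Injective Φ := (injective_iff_map_eq_zero _).2 fun h hh => by
    obtain ⟨z, rfl⟩ := Submodule.mkQ_surjective _ h
    exact hinj z hh
  have hrange : ∀ m, (LinearMap.range (T.delta m)).map Φ ≤ P := fun m => by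
    rintro _ ⟨_, ⟨s, rfl⟩, rfl⟩
    obtain ⟨z, hz, hz', hd⟩ := T.exists_cocycle_of_delta s c
    rw [hd]
    refine ⟨cl c ⟨z, hz⟩, ?_⟩
    exact (cls_natural I _ _ (hdZ c) (htor c) _ _ (hdZ 0) (htor 0) (T.C0.pr c) (T.C1.pr c)
      (fun x => T.d.app_dn _ x) (fun w hw => by
        show T.e.app 0 (T.C1.pr c w) = 0
        rw [FTower.pr, T.e.app_dn, LinearMap.mem_ker.1 hw, map_zero]) hker ⟨z, hz⟩).symm
  let s : ℕ →o Submodule A P := ⟨fun m => ((LinearMap.range (T.delta m)).map Φ).comap P.subtype,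
    fun a b hab => Submodule.comap_mono (Submodule.map_mono (T.range_delta_mono hab))⟩
  obtain ⟨c₀, hc₀⟩ := monotone_stabilizes_iff_noetherian.2 (inferInstance : IsNoetherian A P) s
  refine ⟨⟨c₀, fun m hm => ?_⟩⟩
  refine Submodule.map_injective_of_injective hΦ (le_antisymm (Submodule.map_mono (T.range_delta_mono hm)) ?_)
  intro y hy
  have : (⟨y, hrange m hy⟩ : P) ∈ s c₀ := (hc₀ m hm).ge hy
  exact this

end Lifting

end Groth.Agent.LefAlgz
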