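import Groth.Agent.LefAlgz.ModAlg
import Groth.Agent.LefAlgz.StabCrit

/-!
# Stable obstructions for systems of modules when reduction kills second cohomology up to powers
-/

noncomputable section

set_option autoImplicit false
set_option linter.style.haveILetI false
set_option backward.isDefEq.respectTransparency false
set_option backward.isDefEq.respectTransparency.types false

universe u

open CategoryTheory Limits

namespace Groth.Agent.LefAlgz

open Groth.Agent

variable {A : Type u} [CommRing A] [IsNoetherianRing A]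

/-- A section, up to powers of `a`, of a map with cokernel killed by powers of `a` from a module whose kernel is too. -/
theorem exists_pow_section {P Q : Type u} [AddCommGroup P] [Module A P] [AddCommGroup Q] [Module A Q]
    [Module.Finite A P] [Module.Finite A Q] (φ : P →ₗ[A] Q) (a : A) (hker : ∀ v, φ v = 0 → ∃ K : ℕ, a ^ K • v = 0)
    (hsurj : ∀ y, ∃ K : ℕ, a ^ K • y ∈ LinearMap.range φ) :
    ∃ (k : ℕ) (ψ : Q →ₗ[A] P), ∀ y, φ (ψ y) = a ^ k • y := by
  classical
  haveI : IsNoetherian A P := isNoetherian_of_isNoetherianRing_of_finite A P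
  obtain ⟨l, hl⟩ : ∃ l : ℕ, ∀ v, φ v = 0 → a ^ l • v = 0 := by
    obtain ⟨m, s, hs⟩ := Submodule.fg_iff_exists_fin_generating_family.1 (IsNoetherian.noetherian (LinearMap.ker φ))
    choose K hK using fun t => hker (s t) (hs ▸ Submodule.subset_span ⟨t, rfl⟩ : s t ∈ LinearMap.ker φ)
    refine ⟨Finset.univ.sup K, fun v hv => ?_⟩
    have hle : LinearMap.ker φ ≤ LinearMap.ker (a ^ Finset.univ.sup K • LinearMap.id : P →ₗ[A] _) := by
      rw [← hs, Submodule.span_le]
      rintro _ ⟨t, rfl⟩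
      obtain ⟨d, hd⟩ := Nat.exists_eq_add_of_le (Finset.le_sup (f := K) (Finset.mem_univ t))
      show a ^ Finset.univ.sup K • s t = 0
      rw [hd, add_comm, pow_add, mul_smul, hK, smul_zero]
    exact hle hv
  obtain ⟨k, hk⟩ : ∃ k : ℕ, ∀ y, a ^ k • y ∈ LinearMap.range φ := by
    obtain ⟨m, s, hs⟩ := Module.Finite.exists_fin (R := A) (M := Q)
    choose K hK using fun t => hsurj (s t)
    refine ⟨Finset.univ.sup K, fun y => ?_⟩
    have hle : (⊤ : Submodule A Q) ≤ (LinearMap.range φ).comap (a ^ Finset.univ.sup K • LinearMap.id) := by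
      rw [← hs, Submodule.span_le]
      rintro _ ⟨t, rfl⟩
      obtain ⟨d, hd⟩ := Nat.exists_eq_add_of_le (Finset.le_sup (f := K) (Finset.mem_univ t))
      show a ^ Finset.univ.sup K • s t ∈ LinearMap.range φ
      rw [hd, add_comm, pow_add, mul_smul]
      exact Submodule.smul_mem _ _ (hK t)
    exact hle Submodule.mem_top
  refine ⟨l + k, descend φ.rangeRestrict φ.surjective_rangeRestrict (a ^ l • LinearMap.id)
      (fun v hv => hl v (congrArg Subtype.val hv)) ∘ₗ
    LinearMap.codRestrict (LinearMap.range φ) (a ^ k • LinearMap.id) hk, fun y => ?_⟩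
  obtain ⟨v, hv⟩ := hk y
  have h1 : LinearMap.codRestrict (LinearMap.range φ) (a ^ k • LinearMap.id) hk y = φ.rangeRestrict v :=
    Subtype.ext hv.symm
  rw [LinearMap.comp_apply, h1, descend_apply, LinearMap.smul_apply, LinearMap.id_apply, map_smul, hv, smul_smul,
    ← pow_add]

namespace MSys

variable {f : A} {r : ℕ} {g : Fin r → A} (S : MSys f g)

omit [IsNoetherianRing A] in
theorem exists_coboundary_level (l : Fin r) : ∀ (n : ℕ) (z : S.cx.C1.B n), S.cx.e.app n z = 0 →
    ∃ K : ℕ, g l ^ K • z ∈ LinearMap.range (S.cx.d.app n) := by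
  intro n
  induction n with
  | zero => exact fun z hz => S.exists_coboundary hz l
  | succ n ih =>
    intro z hz
    obtain ⟨K, y, hy⟩ := ih (S.cx.C1.red n z) (by rw [S.cx.e.comm, hz, map_zero])
    obtain ⟨y', rfl⟩ := S.cx.C0.red_surj n y
    obtain ⟨w, hw⟩ := S.cx.C1.exists_mu n (g l ^ K • z - S.cx.d.app (n + 1) y') (by
      rw [map_sub, map_smul, ← S.cx.d.comm, hy, sub_self])
    have hwz : S.cx.e.app 0 w = 0 := S.cx.C2.mu_injective n (by
      rw [← S.cx.e.app_mu, hw, map_sub, map_smul, hz, S.cx.ed, smul_zero, sub_self, map_zero])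
    obtain ⟨K', v, hv⟩ := S.exists_coboundary hwz l
    refine ⟨K' + K, g l ^ K' • y' + S.cx.C0.mu n v, ?_⟩
    rw [map_add, map_smul, S.cx.d.app_mu, hv, map_smul, hw, smul_sub, add_sub_cancel, pow_add, mul_smul]

theorem finite_N_zero {I : Ideal A} (hg : Ideal.span (Set.range g) = I) (h1 : FinH I 1 (S.M 0)) :
    Module.Finite A (S.cx.N 0) := by
  have hI : ∀ i, g i ∈ I := fun i => hg ▸ Ideal.subset_span ⟨i, rfl⟩
  refine finite_cech_ker (g := g) hg (X := ∀ i, S.Lm 0 (g i)) (W := ∀ p : Fin r × Fin r, S.Lm 0 (a2 g p))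
    (S.cx.d.app 0) ?_ h1 (LinearMap.codRestrict _ (S.κ 0) (S.κ_mem 0)) ?_ ?_
  · intro j
    refine subsingleton_pi (fun i => S.Lm 0 (g i)) g hI (fun i => ?_) j
    simpa using S.bij_pow 0 (g i) 1
  · exact fun c hc l => S.exists_kill_κ (congrArg Subtype.val hc) l
  · intro x l
    obtain ⟨K, c, h⟩ := S.exists_κ_eq x.2 l
    exact ⟨K, c, Subtype.ext h.symm⟩

theorem split_N [Module.Finite A (S.cx.N 0)] {𝔞 : Ideal A} (hg : ∀ i, g i ∈ 𝔞) {c : ℕ} {R₀ : Type u}
    [AddCommGroup R₀] [Module A R₀] (h : Split g R₀ (S.M c)) : Split g R₀ (S.cx.N c) := by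
  intro i
  haveI := finite_kernel S.cx c
  obtain ⟨p, k, α, β, hβ⟩ := h i
  let φ : S.M c →ₗ[A] S.cx.N c := LinearMap.codRestrict _ (S.κ c) (S.κ_mem c)
  obtain ⟨K, σ, hσ⟩ := exists_pow_section φ (g i) (fun v hv => S.exists_kill_κ (congrArg Subtype.val hv) i)
    (fun y => by
      obtain ⟨K, x, hx⟩ := S.exists_κ_eq y.2 i
      exact ⟨K, x, Subtype.ext hx.symm⟩)
  refine ⟨p, k + K, α ∘ₗ σ, φ ∘ₗ β, fun y => ?_⟩
  rw [LinearMap.comp_apply, LinearMap.comp_apply, hβ, map_smul, hσ, smul_smul, ← pow_add]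

set_option maxHeartbeats 1000000 in
/-- The obstructions stabilise. -/
theorem isStab {I : Ideal A} (hg : Ideal.span (Set.range g) = I) [Module.Finite A (S.cx.N 0)] {c : ℕ}
    (hsplit : Split g (A ⧸ Ideal.span {f ^ (c + 1)}) (S.M c)) (hI : ImgKill I f c) (hC : CofinTwo I) :
    S.cx.IsStab := by
  let T := S.cx
  have hgI : ∀ i, g i ∈ I := fun i => hg ▸ Ideal.subset_span ⟨i, rfl⟩
  have hdZ : ∀ n, LinearMap.range (T.d.app n) ≤ LinearMap.ker (T.e.app n) := fun n => by
    rintro _ ⟨x, rfl⟩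
    exact T.ed n x
  have htor : ∀ n, ∀ z : LinearMap.ker (T.e.app n), Submodule.Quotient.mk z ∈
      DRing.torsionSub I (LinearMap.ker (T.e.app n) ⧸ LinearMap.range (Submodule.inclusion (hdZ n))) :=
    fun n z => isPowerTorsion_of_forall hg (M := LinearMap.ker (T.e.app n) ⧸
      LinearMap.range (Submodule.inclusion (hdZ n))) (fun w l => by
        obtain ⟨v, rfl⟩ := Submodule.mkQ_surjective _ w
        obtain ⟨K, x, hx⟩ := S.exists_coboundary_level l n v.1 v.2
        refine ⟨K, ?_⟩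
        rw [← map_smul, Submodule.mkQ_apply, Submodule.Quotient.mk_eq_zero]
        exact ⟨⟨_, x, rfl⟩, Subtype.ext hx⟩) _
  let cl := fun n => cls I (T.d.app n) (LinearMap.ker (T.e.app n)) (hdZ n) (htor n)
  have hker : ∀ x ∈ LinearMap.ker (T.d.app c), T.C0.pr c x ∈ LinearMap.ker (T.d.app 0) := fun x hx => by
    show T.d.app 0 (T.C0.pr c x) = 0
    rw [FTower.pr, T.d.app_dn, LinearMap.mem_ker.1 hx, map_zero]
  let φ : LinearMap.ker (T.d.app c) →ₗ[A] LinearMap.ker (T.d.app 0) := (T.C0.pr c).restrict hker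
  have hφ : ∀ y : LinearMap.ker (T.d.app 0), f • y = 0 := fun y => Subtype.ext (by
    show f • y.1 = 0
    have := T.C0.killed 0 y.1
    rwa [zero_add, pow_one] at this)
  have hkill : ∀ l, ∃ K, ∀ w : LocCoh.H I 2 (LinearMap.ker (T.d.app c)),
      g l ^ K • ((localCohomology I 2).map (ModuleCat.ofHom φ)).hom w = 0 :=
    fun l => exists_kill_map hgI hI (S.split_N hgI hsplit) φ hφ l
  let P : Submodule A (LocCoh.H I 2 (LinearMap.ker (T.d.app 0))) :=
    LinearMap.range ((localCohomology I 2).map (ModuleCat.ofHom φ)).hom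
  obtain ⟨n, hn⟩ := exists_pow_kill_of_gens hg P fun l => (hkill l).imp fun K hK => by
    rintro _ ⟨w, rfl⟩
    exact hK w
  haveI : Module.Finite A P := hC (T.N 0) P n hn
  haveI : IsNoetherian A P := isNoetherian_of_isNoetherianRing_of_finite A P
  have hinj : ∀ z : T.Z, cl 0 z = 0 → (Submodule.Quotient.mk z : T.H) = 0 := fun z hz => by
    rw [Submodule.Quotient.mk_eq_zero]
    exact mem_range_of_cls_eq_zero I _ _ (hdZ 0) (htor 0)
      (subsingleton_pi (fun i => S.Lm 0 (g i)) g hgI (fun i => by simpa using S.bij_pow 0 (g i) 1) 1)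
      ((Submodule.eq_bot_iff _).2 fun x hx => funext fun p => by
        obtain ⟨n, hn⟩ := hx
        refine (S.bij_dvd 0 (dvd_mul_right (g p.1) (g p.2)) n).1 ?_
        show g p.1 ^ n • x p = g p.1 ^ n • 0
        rw [smul_zero]
        exact congrFun (hn _ (Ideal.pow_mem_pow (hgI p.1) n)) p) z hz
  let Φ : T.H →ₗ[A] LocCoh.H I 2 (LinearMap.ker (T.d.app 0)) :=
    Submodule.liftQ _ (cl 0) (by
      rintro z ⟨x, hx⟩
      obtain rfl : z = Submodule.inclusion (hdZ 0) ⟨T.d.app 0 x, x, rfl⟩ := Subtype.ext hx.symm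
      exact cls_inclusion I _ _ (hdZ 0) (htor 0) _)
  have hΦ : Function.Injective Φ := (injective_iff_map_eq_zero _).2 fun h hh => by
    obtain ⟨z, rfl⟩ := Submodule.mkQ_surjective _ h
    exact hinj z hh
  have hrange : ∀ m, (LinearMap.range (T.delta m)).map Φ ≤ P := fun m => by
    rintro _ ⟨_, ⟨s, rfl⟩, rfl⟩
    obtain ⟨z, hz, hz', hd⟩ := T.exists_cocycle_of_delta s c
    rw [hd]
    refine ⟨cl c ⟨z, hz⟩, ?_⟩
    exact (cls_natural I _ _ (hdZ c) (htor c) _ _ (hdZ 0) (htor 0) (T.C0.pr c) (T.C1.pr c)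
      (fun x => T.d.app_dn _ x) (fun w hw => by
        show T.e.app 0 (T.C1.pr c w) = 0
        rw [FTower.pr, T.e.app_dn, LinearMap.mem_ker.1 hw, map_zero]) hker ⟨z, hz⟩).symm
  let s : ℕ →o Submodule A P := ⟨fun m => ((LinearMap.range (T.delta m)).map Φ).comap P.subtype,
    fun a b hab => Submodule.comap_mono (Submodule.map_mono (T.range_delta_mono hab))⟩
  obtain ⟨c₀, hc₀⟩ := monotone_stabilizes_iff_noetherian.2 (inferInstance : IsNoetherian A P) s
  refine ⟨⟨c₀, fun m hm => ?_⟩⟩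
  refine Submodule.map_injective_of_injective hΦ (le_antisymm (Submodule.map_mono (T.range_delta_mono hm)) ?_)
  intro y hy
  have : (⟨y, hrange m hy⟩ : P) ∈ s c₀ := (hc₀ m hm).ge hy
  exact this

end MSys

end Groth.Agent.LefAlgz
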