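import Groth.Agent.LefAlgz.ModCoh
import Groth.Agent.LefAlgz.ModStab
import Groth.Agent.LefAlgz.DepthSelf
import Groth.Prelude.Def_FEt

/-!
# Algebraisation of formal vector bundles on the punctured spectrum of a local ring
-/

noncomputable section

set_option autoImplicit false
set_option linter.style.haveILetI false
set_option backward.isDefEq.respectTransparency false
set_option backward.isDefEq.respectTransparency.types false

universe u

open CategoryTheory AlgebraicGeometry Opposite IsLocalRing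

namespace Groth.Agent.LefAlgz

open Groth.Agent

variable (A : Type u) [CommRing A] [IsNoetherianRing A] [IsLocalRing A]

theorem puncturedSpec_eq : FEt.puncturedSpec A = LocCoh.puncturedOpen A (maximalIdeal A) := by
  refine TopologicalSpace.Opens.ext (Set.ext fun p => ?_)
  show p ≠ closedPoint A ↔ ¬ (maximalIdeal A : Set A) ⊆ p.asIdeal
  refine not_congr ⟨fun h => by rw [h]; exact subset_rfl, fun h => PrimeSpectrum.ext ?_⟩
  exact le_antisymm (IsLocalRing.le_maximalIdeal p.isPrime.ne_top) h

/-- Algebraisation under dualizing depth conditions. -/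
theorem exists_coh_completion_iso_local (hω : ∃ ω : Dual.D A, Dual.IsDualizing A ω) (f : A)
    (hf : f ∈ maximalIdeal A) (hnz : f ∈ nonZeroDivisors A) [IsAdicComplete (Ideal.span {f}) A]
    (h₅ : ∀ (p : Ideal A) [p.IsPrime], f ∈ p → p ≠ IsLocalRing.maximalIdeal A →
      (1 : WithBot ℕ∞) < ((LocCoh.depth (Localization.AtPrime p)
          (LocalizedModule p.primeCompl (A ⧸ Ideal.span {f})) : ℕ∞) : WithBot ℕ∞) + ringKrullDim (A ⧸ p))
    (hstar : DepthStar f) (U : (Spec (CommRingCat.of A)).Opens) (hU : U = LocCoh.puncturedOpen A (maximalIdeal A))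
    (G : ℕᵒᵖ ⥤ (U : Scheme.{u}).Modules) (hG : Formal.IsCohFormal (Ideal.span {f}) G)
    (hfree : ∀ n : ℕ, Formal2.IsFinLocFreeMod (Ideal.span {f}) (n + 1) (G.obj (op n))) :
    ∃ F : (U : Scheme.{u}).Modules, Coh.IsCoh F ∧ Nonempty (Formal.completion (Ideal.span {f}) F ≅ G) := by
  subst hU
  obtain ⟨ω, hω⟩ := hω
  have hann : AnnCond (maximalIdeal A) f := killCond_self hω hstar fun p _ hfp hne => by
    rw [← depth_quot_span_add_one hnz p hfp]
    have h := h₅ p hfp hne
    obtain ⟨d, hd⟩ : ∃ d, d = LocCoh.depth (Localization.AtPrime p)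
      (LocalizedModule p.primeCompl (A ⧸ Ideal.span {f})) := ⟨_, rfl⟩
    rw [← hd] at h ⊢
    have hd' : ((d + 1 : ℕ∞) : WithBot ℕ∞) = (d : WithBot ℕ∞) + 1 := WithBot.coe_add d 1
    rw [hd', add_right_comm]
    obtain ⟨e, he⟩ : ∃ e, e = ringKrullDim (A ⧸ p) := ⟨_, rfl⟩
    rw [← he] at h ⊢
    induction e with
    | bot => exact absurd (h.trans_le le_rfl) (by simp)
    | coe e =>
      have h1 : ((1 : ℕ∞) : WithBot ℕ∞) < ((d + e : ℕ∞) : WithBot ℕ∞) := h
      have h3 : (2 : ℕ∞) ≤ d + e := Order.add_one_le_of_lt (WithBot.coe_lt_coe.1 h1)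
      have h4 : (2 : ℕ∞) < d + e + 1 := by
        induction h' : d + e using ENat.recTopCoe with
        | top => exact WithTop.coe_lt_top 2
        | coe k =>
          rw [h'] at h3
          exact_mod_cast Nat.lt_succ_of_le (by exact_mod_cast h3 : 2 ≤ k)
      exact WithBot.coe_lt_coe.2 h4
  obtain ⟨c, hc⟩ := exists_imgKill hnz hann
  obtain ⟨hC1, hC2⟩ := cofin_self (A := A)
  have h1 := finH_one_quot hnz hann hC1
  refine exists_coh_completion_iso_of f hnz hf (fun r g S hg hloc => ?_) G hG hfree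
  have hgI : ∀ i, g i ∈ maximalIdeal A := fun i => hg ▸ Ideal.subset_span ⟨i, rfl⟩
  have hs : Split g (A ⧸ Ideal.span {f}) (S.M 0) := by
    have := (hloc 0).split hgI
    rwa [zero_add, pow_one] at this
  haveI := S.finite_N_zero hg (hs.finH_one hg h1)
  exact ⟨inferInstance, S.isStab hg ((hloc c).split hgI) hc hC2⟩

end Groth.Agent.LefAlgz
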