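import Groth.Agent.RectJac.Lsc
import Groth.Agent.LefAlgz.ModCoh

/-!
# Depths of stalks of tilde modules and their restrictions
-/

set_option autoImplicit false
set_option linter.style.haveILetI false
set_option backward.isDefEq.respectTransparency false
set_option backward.isDefEq.respectTransparency.types false

universe u

open CategoryTheory AlgebraicGeometry

namespace Groth.Agent.LefAlgz

open Groth.Agent

theorem depth_stalk_tilde {R : CommRingCat.{u}} (M : ModuleCat.{u} R) (p : PrimeSpectrum.Top R) :
    LocCoh.depth ((Spec R).presheaf.stalk p) ((tilde M).presheaf.stalk p) =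
      LocCoh.depth (Localization.AtPrime p.asIdeal) (LocalizedModule p.asIdeal.primeCompl M) := by
  letI : Algebra R ((Spec R).presheaf.stalk p) := StructureSheaf.stalkAlgebra R p
  haveI : IsLocalization.AtPrime ((Spec R).presheaf.stalk p) p.asIdeal :=
    inferInstanceAs (IsLocalization.AtPrime ((Spec.structureSheaf R).presheaf.stalk p) p.asIdeal)
  haveI : IsScalarTower R ((Spec R).presheaf.stalk p) ((tilde M).presheaf.stalk p) :=
    inferInstanceAs (IsScalarTower R ((AlgebraicGeometry.structurePresheafInCommRingCat R).stalk p)
      ↑(TopCat.Presheaf.stalk (AlgebraicGeometry.moduleStructurePresheaf R M).presheaf p))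
  exact Alg6.depth_localized_eq p.asIdeal _ (tilde.toStalk M p).hom

/-- Depth of a sheaf isomorphic to the restriction of a tilde module. -/
theorem depth_stalk_rt {A : Type u} [CommRing A] {U : (Spec (CommRingCat.of A)).Opens} (M : Type u) [AddCommGroup M]
    [Module A M] {G : (U : Scheme.{u}).Modules}
    (e : G ≅ (Scheme.Modules.restrictFunctor U.ι).obj (Formal2.tmod A M)) (x : (U : Scheme.{u})) :
    LocCoh.depth ((U : Scheme.{u}).presheaf.stalk x) (G.presheaf.stalk x) =
      LocCoh.depth (Localization.AtPrime (x.1 : PrimeSpectrum A).asIdeal)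
        (LocalizedModule (x.1 : PrimeSpectrum A).asIdeal.primeCompl M) := by
  let l := ((DerSch.stalkFunctor (U : Scheme.{u}) x).mapIso e).toLinearEquiv
  refine (FlatLoc6.depth_congr' l).trans ?_
  exact (RectJac.depth_restrict U.ι (Formal2.tmod A M) x).symm.trans
    (depth_stalk_tilde (R := CommRingCat.of A) (ModuleCat.of A M) x.1)

end Groth.Agent.LefAlgz
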