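import Groth.Agent.LefAlgz.ModCoh
import Groth.Agent.LefAlgz.StalkDepth
import Groth.Agent.LC.FiniteCrit

/-!
# Algebraisation of formal systems flat along a hypersurface, with depth two in relative codimension one
-/

noncomputable section

set_option autoImplicit false
set_option linter.style.haveILetI false
set_option backward.isDefEq.respectTransparency false
set_option backward.isDefEq.respectTransparency.types false

universe u

open CategoryTheory CategoryTheory.Limits AlgebraicGeometry Opposite TopologicalSpace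

namespace Groth.Agent.LefAlgz

open Groth.Agent

variable {A : Type u} [CommRing A]

/-- On the small affine opens, sections killed by `f^(n+1)` at level `n+1` are multiples of `f`. -/
def RegSec (f : A) (𝔞 : Ideal A) (G : ℕᵒᵖ ⥤ (↑(LocCoh.puncturedOpen A 𝔞) : Scheme.{u}).Modules) : Prop :=
  ∀ (n : ℕ) (a : A), H9FCoh.bOpen (R := CommRingCat.of A) a ≤ LocCoh.puncturedOpen A 𝔞 →
    ∀ z : Γ(G.obj (op (n + 1)), (LocCoh.puncturedOpen A 𝔞).ι ⁻¹ᵁ H9FCoh.bOpen (R := CommRingCat.of A) a),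
      H9FCoh.secRing (A := A) ((LocCoh.puncturedOpen A 𝔞).ι ⁻¹ᵁ H9FCoh.bOpen (R := CommRingCat.of A) a)
          (f ^ (n + 1)) • z = 0 →
        ∃ w : Γ(G.obj (op (n + 1)), (LocCoh.puncturedOpen A 𝔞).ι ⁻¹ᵁ H9FCoh.bOpen (R := CommRingCat.of A) a),
          z = H9FCoh.secRing (A := A) ((LocCoh.puncturedOpen A 𝔞).ι ⁻¹ᵁ H9FCoh.bOpen (R := CommRingCat.of A) a) f • w

variable [IsNoetherianRing A]

/-- A coherent formal system on a punctured spectrum comes from finite modules, the ideal being arbitrary. -/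
theorem exists_module_system (I 𝔞 : Ideal A) (F : ℕᵒᵖ ⥤ (↑(LocCoh.puncturedOpen A 𝔞) : Scheme.{u}).Modules)
    (hF : Formal.IsCohFormal I F) :
    ∃ (M : ℕ → Type u) (_ : ∀ n, AddCommGroup (M n)) (_ : ∀ n, Module A (M n)) (g : ∀ n, M (n + 1) →ₗ[A] M n),
      (∀ n, Module.Finite A (M n)) ∧ (∀ n, I ^ (n + 1) • (⊤ : Submodule A (M n)) = ⊥) ∧
      (∀ n (x : M (n + 1)), g n x = 0 → ∃ m : ℕ, ∀ a ∈ 𝔞 ^ m, a • x ∈ I ^ (n + 1) • (⊤ : Submodule A (M (n + 1)))) ∧
      (∀ n (y : M n), ∃ m : ℕ, ∀ a ∈ 𝔞 ^ m, a • y ∈ LinearMap.range (g n)) ∧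
      Nonempty (F ≅ Functor.ofOpSequence
        (X := fun n => (Scheme.Modules.restrictFunctor (LocCoh.puncturedOpen A 𝔞).ι).obj (Formal2.tmod A (M n)))
        (fun n => (Scheme.Modules.restrictFunctor (LocCoh.puncturedOpen A 𝔞).ι).map (Formal2.tmodMap A (g n)))) := by
  let X := Algz.sectMod A (LocCoh.puncturedOpen A 𝔞) F
  haveI : QuasiCompact (LocCoh.puncturedOpen A 𝔞).ι :=
    Groth.Agent.QCoh.quasiCompact_ι_of_compact _ (TopologicalSpace.NoetherianSpace.isCompact _)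
  have hle : ∀ a ∈ 𝔞, H9FCoh.bOpen (R := CommRingCat.of A) a ≤ LocCoh.puncturedOpen A 𝔞 :=
    fun a ha p hp h => hp (h ha)
  obtain ⟨M, hM, ht, hfin, hk, hker, hran⟩ := H9FCoh.exists_finite_subsystem (I := I) (𝔞 := 𝔞) X
    (fun n a ha => H9FCoh.finite_pushSecD (R := CommRingCat.of A) (hF.1 n) a (hle a ha))
    (fun n b hb x => H9FCoh.smul_pushSec_eq_zero (R := CommRingCat.of A) (hF.2.1 n) hb x)
    (fun n x hx a ha => H9FCoh.exists_pow_smul_mem_smul_push (R := CommRingCat.of A) _ (hF.2.2 n)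
      (hF.1 (n + 1)).1 (hF.1 n).1 a (hle a ha) x hx)
    (fun n a ha y => by
      haveI := (show Algz7.IsQuot (I ^ (n + 1)) (F.map (homOfLE (Nat.le_succ n)).op) from hF.2.2 n).epi
      exact H9FCoh.exists_pow_smul_mem_range_push (R := CommRingCat.of A)
        (F.map (homOfLE (Nat.le_succ n)).op) (hF.1 (n + 1)).1 (hF.1 n).1 a (hle a ha) y)
  refine ⟨fun n => M n, fun n => inferInstance, fun n => inferInstance,
    fun n => (X.map (homOfLE (Nat.le_succ n)).op).hom.restrict (hM n), hfin, hk, hker, hran, ?_⟩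
  obtain ⟨θ⟩ := Algz7.nonempty_iso_sectSys (LocCoh.puncturedOpen A 𝔞) F (fun n => (hF.1 n).1)
  obtain ⟨ψ⟩ := H9FCoh.nonempty_iso_restrict_sub (𝔞 := 𝔞) X M hM ht
  exact ⟨θ ≪≫ ψ.symm⟩

omit [IsNoetherianRing A] in
/-- Sections over a small affine open of a sheaf presented by a module. -/
theorem exists_chart {U : (Spec (CommRingCat.of A)).Opens} (M : Type u) [AddCommGroup M] [Module A M]
    {G : (U : Scheme.{u}).Modules} (e : G ≅ (Scheme.Modules.restrictFunctor U.ι).obj (Formal2.tmod A M))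
    (W₁ : (U : Scheme.{u}).Opens) (D : (Spec (CommRingCat.of A)).Opens) (hD : U.ι ''ᵁ W₁ = D) :
    ∃ χ : Γ(G, W₁) →+ H9Lef.Sct A M D, Function.Bijective χ ∧
      ∀ (b : A) (z : Γ(G, W₁)), χ (H9FCoh.secRing (A := A) W₁ b • z) = b • χ z := by
  subst hD
  letI : (Spec (CommRingCat.of A)).Over (Spec (CommRingCat.of A)) := ⟨𝟙 _⟩
  haveI : IsIso (e.hom.app W₁) := ⟨e.inv.app W₁,
    by rw [← Scheme.Modules.Hom.comp_app, e.hom_inv_id]; rfl,
    by rw [← Scheme.Modules.Hom.comp_app, e.inv_hom_id]; rfl⟩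
  refine ⟨(e.hom.app W₁).hom, ConcreteCategory.bijective_of_isIso (e.hom.app W₁), fun b z => ?_⟩
  have h := congr(($(Algz7.smulMod_naturality e.hom b)).app W₁ z)
  rw [← Algz7.restrict_smulMod (A := A) U.ι (Category.comp_id _)] at h
  exact h

/-- Elements killed by `f^(n+1)` are multiples of `f` up to torsion. -/
theorem exists_div {f : A} {𝔞 : Ideal A} {G : ℕᵒᵖ ⥤ (↑(LocCoh.puncturedOpen A 𝔞) : Scheme.{u}).Modules}
    (hG : RegSec f 𝔞 G) (n : ℕ) (M : Type u) [AddCommGroup M] [Module A M]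
    (e : G.obj (op (n + 1)) ≅
      (Scheme.Modules.restrictFunctor (LocCoh.puncturedOpen A 𝔞).ι).obj (Formal2.tmod A M))
    {a : A} (ha : a ∈ 𝔞) {x : M} (hx : f ^ (n + 1) • x = 0) : ∃ (K : ℕ) (y : M), a ^ K • x = f • y := by
  let U : (Spec (CommRingCat.of A)).Opens := LocCoh.puncturedOpen A 𝔞
  let D : (Spec (CommRingCat.of A)).Opens := H9FCoh.bOpen (R := CommRingCat.of A) a
  have hDU : D ≤ U := fun p hp h => hp (h ha)
  obtain ⟨χ, hχb, hχ⟩ := exists_chart M e (U.ι ⁻¹ᵁ D) D (by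
    rw [Scheme.Hom.image_preimage_eq_opensRange_inf, Scheme.Opens.opensRange_ι]; exact inf_eq_right.2 hDU)
  obtain ⟨z, hz⟩ := hχb.2 (H9Lef.sec M D x)
  obtain ⟨w, hw⟩ := hG n a hDU z (hχb.1 (by rw [hχ, hz, ← map_smul, hx, map_zero, map_zero]))
  haveI : IsLocalizedModule (Submonoid.powers a) (H9Lef.sec M D) := H9Lef.isLocalizedModule_sec M a
  obtain ⟨⟨y, ⟨_, k, rfl⟩⟩, hy⟩ := IsLocalizedModule.surj (Submonoid.powers a) (H9Lef.sec M D) (χ w)
  have h1 : H9Lef.sec M D (a ^ k • x) = H9Lef.sec M D (f • y) := by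
    rw [map_smul, map_smul, ← hz, hw, hχ, smul_comm]
    exact congrArg (f • ·) hy
  obtain ⟨⟨_, s, rfl⟩, hs⟩ := IsLocalizedModule.exists_of_eq (S := Submonoid.powers a) h1
  refine ⟨s + k, a ^ s • y, ?_⟩
  rw [pow_add, mul_smul, smul_comm f]
  exact hs

omit [IsNoetherianRing A] in
/-- Flatness over the truncated polynomial ring from one of its dual forms. -/
theorem exists_top {f a : A} {M : Type u} [AddCommGroup M] [Module A M] {n : ℕ}
    (h : ∀ x : M, f ^ (n + 1) • x = 0 → ∃ (K : ℕ) (y : M), a ^ K • x = f • y) {x : M} (hx : f • x = 0) :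
    ∃ (K : ℕ) (y : M), a ^ K • x = f ^ (n + 1) • y := by
  suffices key : ∀ j, j ≤ n + 1 → ∃ (K : ℕ) (y : M), a ^ K • x = f ^ j • y from key (n + 1) le_rfl
  intro j
  induction j with
  | zero => exact fun _ => ⟨0, x, by rw [pow_zero, one_smul, pow_zero, one_smul]⟩
  | succ j ih =>
    intro hj
    obtain ⟨K, y, hy⟩ := ih (by omega)
    have h1 : f ^ (j + 1) • y = 0 := by
      rw [pow_succ', mul_smul, ← hy, smul_comm, hx, smul_zero]
    obtain ⟨d, hd⟩ := Nat.exists_eq_add_of_le hj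
    obtain ⟨K', y', hy'⟩ := h y (by rw [hd, add_comm (j + 1) d, pow_add, mul_smul, h1, smul_zero])
    refine ⟨K' + K, y', ?_⟩
    rw [pow_add, mul_smul, hy, smul_comm, hy', smul_smul, ← pow_succ]

/-- Finiteness of the first two cohomology modules of depth two in relative codimension one. -/
theorem finH_of_relCodim {R : Type u} [CommRing R] [IsRegularRing R] (π : R →+* A) (hπ : Function.Surjective π)
    (I : Ideal A) (M : Type u) [AddCommGroup M] [Module A M] [Module.Finite A M]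
    (h : ∀ p : PrimeSpectrum A, ¬ I ≤ p.asIdeal → SGA2.relCodim I p = 1 →
      (2 : ℕ∞) ≤ LocCoh.depth (Localization.AtPrime p.asIdeal) (LocalizedModule p.asIdeal.primeCompl M)) :
    FinH I 1 M ∧ FinH I 2 M := by
  have key := (LC.finite_iff_depth_add_codim π hπ I M 2).2
    ((LC.forall_depth_add_codim_iff I M 2).2 fun p hp hc => by exact_mod_cast h p hp hc)
  exact ⟨key 1 (by omega), key 2 le_rfl⟩

/-- The algebraisation. -/
theorem exists_coh_completion_iso_reg {R : Type u} [CommRing R] [IsRegularRing R] (π : R →+* A)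
    (hπ : Function.Surjective π) (f : A) (𝔞 : Ideal A) [IsAdicComplete (Ideal.span {f}) A]
    (G : ℕᵒᵖ ⥤ (↑(LocCoh.puncturedOpen A 𝔞) : Scheme.{u}).Modules) (hG : Formal.IsCohFormal (Ideal.span {f}) G)
    (hreg : RegSec f 𝔞 G)
    (hdepth : ∀ x : (↑(LocCoh.puncturedOpen A 𝔞) : Scheme.{u}), SGA2.relCodim 𝔞 (x.1 : PrimeSpectrum A) = 1 →
      (2 : ℕ∞) ≤ LocCoh.depth ((↑(LocCoh.puncturedOpen A 𝔞) : Scheme.{u}).presheaf.stalk x)
        ((G.obj (op 0)).presheaf.stalk x)) :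
    ∃ F : (↑(LocCoh.puncturedOpen A 𝔞) : Scheme.{u}).Modules, Coh.IsCoh F ∧
      Nonempty (Formal.completion (Ideal.span {f}) F ≅ G) := by
  obtain ⟨M, hgrp, hmod, t, hMfin, hkill, hker, hran, ⟨θ⟩⟩ := exists_module_system (Ideal.span {f}) 𝔞 G hG
  letI := hgrp
  letI := hmod
  haveI := hMfin
  have hk0 : ∀ n (x : M n), f ^ (n + 1) • x = 0 := fun n x => by
    have h : f ^ (n + 1) • x ∈ (Ideal.span {f}) ^ (n + 1) • (⊤ : Submodule A (M n)) :=
      Submodule.smul_mem_smul (Ideal.pow_mem_pow (Ideal.mem_span_singleton_self f) _) Submodule.mem_top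
    rwa [hkill, Submodule.mem_bot] at h
  obtain ⟨r, g, hg⟩ := Submodule.fg_iff_exists_fin_generating_family.1 (IsNoetherian.noetherian 𝔞)
  have hg' : Ideal.span (Set.range g) = 𝔞 := hg
  have hgI : ∀ i, g i ∈ 𝔞 := fun i => hg' ▸ Ideal.subset_span ⟨i, rfl⟩
  let S : MSys f g :=
    { M := M
      t := t
      killed := hk0
      ker_t := fun n x hx i => by
        obtain ⟨m, hm⟩ := hker n x hx
        obtain ⟨y, hy⟩ := H9Lef.mem_span_pow_smul_top.1 (hm _ (Ideal.pow_mem_pow (hgI i) m))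
        exact ⟨m, y, hy.symm⟩
      surj_t := fun n y i => by
        obtain ⟨m, hm⟩ := hran n y
        obtain ⟨x, hx⟩ := hm _ (Ideal.pow_mem_pow (hgI i) m)
        exact ⟨m, x, hx⟩
      reg := fun n x hx i =>
        exists_top (fun y hy => exists_div hreg n (M (n + 1)) (θ.app (op (n + 1))) (hgI i) hy) hx }
  obtain ⟨h1, h2⟩ := finH_of_relCodim π hπ 𝔞 (M 0) fun p hp hc =>
    (hdepth ⟨p, hp⟩ hc).trans_eq (depth_stalk_rt (M 0) (θ.app (op 0)) ⟨p, hp⟩)
  obtain ⟨hN, hH⟩ := S.finite_zero hg' h1 h2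
  haveI := hN
  haveI := hH
  haveI := S.cx.finite_M
  have hall : ∀ {N : Type u} [AddCommGroup N] [Module A N] (P : Submodule A N) (x : N),
      (∀ l, ∃ K : ℕ, g l ^ K • x ∈ P) → ∀ a ∈ 𝔞, ∃ K : ℕ, a ^ K • x ∈ P := fun {N} _ _ P x h a ha => by
    have hle : Ideal.span (Set.range g) ≤ Ideal.radical (P.comap (LinearMap.toSpanSingleton A N x)) := by
      rw [Ideal.span_le]
      rintro _ ⟨l, rfl⟩
      exact h l
    exact hle (hg'.symm ▸ ha)
  have hall0 : ∀ {N : Type u} [AddCommGroup N] [Module A N] (x : N),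
      (∀ l, ∃ K : ℕ, g l ^ K • x = 0) → ∀ a ∈ 𝔞, ∃ K : ℕ, a ^ K • x = 0 := fun {N} _ _ x h a ha => by
    obtain ⟨K, hK⟩ := hall (⊥ : Submodule A N) x (fun l => (h l).imp fun K hK => by simp [hK]) a ha
    exact ⟨K, (Submodule.mem_bot A).1 hK⟩
  obtain ⟨e₁⟩ := nonempty_iso_completion_rt (𝔞 := 𝔞) (Ideal.span {f}) S.cx.M
  obtain ⟨e₂⟩ := nonempty_iso_rt (𝔞 := 𝔞) (P := fun n => Formal2.quotPow A (Ideal.span {f}) S.cx.M n)
    (Q := fun n => S.W n) (fun n => Formal2.quotPowTrans A (Ideal.span {f}) S.cx.M n) S.tW S.iQ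
    (fun n x => S.tW_iQ n x) (fun n x hx a _ => ⟨0, by
      rw [(injective_iff_map_eq_zero _).1 (S.injective_iQ n) x hx, smul_zero]⟩)
    (fun n y => hall _ y fun l => S.exists_mem_range_iQ n y l)
  obtain ⟨e₃⟩ := nonempty_iso_rt (𝔞 := 𝔞) (P := fun n => S.M n) (Q := fun n => S.W n) S.t S.tW S.iM
    (fun n x => S.tW_iM n x) (fun n x hx => hall0 x fun l => S.exists_kill_iM hx l)
    (fun n y => hall _ y fun l => S.exists_mem_range_iM n y l)
  refine ⟨rt 𝔞 S.cx.M, ⟨QCoh.isQCoh_restrict _ (Algz7.isCoh_tilde (ModuleCat.of A S.cx.M)).1,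
    Algz7.isFT_restrict _ (Algz7.isCoh_tilde (ModuleCat.of A S.cx.M)).1
      (Algz7.isCoh_tilde (ModuleCat.of A S.cx.M)).2⟩, ⟨e₁ ≪≫ e₂ ≪≫ e₃.symm ≪≫ θ.symm⟩⟩

end Groth.Agent.LefAlgz
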