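import Groth.Agent.H9Lef.FormalSections
import Groth.Agent.LefAlgz.ModCoh
import Groth.Agent.LefAlgz.ModReg
import Groth.Agent.PuncArt6
import Groth.Agent.GenBC.Basic
import Groth.Agent.ExtShX.AffineGlobal
import Groth.Agent.InjQC.QCohInj
import Groth.Agent.LC.CohBasic

/-!
# Finiteness of the cohomology of the sheaf of a module on a punctured spectrum
-/

noncomputable section

set_option autoImplicit false
set_option linter.style.haveILetI false
set_option backward.isDefEq.respectTransparency false
set_option backward.isDefEq.respectTransparency.types false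

universe u

open CategoryTheory CategoryTheory.Limits AlgebraicGeometry Opposite TopologicalSpace
open Groth.Agent.PnCoh.Finite (mapLin deltaLin)

namespace Groth.Agent.LefAlgz

open Groth.Agent

variable {A : Type u} [CommRing A] [IsNoetherianRing A] (I : Ideal A)

/-- The punctured spectrum as an open. -/
abbrev PU : (Spec (CommRingCat.of A)).Opens := LocCoh.puncturedOpen A I

/-- The punctured spectrum. -/
abbrev PX : Scheme.{u} := (PU I : Scheme.{u})

theorem finite_coker_sec_aux (Q : Type u) [AddCommGroup Q] [Module A Q] (h : FinH I 1 Q) :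
    Module.Finite A (H9Lef.Sct A Q (PU I) ⧸ LinearMap.range (H9Lef.sec Q (PU I))) := by
  classical
  obtain ⟨r, g, hg⟩ := Submodule.fg_iff_exists_fin_generating_family.1 (IsNoetherian.noetherian I)
  have hg' : Ideal.span (Set.range g) = I := hg
  let ℓ := H9Lef.ℓg g Q
  let S := H9Lef.secSub ℓ g
  let R := LinearMap.range (H9Lef.toSec ℓ g)
  -- `H⁰` of the cokernel embeds into `H¹` of the module
  haveI : Module.Finite A (S ⧸ R) := by
    let j : R →ₗ[A] S := R.subtype
    have hS := H9Lef.injSeq_shortExact (M := ↥R) (N := ↥S) j Subtype.val_injective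
    have hj : LinearMap.range j = R := Submodule.range_subtype R
    let q : Q →ₗ[A] R := (H9Lef.toSec ℓ g).rangeRestrict
    have hq := H9Lef.surjSeq_shortExact (M := Q) (N := ↥R) q (H9Lef.toSec ℓ g).surjective_rangeRestrict
    haveI := LC.subsingleton_of_torsion I 1 (ModuleCat.of A (LinearMap.ker q)) (by
      rw [show LinearMap.ker q = LinearMap.ker (H9Lef.toSec ℓ g) from LinearMap.ker_rangeRestrict _]
      exact H9Lef.isPowerTorsion_ker_toSec hg' ℓ)
    haveI := LC.subsingleton_of_torsion I (1 + 1) (ModuleCat.of A (LinearMap.ker q)) (by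
      rw [show LinearMap.ker q = LinearMap.ker (H9Lef.toSec ℓ g) from LinearMap.ker_rangeRestrict _]
      exact H9Lef.isPowerTorsion_ker_toSec hg' ℓ)
    haveI : Module.Finite A (LocCoh.H I 1 Q) := h
    have h1 : Module.Finite A ((localCohomology I 1).obj (ModuleCat.of A R)) := by
      haveI : Module.Finite A ((localCohomology I 1).obj (ModuleCat.of A Q)) := h
      exact Module.Finite.of_surjective _ fun z => (LC.exact₃ I 1 hq 2 rfl z).1 (Subsingleton.elim _ _)
    have hf : Module.Finite A ((localCohomology I 0).obj (ModuleCat.of A (S ⧸ LinearMap.range j))) :=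
      finite_of_inj (LC.δH I 0 hS 1 rfl) (H9Lef.δH_zero_injective hS (H9Lef.torsionSub_secSub hg' ℓ)) h1
    rw [hj] at hf
    exact finite_of_torsion (H9Lef.isPowerTorsion_coker_toSec hg' ℓ) hf
  let χ : H9Lef.Sct A Q (PU I) →ₗ[A] S :=
    { toFun := fun z => ⟨H9Lef.chart hg' z, H9Lef.isSec_chart hg' z⟩
      map_add' := fun z w => Subtype.ext (funext fun i => map_add (H9Lef.sres (H9Lef.D_le hg' i)) z w)
      map_smul' := fun a z => Subtype.ext (funext fun i => map_smul (H9Lef.sres (H9Lef.D_le hg' i)) a z) }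
  refine finite_of_inj ((LinearMap.range (H9Lef.sec Q (PU I))).liftQ (R.mkQ ∘ₗ χ) ?_) ?_ inferInstance
  · rintro _ ⟨m, rfl⟩
    refine (Submodule.Quotient.mk_eq_zero R).2 ⟨m, Subtype.ext (funext fun i => ?_)⟩
    exact (H9Lef.sres_sec (H9Lef.D_le hg' i) m).symm
  · refine LinearMap.ker_eq_bot.1 (Submodule.ker_liftQ_eq_bot _ _ _ fun z hz => ?_)
    obtain ⟨m, hm⟩ := (Submodule.Quotient.mk_eq_zero R).1 (show Submodule.Quotient.mk (χ z) = 0 from hz)
    refine ⟨m, H9Lef.chart_injective hg' fun i => ?_⟩
    exact (H9Lef.sres_sec (H9Lef.D_le hg' i) m).trans (congrArg (fun y : S => y.1 i) hm)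

theorem finite_coker_sec (Q : Type u) [AddCommGroup Q] [Module A Q] (h : FinH I 1 Q)
    (O : (Spec (CommRingCat.of A)).Opens) (hO : O = PU I) :
    Module.Finite A (H9Lef.Sct A Q O ⧸ LinearMap.range (H9Lef.sec Q O)) := by
  subst hO
  exact finite_coker_sec_aux I Q h

/-- The open, as the image of the whole space. -/
theorem image_top : (PU I).ι ''ᵁ ⊤ = PU I := by
  rw [Scheme.Hom.image_top_eq_opensRange, Scheme.Opens.opensRange_ι]

/-- Degree zero cohomology is the group of sections. -/
def e₀ (F : (PX I).Modules) : Coh.HH (PX I) F 0 ≃+ Γ(F, ⊤) :=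
  Sheaf.H.equiv₀ (Coh.toAb F) isTerminalTop

theorem e₀_app {F G : (PX I).Modules} (φ : F ⟶ G) (z : Coh.HH (PX I) F 0) :
    e₀ I G (mapLin A φ 0 z) = φ.app ⊤ (e₀ I F z) :=
  (Sheaf.H.equiv₀_naturality isTerminalTop ((QCoh.toAbFunctor (PX I)).map φ) z).symm

/-- Degree zero cohomology of the sheaf of a module. -/
def hSct (M : Type u) [AddCommGroup M] [Module A M] :
    Coh.HH (PX I) (rt I M) 0 ≃+ H9Lef.Sct A M ((PU I).ι ''ᵁ ⊤) :=
  e₀ I (rt I M)

theorem hSct_smul (M : Type u) [AddCommGroup M] [Module A M] (a : A) (z : Coh.HH (PX I) (rt I M) 0) :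
    hSct I M (a • z) = a • hSct I M z := by
  letI : (Spec (CommRingCat.of A)).Over (Spec (CommRingCat.of A)) := ⟨𝟙 _⟩
  have h0 : e₀ I (rt I M) (a • z) = (Formal.smulMod A (rt I M) a).app ⊤ (e₀ I (rt I M) z) :=
    e₀_app I (Formal.smulMod A (rt I M) a) z
  refine h0.trans ?_
  rw [← Algz7.restrict_smulMod (A := A) (PU I).ι (Category.comp_id _)]
  exact (Scheme.Modules.smul_Spec_def (M := Formal2.tmod A M) (U := (PU I).ι ''ᵁ ⊤) a _).symm

/-- Sections of the module, as classes. -/
def secHH (M : Type u) [AddCommGroup M] [Module A M] : M →ₗ[A] Coh.HH (PX I) (rt I M) 0 where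
  toFun m := (hSct I M).symm (H9Lef.sec M ((PU I).ι ''ᵁ ⊤) m)
  map_add' m m' := by rw [map_add, map_add]
  map_smul' a m := (hSct I M).injective (by
    rw [AddEquiv.apply_symm_apply, hSct_smul, RingHom.id_apply, AddEquiv.apply_symm_apply, map_smul])

/-- The functor of sheaves of modules on the punctured spectrum. -/
abbrev rtF : ModuleCat.{u} A ⥤ (PX I).Modules :=
  tilde.functor (CommRingCat.of A) ⋙ Scheme.Modules.restrictFunctor (PU I).ι

theorem mapLin_secHH {M N : Type u} [AddCommGroup M] [Module A M] [AddCommGroup N] [Module A N] (φ : M →ₗ[A] N)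
    (m : M) :
    mapLin A ((Scheme.Modules.restrictFunctor (PU I).ι).map (Formal2.tmodMap A φ)) 0 (secHH I M m) =
      secHH I N (φ m) := by
  refine (e₀ I (rt I N)).injective ?_
  rw [e₀_app]
  show ((Scheme.Modules.restrictFunctor (PU I).ι).map (Formal2.tmodMap A φ)).app ⊤
    (hSct I M ((hSct I M).symm (H9Lef.sec M ((PU I).ι ''ᵁ ⊤) m))) = hSct I N ((hSct I N).symm (H9Lef.sec N ((PU I).ι ''ᵁ ⊤) (φ m)))
  rw [AddEquiv.apply_symm_apply, AddEquiv.apply_symm_apply]
  exact H9Lef.smap_sec φ _ m

theorem finite_coker_secHH (M : Type u) [AddCommGroup M] [Module A M] (h : FinH I 1 M) :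
    Module.Finite A (Coh.HH (PX I) (rt I M) 0 ⧸ LinearMap.range (secHH I M)) := by
  let e : Coh.HH (PX I) (rt I M) 0 ≃ₗ[A] H9Lef.Sct A M ((PU I).ι ''ᵁ ⊤) :=
    { hSct I M with map_smul' := hSct_smul I M }
  haveI := finite_coker_sec I M h _ (image_top I)
  refine Module.Finite.equiv (Submodule.Quotient.equiv (LinearMap.range (secHH I M))
    (LinearMap.range (H9Lef.sec M ((PU I).ι ''ᵁ ⊤))) e ?_).symm
  rw [← LinearMap.range_comp]
  congr 1
  exact LinearMap.ext fun m => (hSct I M).apply_symm_apply _

/-- Global sections of the sheaf of a finite module. -/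
theorem finite_HH_zero (M : Type u) [AddCommGroup M] [Module A M] [Module.Finite A M] (h : FinH I 1 M) :
    Module.Finite A (Coh.HH (PX I) (rt I M) 0) := by
  haveI := finite_coker_secHH I M h
  exact Module.Finite.of_submodule_quotient (LinearMap.range (secHH I M))

theorem shortExact_rtF {T : ShortComplex (ModuleCat.{u} A)} (hT : T.ShortExact) : (T.map (rtF I)).ShortExact :=
  GenBC.restrict_shortExact (ExtShX.shortExact_map_tilde (A := CommRingCat.of A) hT) (PU I).ι

/-- Sheaves of injective modules have no higher cohomology. -/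
theorem subsingleton_HH_injective (E : Type u) [AddCommGroup E] [Module A E] [Module.Injective A E] (p : ℕ) :
    Subsingleton (Coh.HH (PX I) (rt I E) (p + 1)) := by
  haveI : Injective (tilde (R := CommRingCat.of A) (ModuleCat.of A E)) :=
    InjQC.injective_tilde (A := CommRingCat.of A) (ModuleCat.of A E)
  refine GenBC.subsingleton_HHon_of_flasque (I := Formal2.tmod A E) ⟨fun {U V} i => ?_⟩ (PU I) p
  exact (AddCommGrpCat.epi_iff_surjective _).2 (InjQC.flasque_of_injective _ i.unop.le)

theorem exists_conn_eq {X : Scheme.{u}} [X.Over (Spec (CommRingCat.of A))] {S : ShortComplex X.Modules}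
    (hS : S.ShortExact) (n : ℕ) [Subsingleton (Coh.HH X S.X₂ (n + 1))] (x : Coh.HH X S.X₁ (n + 1)) :
    ∃ c, deltaLin A hS n c = x :=
  PuncArt6.exists_connecting_eq (Y := X.toPresheafedSpace.carrier) (QCoh.toAb_shortExact hS) n x
    (show mapLin A S.f (n + 1) x = 0 from Subsingleton.elim _ _)

set_option synthInstance.maxHeartbeats 400000 in
/-- Grothendieck's finiteness criterion, transferred to the punctured spectrum. -/
theorem finite_HH_pos : ∀ (p : ℕ) (M : Type u) [AddCommGroup M] [Module A M], FinH I (p + 2) M →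
    Module.Finite A (Coh.HH (PX I) (rt I M) (p + 1)) := by
  intro p
  induction p with
  | zero =>
    intro M _ _ h
    obtain ⟨E, _, _, hE, ι, hι⟩ := LC.exists_injective_embedding A M
    haveI := hE
    have hS := H9Lef.injSeq_shortExact (M := M) (N := E) ι hι
    have hT := shortExact_rtF I hS
    haveI : Injective (ModuleCat.of A E) := Module.injective_object_of_injective_module A E
    haveI := LC.subsingleton_of_injective I (ModuleCat.of A E) 0
    have hQ : FinH I 1 (E ⧸ LinearMap.range ι) :=
      finite_of_inj (LC.δH I 1 hS 2 rfl) ((injective_iff_map_eq_zero _).2 fun z hz => by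
        obtain ⟨w, rfl⟩ := (LC.exact₃ I 1 hS 2 rfl z).1 hz
        rw [Subsingleton.elim w 0, map_zero]) h
    haveI := finite_coker_secHH I _ hQ
    haveI : Subsingleton (Coh.HH (PX I) ((H9Lef.injSeq (A := A) ι).map (rtF I)).X₂ (0 + 1)) :=
      subsingleton_HH_injective I E 0
    refine Module.Finite.of_surjective ((LinearMap.range (secHH I (E ⧸ LinearMap.range ι))).liftQ
      (deltaLin A hT 0) ?_) fun x => ?_
    · rintro _ ⟨m, rfl⟩
      obtain ⟨e, rfl⟩ := Submodule.mkQ_surjective _ m
      exact (QCoh.Ab.connecting_eq_zero_iff (X := (PX I).toPresheafedSpace.carrier)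
        (QCoh.toAb_shortExact hT) 0 _).2 ⟨secHH I E e, mapLin_secHH I (LinearMap.range ι).mkQ e⟩
    · obtain ⟨c, hc⟩ := exists_conn_eq (A := A) hT 0 x
      exact ⟨Submodule.Quotient.mk c, hc⟩
  | succ p ih =>
    intro M _ _ h
    obtain ⟨E, _, _, hE, ι, hι⟩ := LC.exists_injective_embedding A M
    haveI := hE
    have hS := H9Lef.injSeq_shortExact (M := M) (N := E) ι hι
    have hT := shortExact_rtF I hS
    haveI : Injective (ModuleCat.of A E) := Module.injective_object_of_injective_module A E
    haveI := LC.subsingleton_of_injective I (ModuleCat.of A E) (p + 1)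
    have hQ : FinH I (p + 2) (E ⧸ LinearMap.range ι) :=
      finite_of_inj (LC.δH I (p + 2) hS (p + 1 + 2) (by omega)) ((injective_iff_map_eq_zero _).2 fun z hz => by
        obtain ⟨w, rfl⟩ := (LC.exact₃ I (p + 2) hS (p + 1 + 2) (by omega) z).1 hz
        rw [Subsingleton.elim w 0, map_zero]) h
    haveI : Module.Finite A (Coh.HH (PX I) ((H9Lef.injSeq (A := A) ι).map (rtF I)).X₃ (p + 1)) :=
      ih (E ⧸ LinearMap.range ι) hQ
    haveI : Subsingleton (Coh.HH (PX I) ((H9Lef.injSeq (A := A) ι).map (rtF I)).X₂ (p + 1 + 1)) :=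
      subsingleton_HH_injective I E (p + 1)
    exact Module.Finite.of_surjective (deltaLin A hT (p + 1)) fun x => exists_conn_eq (A := A) hT (p + 1) x

end Groth.Agent.LefAlgz
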