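import Groth.Agent.LefAlgz.ModReg
import Groth.Agent.H9FCoh.CohFormalEquiv
import Groth.Agent.QCoh.GodFun
import Groth.Agent.FlatLoc6.NormFlat
import Groth.Agent.KFlatLib.Scheme.ClosedPush
import Groth.Prelude.Def_SGA2

/-!
# Algebraisation of coherent modules on the completion of a quasi-affine scheme along a hypersurface
-/

noncomputable section

set_option autoImplicit false
set_option linter.style.haveILetI false
set_option backward.isDefEq.respectTransparency false
set_option backward.isDefEq.respectTransparency.types false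

universe u

open CategoryTheory CategoryTheory.Limits AlgebraicGeometry Opposite TopologicalSpace

namespace Groth.Agent.LefAlgz

open Groth.Agent

/-- Exact sequences of quasi-coherent modules are exact on sections over affine opens. -/
theorem exists_app_eq_of_exact {X : Scheme.{u}} {M₁ M₂ M₃ : X.Modules} (h₁ : Coh.IsQCoh M₁) (h₂ : Coh.IsQCoh M₂)
    (h₃ : Coh.IsQCoh M₃) (φ : M₁ ⟶ M₂) (g : M₂ ⟶ M₃) (hw : φ ≫ g = 0) (hex : (ShortComplex.mk φ g hw).Exact)
    {U : X.Opens} (hU : IsAffineOpen U) (z : Γ(M₂, U)) (hz : g.app U z = 0) :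
    ∃ y : Γ(M₁, U), φ.app U y = z := by
  haveI : Epi (kernel.lift g φ hw) := by simpa using hex.epi_kernelLift
  obtain ⟨w, hw'⟩ := QCoh.exists_kernel_lift g U z hz
  obtain ⟨y, hy⟩ := QCoh.app_surjective_of_epi h₁ (QCoh.isQCoh_kernel h₂ h₃ g) (kernel.lift g φ hw) hU w
  refine ⟨y, ?_⟩
  conv_lhs => rw [← kernel.lift_ι g φ hw]
  rw [← hw', ← hy]
  rfl

/-- Powers act by composition. -/
theorem smulModΓ_mul {X : Scheme.{u}} (M : X.Modules) (a b : Coh.Γtop X) :
    Formal.smulModΓ M a ≫ Formal.smulModΓ M b = Formal.smulModΓ M (b * a) := by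
  refine Scheme.Modules.hom_ext _ _ fun U => ?_
  ext z
  show (Formal.smulModΓ M b).app U ((Formal.smulModΓ M a).app U z) = (Formal.smulModΓ M (b * a)).app U z
  rw [QCoh.smulModΓ_app, QCoh.smulModΓ_app, QCoh.smulModΓ_app, smul_smul, map_mul]

/-- The two forms of the completion of a module agree. -/
theorem completionMod_eq {X : Scheme.{u}} (𝓘 : X.IdealSheafData) (F : X.Modules) :
    FSch.completionMod 𝓘 F = FSch.complMod 𝓘 F := by
  have key : ∀ (Z W : Scheme.{u}) (i : W ⟶ Z) (j : Z ⟶ X) (k : W ⟶ X) (h : i ≫ j = k),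
      (Scheme.Modules.pullbackComp i j).app F ≪≫ (Scheme.Modules.pullbackCongr h).app F =
        (Scheme.Modules.pullbackComp i j ≪≫ Scheme.Modules.pullbackCongr h).app F := fun Z W i j k h => by
    ext : 1
    simp only [Iso.trans_hom, Iso.app_hom, NatTrans.comp_app]
  unfold FSch.completionMod FSch.complMod FSch.complTransIso
  exact congrArg (FSch.ModSys.mk _) (funext fun n => key _ _ _ _ _
    (Scheme.IdealSheafData.inclusion_subschemeι (FSch.pow_succ_le X 𝓘 n)))

variable {A : Type u} [CommRing A] [IsNoetherianRing A]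

set_option maxHeartbeats 1000000 in
theorem exists_modSys_algebraization {R : Type u} [CommRing R] [IsRegularRing R] (π : R →+* A)
    (hπ : Function.Surjective π) (t : A) [IsAdicComplete (Ideal.span {t}) A] (I : Ideal A)
    (U : (Spec (CommRingCat.of A)).Opens) (hU : U = LocCoh.puncturedOpen A I)
    (𝔐 : FSch.ModSys (FSch.completionAlong (↑U : Scheme.{u})
      ((Spec.map (CommRingCat.ofHom (Ideal.Quotient.mk (Ideal.span {t})))).ker.comap U.ι)))
    (hcoh : 𝔐.IsCoh)
    (hreg : ∀ N : ℕ, 1 ≤ N → kernelSubobject (Formal.smulModΓ (𝔐.F N) ((((FSch.completionToX (↑U : Scheme.{u})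
          ((Spec.map (CommRingCat.ofHom (Ideal.Quotient.mk (Ideal.span {t})))).ker.comap U.ι) N) ≫ U.ι).appTop.hom
            ((Scheme.ΓSpecIso (CommRingCat.of A)).inv t)) ^ N)) =
        imageSubobject (Formal.smulModΓ (𝔐.F N) (((FSch.completionToX (↑U : Scheme.{u})
          ((Spec.map (CommRingCat.ofHom (Ideal.Quotient.mk (Ideal.span {t})))).ker.comap U.ι) N) ≫ U.ι).appTop.hom
            ((Scheme.ΓSpecIso (CommRingCat.of A)).inv t))))
    (hdepth : ∀ y : ↥((FSch.completionAlong (↑U : Scheme.{u})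
          ((Spec.map (CommRingCat.ofHom (Ideal.Quotient.mk (Ideal.span {t})))).ker.comap U.ι)).X 0),
      SGA2.relCodim I ((FSch.completionToX (↑U : Scheme.{u})
          ((Spec.map (CommRingCat.ofHom (Ideal.Quotient.mk (Ideal.span {t})))).ker.comap U.ι) 0 ≫ U.ι).base y) = 1 →
        (2 : ℕ∞) ≤ LocCoh.depth (((FSch.completionAlong (↑U : Scheme.{u})
          ((Spec.map (CommRingCat.ofHom (Ideal.Quotient.mk (Ideal.span {t})))).ker.comap U.ι)).X 0).presheaf.stalk y)
          ((𝔐.F 0).presheaf.stalk y)) :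
    ∃ F : (↑U : Scheme.{u}).Modules, Coh.IsCoh F ∧ Nonempty (FSch.completionMod
      ((Spec.map (CommRingCat.ofHom (Ideal.Quotient.mk (Ideal.span {t})))).ker.comap U.ι) F ≅ 𝔐) := by
  subst hU
  let U : (Spec (CommRingCat.of A)).Opens := LocCoh.puncturedOpen A I
  let X : Scheme.{u} := (U : Scheme.{u})
  let 𝓘 : X.IdealSheafData := (Spec.map (CommRingCat.ofHom (Ideal.Quotient.mk (Ideal.span {t})))).ker.comap U.ι
  have h𝓘 : 𝓘 = H9FCoh.CFE.idl (X := X) (Ideal.span {t}) := rfl
  haveI : IsNoetherianRing (CommRingCat.of A) := inferInstanceAs (IsNoetherianRing A)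
  haveI : IsNoetherian (Spec (CommRingCat.of A)) := inferInstance
  haveI : ∀ k, IsClosedImmersion (FSch.completionToX X 𝓘 k) := fun k => inferInstance
  let i := fun k => FSch.completionToX X 𝓘 k
  let G := H9FCoh.pushSys 𝓘 𝔐
  have hG : Formal.IsCohFormal (Ideal.span {t}) G := H9FCoh.CFE.isCohFormal_pushSys _ h𝓘 hcoh
  have hr : RegSec t I G := by
    intro n a hle z hz
    let W : X.Opens := U.ι ⁻¹ᵁ H9FCoh.bOpen (R := CommRingCat.of A) a
    let c : Coh.Γtop ((FSch.completionAlong X 𝓘).X (n + 1)) :=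
      (i (n + 1) ≫ U.ι).appTop.hom ((Scheme.ΓSpecIso (CommRingCat.of A)).inv t)
    let N := 𝔐.F (n + 1)
    let V := i (n + 1) ⁻¹ᵁ W
    have hV : IsAffineOpen V :=
      (H9FCoh.isAffineOpen_preimage_basicOpen (R := CommRingCat.of A) a hle).preimage (i (n + 1))
    let φ := Formal.smulModΓ N c
    let ψ := Formal.smulModΓ N (c ^ (n + 1))
    have heq : kernelSubobject ψ = imageSubobject φ := hreg (n + 1) (Nat.le_add_left 1 n)
    have hφψ : φ ≫ ψ = 0 := by
      rw [← imageSubobject_arrow_comp φ, ← Subobject.ofLE_arrow heq.ge, Category.assoc, Category.assoc,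
        kernelSubobject_arrow_comp, comp_zero, comp_zero]
    have hex : (ShortComplex.mk φ ψ hφψ).Exact :=
      (ShortComplex.exact_iff_image_eq_kernel _).2 heq.symm
    have hact : ∀ (b : A) (w : Γ(N, V)), (Formal.smulModΓ N
        ((i (n + 1) ≫ U.ι).appTop.hom ((Scheme.ΓSpecIso (CommRingCat.of A)).inv b))).app V w =
        (i (n + 1)).app W (H9FCoh.secRing (A := A) W b) • w := fun b w => by
      rw [QCoh.smulModΓ_app]
      refine congrArg (· • w) ?_
      exact (ConcreteCategory.congr_hom ((i (n + 1)).naturality (homOfLE (le_top : W ≤ ⊤)).op)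
        (Coh.toGlobal (X ↘ Spec (CommRingCat.of A)) b)).symm
    obtain ⟨w, hw⟩ := exists_app_eq_of_exact (hcoh (n + 1)).1 (hcoh (n + 1)).1 (hcoh (n + 1)).1 φ ψ hφψ hex hV
      (show Γ(N, V) from z) (by
        have h := hact (t ^ (n + 1)) (show Γ(N, V) from z)
        rw [map_pow, map_pow] at h
        exact h.trans hz)
    exact ⟨w, hw.symm.trans (hact t w)⟩
  obtain ⟨F, hF, ⟨e⟩⟩ := exists_coh_completion_iso_reg π hπ t I G hG hr fun x hx => by
    by_cases hmem : x ∈ Set.range (i 0)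
    · obtain ⟨y, rfl⟩ := hmem
      exact (hdepth y hx).trans_eq (RectJac.depth_push (i 0) (𝔐.F 0) y).symm
    · haveI : Subsingleton ((G.obj (op 0)).presheaf.stalk x) :=
        AddCommGrpCat.isZero_iff_subsingleton.1 (KFlatLib.isZero_stalk_push (i 0) x hmem (𝔐.F 0))
      rw [FlatLoc6.depth_top_of_subsingleton]
      exact le_top
  obtain ⟨θ⟩ := H9FCoh.exists_pushSys_iso_completion 𝓘 (Ideal.span {t})
    (fun n => H9FCoh.CFE.exists_sq _ h𝓘 n) hF
  obtain ⟨ε⟩ := H9FCoh.nonempty_iso_of_pushSys 𝓘 (H9FCoh.isCoh_complMod 𝓘 hF) hcoh (θ ≪≫ e)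
  refine ⟨F, hF, ?_⟩
  rw [completionMod_eq]
  exact ⟨ε⟩

end Groth.Agent.LefAlgz
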