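import Groth.Agent.LefAlgz.LefPunct
import Groth.Agent.LefAlgz.FreeLevels
import Groth.Agent.LefAlgz.ModSysAlg
import Groth.Agent.LefAlgz.DepthSelf
import Groth.Agent.LefAlgz.ModCoh
import Groth.Agent.Ref1X.Big
import Groth.Agent.AVPoinc.ExtPowFree
import Groth.Agent.KFlatLib.Scheme.RpushRestrict
import Groth.Prelude.Def_LefX

/-!
# The effective Lefschetz condition on the punctured spectrum of a local ring complete along a hypersurface
-/

noncomputable section

set_option autoImplicit false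
set_option linter.style.haveILetI false
set_option backward.isDefEq.respectTransparency false
set_option backward.isDefEq.respectTransparency.types false

universe u

open CategoryTheory CategoryTheory.Limits AlgebraicGeometry Opposite TopologicalSpace IsLocalRing

namespace Groth.Agent.LefAlgz

open Groth.Agent

/-- Direct images of levelwise locally free modules are locally free modulo the powers of the ideal. -/
theorem isFinLocFreeMod_pushSys {A : Type u} [CommRing A] {X : Scheme.{u}} [IsLocallyNoetherian X]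
    [X.Over (Spec (CommRingCat.of A))] {𝓘 : X.IdealSheafData} (J : Ideal A)
    (sq : ∀ n, ∃ q, IsPullback (FSch.completionToX X 𝓘 n) q (X ↘ Spec (CommRingCat.of A))
      (Spec.map (CommRingCat.ofHom (Ideal.Quotient.mk (J ^ (n + 1))))))
    {𝔐 : FSch.ModSys (FSch.completionAlong X 𝓘)} (h : LefX.LevelwiseFinLocFree 𝔐) (n : ℕ) :
    Formal2.IsFinLocFreeMod J (n + 1) ((H9FCoh.pushSys 𝓘 𝔐).obj (op n)) := by
  haveI : IsClosedImmersion (FSch.completionToX X 𝓘 n) := inferInstance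
  let i := FSch.completionToX X 𝓘 n
  intro x
  obtain ⟨V, q, hxV, ⟨e⟩⟩ : ∃ (V : X.Opens) (q : ℕ), x ∈ V ∧
      Nonempty ((Scheme.Modules.restrictFunctor (i ⁻¹ᵁ V).ι).obj (𝔐.F n) ≅
        FlatMod.freeMod (↑(i ⁻¹ᵁ V) : Scheme.{u}) q) := by
    by_cases hx : x ∈ Set.range i
    · obtain ⟨y, rfl⟩ := hx
      obtain ⟨W, q, hyW, hW⟩ := h n y
      obtain ⟨s, hs, hsW⟩ := i.isClosedEmbedding.isInducing.isOpen_iff.1 W.isOpen
      have heq : i ⁻¹ᵁ (⟨s, hs⟩ : X.Opens) = W := Opens.ext hsW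
      have hy' : y ∈ i ⁻¹ᵁ (⟨s, hs⟩ : X.Opens) := by rw [heq]; exact hyW
      refine ⟨⟨s, hs⟩, q, hy', ?_⟩
      rw [heq]
      exact hW
    · refine ⟨⟨(Set.range i)ᶜ, i.isClosedEmbedding.isClosed_range.isOpen_compl⟩, 0, hx, ?_⟩
      haveI : IsEmpty (↑(i ⁻¹ᵁ (⟨(Set.range i)ᶜ, i.isClosedEmbedding.isClosed_range.isOpen_compl⟩ : X.Opens)) :
        Scheme.{u}) := ⟨fun z => z.2 ⟨z.1, rfl⟩⟩
      haveI := KFlatLib.isIso_of_stalk (0 : (Scheme.Modules.restrictFunctor
        (i ⁻¹ᵁ (⟨(Set.range i)ᶜ, i.isClosedEmbedding.isClosed_range.isOpen_compl⟩ : X.Opens)).ι).obj (𝔐.F n) ⟶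
          FlatMod.freeMod _ 0) fun z => isEmptyElim z
      exact ⟨asIso (0 : _ ⟶ FlatMod.freeMod _ 0)⟩
  refine ⟨V, q, hxV, ?_⟩
  have hM : Coh.IsCoh (FlatMod.freeMod X q) :=
    QCoh.isCoh_iff_isFP.2 (QCoh.isFP_of_isFinLocFree (KFlatLib.isFinLocFree_freeMod q))
  obtain ⟨θ⟩ := H9FCoh.exists_pushSys_iso_completion 𝓘 J sq hM
  obtain ⟨p⟩ := AVPoinc.nonempty_pullback_freeMod i q
  let P := (KFlatLib.pushRestrictIso i V)
  let mid : (Scheme.Modules.restrictFunctor (i ⁻¹ᵁ V).ι).obj (𝔐.F n) ≅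
      (Scheme.Modules.restrictFunctor (i ⁻¹ᵁ V).ι).obj
        ((Scheme.Modules.pullback i).obj (FlatMod.freeMod X q)) :=
    e ≪≫ (QCoh.freeModRestrict (i ⁻¹ᵁ V).ι q).symm ≪≫
      (Scheme.Modules.restrictFunctor (i ⁻¹ᵁ V).ι).mapIso p.symm
  exact ⟨P.app (𝔐.F n) ≪≫ (Scheme.Modules.pushforward (i ∣_ V)).mapIso mid ≪≫
    (P.app ((Scheme.Modules.pullback i).obj (FlatMod.freeMod X q))).symm ≪≫
      (Scheme.Modules.restrictFunctor V.ι).mapIso (θ.app (op n))⟩

/-- A levelwise isomorphism of systems of modules is an isomorphism. -/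
theorem isIso_modSys_hom {𝔛 : FSch.Sys.{u}} {𝔐 𝔑 : FSch.ModSys 𝔛} (φ : 𝔐 ⟶ 𝔑) [∀ n, IsIso (φ.app n)] :
    IsIso φ := by
  refine ⟨⟨⟨fun n => inv (φ.app n), fun n => ?_⟩, ?_, ?_⟩⟩
  · rw [Functor.map_inv, IsIso.inv_comp_eq, ← Category.assoc, IsIso.eq_comp_inv]
    exact (φ.comm n).symm
  · exact FSch.ModSys.Hom.ext (funext fun n => IsIso.hom_inv_id _)
  · exact FSch.ModSys.Hom.ext (funext fun n => IsIso.inv_hom_id _)

/-- The completion only depends on the restriction to an open containing the closed subscheme. -/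
theorem isIso_complModMap_unit {X : Scheme.{u}} (𝓘 : X.IdealSheafData) (U : X.Opens)
    (hU : (𝓘.support : Set X) ⊆ (U : Set X)) (F : X.Modules) :
    IsIso (FSch.complModMap 𝓘 ((Scheme.Modules.restrictAdjunction U.ι).unit.app F)) := by
  let adj := Scheme.Modules.restrictAdjunction U.ι
  haveI : IsIso ((Scheme.Modules.restrictFunctor U.ι).map (adj.unit.app F)) :=
    IsIso.of_isIso_fac_right (adj.left_triangle_components F)
  haveI : IsIso ((Scheme.Modules.pullback U.ι).map (adj.unit.app F)) :=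
    (NatIso.isIso_map_iff (Scheme.Modules.restrictFunctorIsoPullback U.ι) (adj.unit.app F)).1 inferInstance
  have : ∀ n, IsIso ((FSch.complModMap 𝓘 (adj.unit.app F)).app n) := fun n => by
    rw [FSch.complModMap_app]
    let i := FSch.completionToX X 𝓘 n
    have hr : Set.range i ⊆ Set.range U.ι := by
      rw [Scheme.Opens.range_ι]
      intro x hx
      have hx' : x ∈ Set.range ((𝓘 ^ (n + 1)).subschemeι) := hx
      rw [Scheme.IdealSheafData.range_subschemeι, Scheme.IdealSheafData.support_pow _ _ (Nat.succ_ne_zero n)] at hx'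
      exact hU hx'
    let j := IsOpenImmersion.lift U.ι i hr
    haveI : IsIso ((Scheme.Modules.pullback U.ι ⋙ Scheme.Modules.pullback j).map (adj.unit.app F)) :=
      inferInstanceAs (IsIso ((Scheme.Modules.pullback j).map ((Scheme.Modules.pullback U.ι).map (adj.unit.app F))))
    exact (NatIso.isIso_map_iff (Scheme.Modules.pullbackComp j U.ι ≪≫
      Scheme.Modules.pullbackCongr (IsOpenImmersion.lift_fac U.ι i hr)) (adj.unit.app F)).1 inferInstance
  exact isIso_modSys_hom _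

/-- A coherent module with levelwise locally free completion is, near the closed subscheme, locally free. -/
theorem exists_locFree_nhd {X : Scheme.{u}} [IsLocallyNoetherian X] (𝓘 : X.IdealSheafData)
    {𝔐 : FSch.ModSys (FSch.completionAlong X 𝓘)} (h : LefX.LevelwiseFinLocFree 𝔐) {F : X.Modules}
    (hF : Coh.IsCoh F) (ε : FSch.completionMod 𝓘 F ≅ 𝔐) :
    ∃ (U : X.Opens) (E : (U : Scheme.{u}).Modules), (𝓘.support : Set X) ⊆ (U : Set X) ∧
      FlatMod.IsFinLocFree E ∧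
      Nonempty (FSch.completionMod 𝓘 ((Scheme.Modules.pushforward U.ι).obj E) ≅ 𝔐) := by
  let U : X.Opens := ⟨_, Ref1X.isOpen_free_locus hF⟩
  have hU : (𝓘.support : Set X) ⊆ (U : Set X) := fun x hx => free_stalk_of_levels 𝓘 hF (fun n =>
    H23.PullPush.isFinLocFree_of_iso
      (show 𝔐.F n ≅ (Scheme.Modules.pullback (FSch.completionToX X 𝓘 n)).obj F from
        ⟨ε.inv.app n, ε.hom.app n, congrArg (fun t => FSch.ModSys.Hom.app t n) ε.inv_hom_id,
          congrArg (fun t => FSch.ModSys.Hom.app t n) ε.hom_inv_id⟩) (h n)) hx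
  refine ⟨U, (Scheme.Modules.restrictFunctor U.ι).obj F, hU, ?_, ?_⟩
  · exact QCoh.isFinLocFree_iff.2 ⟨QCoh.isCoh_iff_isFP.1 (SheafHomX.isCoh_restrict _ hF),
      fun z => (Ref1X.free_stalk_restrict_iff F z.2).2 z.2⟩
  · haveI := isIso_complModMap_unit 𝓘 U hU F
    rw [completionMod_eq] at ε ⊢
    exact ⟨(asIso (FSch.complModMap 𝓘 ((Scheme.Modules.restrictAdjunction U.ι).unit.app F))).symm ≪≫ ε⟩

variable {A : Type u} [CommRing A] [IsLocalRing A] [IsNoetherianRing A]

set_option maxHeartbeats 1000000 in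
/-- The effective Lefschetz condition. -/
theorem leffCond_punctured {R : Type u} [CommRing R] [IsRegularRing R] (π : R →+* A) (hπ : Function.Surjective π)
    (t : A) (ht : t ∈ maximalIdeal A) (hreg : IsSMulRegular A t) [IsAdicComplete (Ideal.span {t}) A]
    (h2 : ∀ p : PrimeSpectrum A, ringKrullDim (A ⧸ p.asIdeal) = 1 →
      (2 : ℕ∞) ≤ LocCoh.depth (Localization.AtPrime p.asIdeal) (Localization.AtPrime p.asIdeal))
    (h3 : ∀ p : PrimeSpectrum A, t ∈ p.asIdeal → ringKrullDim (A ⧸ p.asIdeal) = 1 →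
      (3 : ℕ∞) ≤ LocCoh.depth (Localization.AtPrime p.asIdeal) (Localization.AtPrime p.asIdeal)) :
    LefX.LeffCond (↑(FEt.puncturedSpec A) : Scheme.{u})
      ((Spec.map (CommRingCat.ofHom (Ideal.Quotient.mk (Ideal.span {t})))).ker.comap (FEt.puncturedSpec A).ι) := by
  refine ⟨lefCond_punctured π hπ t ht h2, ?_⟩
  haveI : IsNoetherianRing (CommRingCat.of A) := inferInstanceAs (IsNoetherianRing A)
  haveI : IsNoetherian (Spec (CommRingCat.of A)) := inferInstance
  suffices key : ∀ U : (Spec (CommRingCat.of A)).Opens, U = LocCoh.puncturedOpen A (maximalIdeal A) →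
      ∀ 𝔐 : FSch.ModSys (FSch.completionAlong (U : Scheme.{u})
        ((Spec.map (CommRingCat.ofHom (Ideal.Quotient.mk (Ideal.span {t})))).ker.comap U.ι)),
        LefX.LevelwiseFinLocFree 𝔐 → ∃ F : (U : Scheme.{u}).Modules, Coh.IsCoh F ∧
          Nonempty (FSch.completionMod
            ((Spec.map (CommRingCat.ofHom (Ideal.Quotient.mk (Ideal.span {t})))).ker.comap U.ι) F ≅ 𝔐) by
    intro 𝔐 h𝔐
    obtain ⟨F, hF, ⟨ε⟩⟩ := key _ (puncturedSpec_eq A) 𝔐 h𝔐
    exact exists_locFree_nhd _ h𝔐 hF ε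
  intro U hU 𝔐 h𝔐
  subst hU
  let X : Scheme.{u} := (LocCoh.puncturedOpen A (maximalIdeal A) : Scheme.{u})
  let 𝓘 : X.IdealSheafData := (Spec.map (CommRingCat.ofHom (Ideal.Quotient.mk (Ideal.span {t})))).ker.comap
    (LocCoh.puncturedOpen A (maximalIdeal A)).ι
  have h𝓘 : 𝓘 = H9FCoh.CFE.idl (X := X) (Ideal.span {t}) := rfl
  haveI : ∀ k, IsClosedImmersion (FSch.completionToX X 𝓘 k) := fun k => inferInstance
  haveI : IsLocallyNoetherian X := inferInstance
  haveI : ∀ k, IsLocallyNoetherian ((FSch.completionAlong X 𝓘).X k) := fun k =>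
    LocallyOfFiniteType.isLocallyNoetherian (FSch.completionToX X 𝓘 k)
  have hcoh : 𝔐.IsCoh := fun n => QCoh.isCoh_iff_isFP.2 (QCoh.isFP_of_isFinLocFree (h𝔐 n))
  have hnz : t ∈ nonZeroDivisors A := mem_nonZeroDivisors_iff.2
    ⟨fun x hx => hreg (show t • x = t • 0 by rw [smul_zero]; exact hx),
      fun x hx => hreg (show t • x = t • 0 by rw [smul_zero, smul_eq_mul, mul_comm]; exact hx)⟩
  obtain ⟨h1', h2'⟩ := finH_of_relCodim π hπ (maximalIdeal A) (A ⧸ Ideal.span {t}) fun p _ hc => by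
    have hd : ringKrullDim (A ⧸ p.asIdeal) = 1 := by rw [ringKrullDim_quot_eq_relCodim, hc]; rfl
    by_cases htp : t ∈ p.asIdeal
    · have h := h3 p htp hd
      rw [← depth_quot_span_add_one hnz p.asIdeal htp, show (3 : ℕ∞) = 2 + 1 from rfl] at h
      exact (ENat.add_le_add_iff_right ENat.one_ne_top).1 h
    · haveI : Subsingleton (LocalizedModule p.asIdeal.primeCompl (A ⧸ Ideal.span {t})) :=
        LocalizedModule.subsingleton_iff.2 fun x => ⟨t, htp, by
          obtain ⟨b, rfl⟩ := Ideal.Quotient.mk_surjective x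
          rw [← Ideal.Quotient.mk_eq_mk, ← Submodule.Quotient.mk_smul, Submodule.Quotient.mk_eq_zero]
          exact Ideal.mul_mem_right _ _ (Ideal.mem_span_singleton_self t)⟩
      rw [FlatLoc6.depth_top_of_subsingleton]
      exact le_top
  let G := H9FCoh.pushSys 𝓘 𝔐
  obtain ⟨F, hF, ⟨e⟩⟩ := exists_coh_completion_iso t hnz ht h1' h2' G
    (H9FCoh.CFE.isCohFormal_pushSys _ h𝓘 hcoh)
    (fun n => isFinLocFreeMod_pushSys _ (fun n => H9FCoh.CFE.exists_sq _ h𝓘 n) h𝔐 n)
  obtain ⟨θ⟩ := H9FCoh.exists_pushSys_iso_completion 𝓘 (Ideal.span {t})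
    (fun n => H9FCoh.CFE.exists_sq _ h𝓘 n) hF
  obtain ⟨ε⟩ := H9FCoh.nonempty_iso_of_pushSys 𝓘 (H9FCoh.isCoh_complMod 𝓘 hF) hcoh (θ ≪≫ e)
  refine ⟨F, hF, ?_⟩
  rw [completionMod_eq]
  exact ⟨ε⟩

end Groth.Agent.LefAlgz
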