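import Groth.Agent.LefAlgz.GrAlg
import Groth.Agent.LefAlgz.GrLoc
import Groth.Agent.LefAlgz.GrSec
import Groth.Agent.LefAlgz.LeffPunct
import Groth.Agent.H4Sk.Generic

/-!
# The Lefschetz conditions along a normally flat ideal
-/

noncomputable section

set_option autoImplicit false
set_option linter.style.haveILetI false
set_option backward.isDefEq.respectTransparency false
set_option backward.isDefEq.respectTransparency.types false

universe u

open CategoryTheory CategoryTheory.Limits AlgebraicGeometry Opposite TopologicalSpace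

namespace Groth.Agent.LefAlgz

open Groth.Agent
open Groth.Agent.LefAlgz.GrGeom (grP)

variable {A : Type u} [CommRing A] [IsNoetherianRing A] {J : Ideal A} (𝔞 : Ideal A)

theorem finH_of_le_idealDepth (M : Type u) [AddCommGroup M] [Module A M] [Module.Finite A M] {n : ℕ}
    (h : (n : ℕ∞) ≤ LocCoh.idealDepth 𝔞 M) {i : ℕ} (hi : i < n) : FinH 𝔞 i M := by
  haveI : Subsingleton (LocCoh.H 𝔞 i M) := (LC.le_idealDepth_iff_H 𝔞 M n).1 h i hi
  exact inferInstanceAs (Module.Finite A (LocCoh.H 𝔞 i M))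

theorem le_idealDepth_quot (J : Ideal A) (n : ℕ)
    (h : ∀ p : PrimeSpectrum A, 𝔞 ≤ p.asIdeal → J ≤ p.asIdeal → (n : ℕ∞) ≤
      LocCoh.depth (Localization.AtPrime p.asIdeal)
        (Localization.AtPrime p.asIdeal ⧸ J.map (algebraMap A (Localization.AtPrime p.asIdeal)))) :
    (n : ℕ∞) ≤ LocCoh.idealDepth 𝔞 (A ⧸ J) := by
  rw [LC.idealDepth_eq_iInf_depth]
  refine le_iInf₂ fun p hp => ?_
  by_cases hJ : J ≤ p.asIdeal
  · exact (h p hp hJ).trans_eq (H4Sk.depth_localized_quot_ring p.asIdeal J)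
  · obtain ⟨a, ha, hap⟩ := SetLike.not_le_iff_exists.1 hJ
    haveI : Subsingleton (LocalizedModule p.asIdeal.primeCompl (A ⧸ J)) := by
      rw [LocalizedModule.subsingleton_iff]
      intro m
      obtain ⟨b, rfl⟩ := Ideal.Quotient.mk_surjective m
      exact ⟨a, hap, (Ideal.Quotient.eq_zero_iff_mem).2 (Ideal.mul_mem_right b J ha)⟩
    exact le_top.trans_eq (FlatLoc6.depth_top_of_subsingleton _).symm

/-- Depth along a normally flat ideal in the Jacobson radical is at least that of the quotient. -/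
theorem le_idealDepth_self [IsAdicComplete J A] (hfl : ∀ n, Module.Flat (A ⧸ J) (grP J n)) {n : ℕ}
    (h : (n : ℕ∞) ≤ LocCoh.idealDepth 𝔞 (A ⧸ J)) : (n : ℕ∞) ≤ LocCoh.idealDepth 𝔞 A := by
  have hjac : J ≤ (⊥ : Ideal A).jacobson := IsAdicComplete.le_jacobson_bot J
  by_cases htop : 𝔞 • (⊤ : Submodule A (A ⧸ J)) = ⊤
  · have h1 : 𝔞 ⊔ J = ⊤ := by
      rw [Ideal.eq_top_iff_one]
      have hmem : Submodule.mkQ J (1 : A) ∈ 𝔞 • (⊤ : Submodule A (A ⧸ J)) := by rw [htop]; exact Submodule.mem_top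
      rw [← LinearMap.range_eq_top.2 (Submodule.mkQ_surjective J), ← Submodule.map_top, ← Submodule.map_smul''] at hmem
      obtain ⟨a, ha, hae⟩ := hmem
      rw [smul_eq_mul, Ideal.mul_top] at ha
      have hsub : 1 - a ∈ J := (Submodule.Quotient.eq _).1 hae.symm
      simpa using Submodule.add_mem_sup ha hsub
    have h2 : 𝔞 = ⊤ := by
      by_contra hne
      obtain ⟨m, hm, hle⟩ := Ideal.exists_le_maximal 𝔞 hne
      refine hm.ne_top (top_le_iff.1 (h1.ge.trans (sup_le hle (hjac.trans (sInf_le ⟨bot_le, hm⟩)))))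
    subst h2
    have : (⊤ : Ideal A) • (⊤ : Submodule A A) = ⊤ := by simp
    rw [LocCoh.idealDepth, if_pos this]
    exact le_top
  · obtain ⟨rs, hrs, hmem, hlen⟩ := Alg6.exists_length_ge_of_le_idealDepth htop h
    have hPc : ∀ i, Module.Flat (A ⧸ J) (NFlat6.Pc J A i) := fun i => by
      haveI := hfl i
      let e : ↥(J ^ i) ≃ₗ[A] ↥(NFlat6.Pw J A i) := LinearEquiv.ofEq _ _ (by rw [NFlat6.Pw, Ideal.smul_top_eq_map]; simp)
      let e' : grP J i ≃ₗ[A] NFlat6.Pc J A i :=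
        Submodule.Quotient.equiv _ _ e (by rw [Submodule.map_smul'', Submodule.map_top, LinearEquiv.range])
      exact Module.Flat.of_linearEquiv (e'.extendScalarsOfSurjective Ideal.Quotient.mk_surjective).symm
    have hP := NFlat6.isWeaklyRegular_Pw hjac rs A (NFlat6.regPieces_of_nf rs hrs hPc) 0
    rw [LinearEquiv.isWeaklyRegular_congr ((LinearEquiv.ofEq _ _ NFlat6.Pw_zero).trans Submodule.topEquiv)] at hP
    exact (Nat.cast_le.2 hlen).trans (Alg6.length_le_idealDepth hP hmem)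

/-- Levelwise locally free formal modules are algebraisable when `H¹` and `H²` of the quotient are finite. -/
theorem algebraize_of_finH [IsAdicComplete J A] (hfl : ∀ n, Module.Flat (A ⧸ J) (grP J n))
    (hF1 : FinH 𝔞 1 (A ⧸ J)) (hF2 : FinH 𝔞 2 (A ⧸ J))
    (G : ℕᵒᵖ ⥤ (PX 𝔞).Modules) (hG : Formal.IsCohFormal J G)
    (hfree : ∀ n : ℕ, Formal2.IsFinLocFreeMod J (n + 1) (G.obj (op n))) :
    ∃ F : (PX 𝔞).Modules, Coh.IsCoh F ∧ Nonempty (Formal.completion J F ≅ G) := by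
  obtain ⟨r, f, hf⟩ := Submodule.fg_iff_exists_fin_generating_family.1 (IsNoetherian.noetherian J)
  have hfJ : ∀ j, f j ∈ J := fun j => hf ▸ Submodule.subset_span ⟨j, rfl⟩
  obtain ⟨r', g, hg⟩ := Submodule.fg_iff_exists_fin_generating_family.1 (IsNoetherian.noetherian 𝔞)
  haveI : IsLocallyNoetherian (PX 𝔞) := LocallyOfFiniteType.isLocallyNoetherian (PU 𝔞).ι
  haveI : Flat (PX 𝔞 ↘ Spec (CommRingCat.of A)) := inferInstanceAs (Flat (PU 𝔞).ι)
  have hsg := GrGeom.splitGen_of_splitData hG hfJ (GrGeom.splitData_of_flat J hfl f hf) hfree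
  have hk : ∀ a ∈ J, Formal.smulMod A (G.obj (op 0)) a = 0 := fun a ha =>
    hG.2.1 0 a (by rw [Nat.zero_add, pow_one]; exact ha)
  obtain ⟨M, _, _, _, hkM, ⟨e⟩⟩ := exists_module_killed 𝔞 (hG.1 0) hk
  have hsplit : Split g (A ⧸ J) M :=
    (GrGeom.locFree_of_finLocFreeMod M hkM e (hfree 0)).split fun i => hg ▸ Submodule.subset_span ⟨i, rfl⟩
  have h1 := hsplit.finH_one hg hF1
  have h2 := hsplit.finH_two hg hF1 hF2
  have htr : ∀ p, Module.Finite A (Coh.HH (PX 𝔞) (rt 𝔞 M) p) → Module.Finite A (Coh.HH (PX 𝔞) (G.obj (op 0)) p) :=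
    fun p _ => Module.Finite.of_surjective (Groth.Agent.PnCoh.Finite.mapLin A e.inv p) fun x =>
      ⟨Groth.Agent.PnCoh.Finite.mapLin A e.hom p x, by
        rw [FFun.mapLin_comp, FFun.mapLin_congr e.hom_inv_id]
        exact GrGeom.mapLin_id' _ p x⟩
  exact GrGeom.exists_completion_iso_of_splitGen (PU 𝔞) G hG hfJ hf hsg
    (htr 0 (finite_HH_zero 𝔞 M h1)) (htr 1 (finite_HH_pos 𝔞 0 M h2))

/-- Homomorphisms into the structure sheaf are determined on the formal completion. -/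
theorem homToFormalBijective_of_normallyFlat [IsAdicComplete J A] (hfl : ∀ n, Module.Flat (A ⧸ J) (grP J n))
    (hQ : (2 : ℕ∞) ≤ LocCoh.idealDepth 𝔞 (A ⧸ J))
    (D : (PX 𝔞).Modules) (hD : FlatMod.IsFinLocFree D) :
    Lef.HomToFormalBijective ((Spec.map (CommRingCat.ofHom (Ideal.Quotient.mk J))).ker.comap (PU 𝔞).ι) D := by
  haveI : IsNoetherianRing (CommRingCat.of A) := inferInstanceAs (IsNoetherianRing A)
  haveI : IsNoetherian (Spec (CommRingCat.of A)) := inferInstance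
  haveI : IsLocallyNoetherian (PX 𝔞) := LocallyOfFiniteType.isLocallyNoetherian (PU 𝔞).ι
  haveI : CompactSpace (PX 𝔞) := isCompact_iff_compactSpace.1 (NoetherianSpace.isCompact _)
  haveI : IsNoetherian (PX 𝔞) := ⟨⟩
  have hA := le_idealDepth_self 𝔞 hfl (n := 2) hQ
  have hb : ∀ E : (PX 𝔞).Modules, FlatMod.IsFinLocFree E → Function.Bijective (Formal.toHHlim J E 0) := fun E hE =>
    bijective_toHHlim_of_normallyFlat 𝔞 hfl hA hQ hE
  have hOfree : FlatMod.IsFinLocFree (Coh.structureModule (PX 𝔞)) :=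
    ParaFX.FlatDesc.isFinLocFree_of_invertible (fun _ => ⟨⊤, trivial, ⟨Scheme.Modules.restrictUnitIso _⟩⟩)
  have hDc : Coh.IsCoh D := QCoh.isCoh_iff_isFP.2 (QCoh.isFP_of_isFinLocFree hD)
  have hOc : Coh.IsCoh (Coh.structureModule (PX 𝔞)) := QCoh.isCoh_iff_isFP.2 (QCoh.isFP_of_isFinLocFree hOfree)
  refine LefFEt.homToFormalBijective _ ?_
  exact bijective_complModMap_of _ J (PU 𝔞).ι rfl hDc hOc fun ψ =>
    SheafHomX.existsUnique_of_bijective J hDc hOc (hb _ (SheafHomX.isFinLocFree_hom hD hOfree)) ψ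

/-- Levelwise locally free modules on the completion are algebraisable. -/
theorem algebraize_modSys [IsAdicComplete J A] (hfl : ∀ n, Module.Flat (A ⧸ J) (grP J n))
    (hF1 : FinH 𝔞 1 (A ⧸ J)) (hF2 : FinH 𝔞 2 (A ⧸ J))
    (𝔐 : FSch.ModSys (FSch.completionAlong (PX 𝔞)
      ((Spec.map (CommRingCat.ofHom (Ideal.Quotient.mk J))).ker.comap (PU 𝔞).ι)))
    (h𝔐 : LefX.LevelwiseFinLocFree 𝔐) :
    ∃ F : (PX 𝔞).Modules, Coh.IsCoh F ∧ Nonempty (FSch.completionMod
      ((Spec.map (CommRingCat.ofHom (Ideal.Quotient.mk J))).ker.comap (PU 𝔞).ι) F ≅ 𝔐) := by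
  haveI : IsNoetherianRing (CommRingCat.of A) := inferInstanceAs (IsNoetherianRing A)
  haveI : IsNoetherian (Spec (CommRingCat.of A)) := inferInstance
  let 𝓘 : (PX 𝔞).IdealSheafData := (Spec.map (CommRingCat.ofHom (Ideal.Quotient.mk J))).ker.comap (PU 𝔞).ι
  have h𝓘 : 𝓘 = H9FCoh.CFE.idl (X := PX 𝔞) J := rfl
  haveI : ∀ k, IsClosedImmersion (FSch.completionToX (PX 𝔞) 𝓘 k) := fun k => inferInstance
  haveI : IsLocallyNoetherian (PX 𝔞) := inferInstance
  haveI : ∀ k, IsLocallyNoetherian ((FSch.completionAlong (PX 𝔞) 𝓘).X k) := fun k =>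
    LocallyOfFiniteType.isLocallyNoetherian (FSch.completionToX (PX 𝔞) 𝓘 k)
  have hcoh : 𝔐.IsCoh := fun n => QCoh.isCoh_iff_isFP.2 (QCoh.isFP_of_isFinLocFree (h𝔐 n))
  obtain ⟨F, hF, ⟨e⟩⟩ := algebraize_of_finH 𝔞 hfl hF1 hF2 (H9FCoh.pushSys 𝓘 𝔐)
    (H9FCoh.CFE.isCohFormal_pushSys _ h𝓘 hcoh)
    (fun n => isFinLocFreeMod_pushSys _ (fun n => H9FCoh.CFE.exists_sq _ h𝓘 n) h𝔐 n)
  obtain ⟨θ⟩ := H9FCoh.exists_pushSys_iso_completion 𝓘 J (fun n => H9FCoh.CFE.exists_sq _ h𝓘 n) hF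
  obtain ⟨ε⟩ := H9FCoh.nonempty_iso_of_pushSys 𝓘 (H9FCoh.isCoh_complMod 𝓘 hF) hcoh (θ ≪≫ e)
  refine ⟨F, hF, ?_⟩
  rw [completionMod_eq]
  exact ⟨ε⟩

end Groth.Agent.LefAlgz
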