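import Mathlib.RingTheory.Regular.RegularSequence
import Mathlib.RingTheory.Ideal.Operations

/-!
# Quasi-regularity of regular sequences on modules
-/

set_option autoImplicit false

universe u v

namespace Groth.Agent.LefAlgz.QReg

/-- The index type of the monomials of degree `n` in `d` variables. -/
inductive Mon : ℕ → ℕ → Type
  | one (d : ℕ) : Mon d 0
  | last {d n : ℕ} (s : Mon (d + 1) n) : Mon (d + 1) (n + 1)
  | skip {d n : ℕ} (s : Mon d (n + 1)) : Mon (d + 1) (n + 1)

/-- A monomial contains the last variable or it does not. -/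
def monEquiv (d n : ℕ) : Mon (d + 1) (n + 1) ≃ Mon (d + 1) n ⊕ Mon d (n + 1) where
  toFun t := match t with
    | .last s => Sum.inl s
    | .skip s => Sum.inr s
  invFun := Sum.elim Mon.last Mon.skip
  left_inv t := by cases t <;> rfl
  right_inv t := by cases t <;> rfl

instance monFintype : ∀ d n, Fintype (Mon d n)
  | d, 0 => ⟨{Mon.one d}, fun t => by cases t; simp⟩
  | 0, n + 1 => ⟨∅, fun t => by cases t⟩
  | d + 1, n + 1 =>
    letI := monFintype (d + 1) n
    letI := monFintype d (n + 1)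
    Fintype.ofEquiv _ (monEquiv d n).symm

variable {O : Type u} [CommRing O]

/-- The monomials. -/
def mono : ∀ (d n : ℕ), (Fin d → O) → Mon d n → O
  | _, _, _, .one _ => 1
  | d + 1, n + 1, f, .last s => f (Fin.last d) * mono (d + 1) n f s
  | d + 1, n + 1, f, .skip s => mono d (n + 1) (f ∘ Fin.castSucc) s

theorem mono_map {P : Type*} [CommRing P] (φ : O →+* P) : ∀ (d n : ℕ) (f : Fin d → O) (t : Mon d n),
    mono d n (φ ∘ f) t = φ (mono d n f t)
  | _, _, _, .one _ => by simp [mono]
  | d + 1, n + 1, f, .last s => by simp [mono, mono_map φ (d + 1) n f s]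
  | d + 1, n + 1, f, .skip s => by
    simp only [mono]
    exact mono_map φ d (n + 1) (f ∘ Fin.castSucc) s

theorem sum_one (d : ℕ) {P : Type*} [AddCommMonoid P] (g : Mon d 0 → P) : ∑ t, g t = g (Mon.one d) :=
  Fintype.sum_eq_single _ fun t h => absurd (show t = Mon.one d by cases t; rfl) h

theorem sum_succ (d n : ℕ) {P : Type*} [AddCommMonoid P] (g : Mon (d + 1) (n + 1) → P) :
    ∑ t, g t = (∑ s, g (Mon.last s)) + ∑ s, g (Mon.skip s) := by
  rw [← Equiv.sum_comp (monEquiv d n).symm g, Fintype.sum_sum_type]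
  rfl

theorem range_castSucc_le {d : ℕ} (f : Fin (d + 1) → O) :
    Ideal.span (Set.range (f ∘ Fin.castSucc)) ≤ Ideal.span (Set.range f) :=
  Ideal.span_mono (Set.range_comp_subset_range _ _)

theorem span_range_succ {d : ℕ} (f : Fin (d + 1) → O) :
    Ideal.span (Set.range f) = Ideal.span (Set.range (f ∘ Fin.castSucc)) ⊔ Ideal.span {f (Fin.last d)} := by
  rw [← Ideal.span_union]
  congr 1
  ext y
  simp only [Set.mem_union, Set.mem_range, Function.comp_apply, Set.mem_singleton_iff]
  constructor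
  · rintro ⟨i, rfl⟩
    rcases Fin.eq_castSucc_or_eq_last i with ⟨j, rfl⟩ | rfl
    · exact Or.inl ⟨j, rfl⟩
    · exact Or.inr rfl
  · rintro (⟨j, rfl⟩ | rfl)
    · exact ⟨_, rfl⟩
    · exact ⟨_, rfl⟩

theorem exists_factor : ∀ (d n : ℕ) (f : Fin d → O) (t : Mon d (n + 1)),
    ∃ j, ∃ c ∈ Ideal.span (Set.range f) ^ n, mono d (n + 1) f t = f j * c
  | d + 1, 0, f, .last s => ⟨Fin.last d, 1, by simp, by cases s; simp [mono]⟩
  | d + 1, n + 1, f, .last s => by
    obtain ⟨j, c, hc, h⟩ := exists_factor (d + 1) n f s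
    refine ⟨Fin.last d, f j * c, ?_, by simp [mono, h]⟩
    rw [pow_succ']
    exact Ideal.mul_mem_mul (Ideal.subset_span ⟨j, rfl⟩) hc
  | d + 1, n, f, .skip s => by
    obtain ⟨j, c, hc, h⟩ := exists_factor d n (f ∘ Fin.castSucc) s
    refine ⟨j.castSucc, c, Ideal.pow_right_mono (range_castSucc_le f) n hc, ?_⟩
    simp only [mono]
    exact h

theorem mono_mem (d n : ℕ) (f : Fin d → O) (t : Mon d n) : mono d n f t ∈ Ideal.span (Set.range f) ^ n := by
  cases n with
  | zero => simp
  | succ n =>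
    obtain ⟨j, c, hc, h⟩ := exists_factor d n f t
    rw [h, pow_succ']
    exact Ideal.mul_mem_mul (Ideal.subset_span ⟨j, rfl⟩) hc

theorem sup_pow_succ_le (P Q : Ideal O) : ∀ n : ℕ, (P ⊔ Q) ^ (n + 1) ≤ P ^ (n + 1) ⊔ Q * (P ⊔ Q) ^ n
  | 0 => by simp
  | n + 1 => by
    have h1 : P * (P ⊔ Q) ^ (n + 1) ≤ P ^ (n + 2) ⊔ Q * (P ⊔ Q) ^ (n + 1) :=
      (mul_le_mul_right (sup_pow_succ_le P Q n) P).trans (by
        rw [Ideal.mul_sup, ← pow_succ']
        refine sup_le_sup le_rfl ?_
        rw [mul_left_comm]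
        refine mul_le_mul_right ?_ Q
        rw [pow_succ']
        exact mul_le_mul_left le_sup_left _)
    rw [pow_succ' (P ⊔ Q) (n + 1), Ideal.sup_mul]
    exact sup_le h1 le_sup_right

theorem span_mono_eq : ∀ (d n : ℕ) (f : Fin d → O),
    Ideal.span (Set.range (mono d n f)) = Ideal.span (Set.range f) ^ n
  | d, 0, f => by
    rw [pow_zero, Ideal.one_eq_top]
    exact Ideal.eq_top_of_isUnit_mem _ (Ideal.subset_span ⟨Mon.one d, by simp [mono]⟩) isUnit_one
  | 0, n + 1, f => by
    rw [Set.range_eq_empty f, Ideal.span_empty, Ideal.bot_pow (Nat.succ_ne_zero n)]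
    exact le_bot_iff.1 (Ideal.span_le.2 fun _ ⟨t, _⟩ => nomatch t)
  | d + 1, n + 1, f => by
    refine le_antisymm (Ideal.span_le.2 fun _ ⟨t, ht⟩ => ht ▸ mono_mem _ _ f t) ?_
    rw [span_range_succ f]
    refine (sup_pow_succ_le _ _ n).trans (sup_le ?_ ?_)
    · rw [← span_mono_eq d (n + 1) (f ∘ Fin.castSucc)]
      exact Ideal.span_mono fun y ⟨s, hs⟩ => ⟨Mon.skip s, by simp only [mono]; exact hs⟩
    · rw [← span_range_succ f, ← span_mono_eq (d + 1) n f, Ideal.span_mul_span']
      refine Ideal.span_mono ?_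
      rintro _ ⟨_, rfl, _, ⟨s, rfl⟩, rfl⟩
      exact ⟨Mon.last s, by simp [mono]⟩

variable {L : Type v} [AddCommGroup L] [Module O L]

theorem exists_sum_of_mem {ι : Type*} [Fintype ι] (e : ι → O) (N : Submodule O L) {x : L}
    (hx : x ∈ Ideal.span (Set.range e) • N) : ∃ w : ι → L, (∀ t, w t ∈ N) ∧ x = ∑ t, e t • w t := by
  refine Submodule.smul_induction_on (p := fun x => ∃ w : ι → L, (∀ t, w t ∈ N) ∧ x = ∑ t, e t • w t) hx
    (fun a ha v hv => ?_) fun u v hu hv => ?_
  · obtain ⟨c, hc⟩ := Ideal.mem_span_range_iff_exists_fun.1 ha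
    refine ⟨fun t => c t • v, fun t => N.smul_mem _ hv, ?_⟩
    rw [← hc, Finset.sum_smul]
    exact Finset.sum_congr rfl fun t _ => by rw [smul_smul, mul_comm]
  · obtain ⟨w, hw, rfl⟩ := hu
    obtain ⟨w', hw', rfl⟩ := hv
    exact ⟨fun t => w t + w' t, fun t => N.add_mem (hw t) (hw' t), by simp [smul_add, Finset.sum_add_distrib]⟩

theorem exists_sum_pow (d n : ℕ) (f : Fin d → O) (N : Submodule O L) {x : L}
    (hx : x ∈ Ideal.span (Set.range f) ^ n • N) : ∃ w : Mon d n → L, (∀ t, w t ∈ N) ∧ x = ∑ t, mono d n f t • w t :=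
  exists_sum_of_mem _ N (by rwa [span_mono_eq])

/-- Weak regularity, recursively. -/
def Reg (L : Type v) [AddCommGroup L] [Module O L] : ∀ d, (Fin d → O) → Prop
  | 0, _ => True
  | d + 1, f => Reg L d (f ∘ Fin.castSucc) ∧ ∀ x : L,
      f (Fin.last d) • x ∈ Ideal.span (Set.range (f ∘ Fin.castSucc)) • (⊤ : Submodule O L) →
      x ∈ Ideal.span (Set.range (f ∘ Fin.castSucc)) • (⊤ : Submodule O L)

theorem reg_of_isWeaklyRegular : ∀ (d : ℕ) (f : Fin d → O),
    RingTheory.Sequence.IsWeaklyRegular L (List.ofFn f) → Reg L d f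
  | 0, _, _ => trivial
  | d + 1, f, h => by
    rw [List.ofFn_succ', List.concat_eq_append, RingTheory.Sequence.isWeaklyRegular_append_iff,
      RingTheory.Sequence.isWeaklyRegular_singleton_iff] at h
    refine ⟨reg_of_isWeaklyRegular d _ h.1, fun x hx => ?_⟩
    have e : Ideal.ofList (List.ofFn fun i : Fin d => f i.castSucc) =
        Ideal.span (Set.range (f ∘ Fin.castSucc)) := by
      rw [Ideal.ofList]
      congr 1
      ext y
      simp [List.mem_ofFn]
    rw [← e] at hx ⊢
    exact (Submodule.Quotient.mk_eq_zero _).1 (h.2.right_eq_zero_of_smul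
      (by rw [← Submodule.Quotient.mk_smul]; exact (Submodule.Quotient.mk_eq_zero _).2 hx))

theorem of_eq_zero (d n : ℕ) (f : Fin d → O)
    (h : ∀ z : Mon d n → L, ∑ t, mono d n f t • z t = 0 → ∀ t, z t ∈ Ideal.span (Set.range f) • (⊤ : Submodule O L))
    (z : Mon d n → L) (hz : ∑ t, mono d n f t • z t ∈ Ideal.span (Set.range f) ^ (n + 1) • (⊤ : Submodule O L)) :
    ∀ t, z t ∈ Ideal.span (Set.range f) • (⊤ : Submodule O L) := by
  rw [pow_succ, Submodule.mul_smul] at hz
  obtain ⟨w, hw, e⟩ := exists_sum_pow d n f _ hz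
  intro t
  have := h (fun t => z t - w t) (by simp only [smul_sub, Finset.sum_sub_distrib, e, sub_self]) t
  simpa using Submodule.add_mem _ this (hw t)

theorem eq_zero_mem : ∀ (d : ℕ) (f : Fin d → O), Reg L d f → ∀ (n : ℕ) (z : Mon d n → L),
    ∑ t, mono d n f t • z t = 0 → ∀ t, z t ∈ Ideal.span (Set.range f) • (⊤ : Submodule O L)
  | 0, f, _, 0, z, hz, t => by
    cases t
    rw [sum_one] at hz
    rw [show z (Mon.one 0) = 0 by simpa [mono] using hz]
    exact zero_mem _
  | 0, _, _, _ + 1, _, _, t => nomatch t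
  | d + 1, f, hreg, n, z, hz, t => by
    revert z hz t
    induction n with
    | zero =>
      intro z hz t
      cases t
      rw [sum_one] at hz
      rw [show z (Mon.one (d + 1)) = 0 by simpa [mono] using hz]
      exact zero_mem _
    | succ n ih =>
      intro z hz t
      let P := Ideal.span (Set.range (f ∘ Fin.castSucc))
      have hnzd : ∀ (j : ℕ) (x : L), f (Fin.last d) • x ∈ P ^ j • (⊤ : Submodule O L) →
          x ∈ P ^ j • (⊤ : Submodule O L) := by
        intro j
        induction j with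
        | zero => simp
        | succ j ihj =>
          intro x hx
          obtain ⟨y, -, rfl⟩ := exists_sum_pow d j (f ∘ Fin.castSucc) ⊤
            (ihj x (Submodule.smul_mono_left (Ideal.pow_le_pow_right (Nat.le_succ j)) hx))
          have hy := of_eq_zero d j _ (eq_zero_mem d _ hreg.1 j) (fun t => f (Fin.last d) • y t) (by
            simpa only [Finset.smul_sum, smul_comm (f (Fin.last d))] using hx)
          rw [pow_succ, Submodule.mul_smul]
          exact Submodule.sum_mem _ fun t _ => Submodule.smul_mem_smul (mono_mem _ _ _ t) (hreg.2 _ (hy t))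
      let H : Mon (d + 1) n → L := fun s => z (Mon.last s)
      let G : Mon d (n + 1) → L := fun s => z (Mon.skip s)
      have hsplit : f (Fin.last d) • (∑ s, mono (d + 1) n f s • H s) +
          ∑ s, mono d (n + 1) (f ∘ Fin.castSucc) s • G s = 0 := by
        rw [Finset.smul_sum]
        refine Eq.trans ?_ hz
        refine Eq.trans ?_ (sum_succ d n _).symm
        simp only [mono, smul_smul, H, G]
      have hH : ∑ s, mono (d + 1) n f s • H s ∈ P ^ (n + 1) • (⊤ : Submodule O L) := hnzd _ _ (by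
        rw [eq_neg_of_add_eq_zero_left hsplit]
        exact Submodule.neg_mem _ (Submodule.sum_mem _ fun s _ =>
          Submodule.smul_mem_smul (mono_mem _ _ _ s) Submodule.mem_top))
      rcases t with _ | s | s
      · exact of_eq_zero (d + 1) n f ih H
          (Submodule.smul_mono_left (Ideal.pow_right_mono (range_castSucc_le f) _) hH) s
      · obtain ⟨h, -, he⟩ := exists_sum_pow d (n + 1) (f ∘ Fin.castSucc) ⊤ hH
        have h0 := eq_zero_mem d _ hreg.1 (n + 1) (fun s => f (Fin.last d) • h s + G s) (by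
          simp only [smul_add, Finset.sum_add_distrib, smul_comm (mono d (n + 1) (f ∘ Fin.castSucc) _)]
          rw [← Finset.smul_sum, ← he]
          exact hsplit) s
        have h1 : f (Fin.last d) • h s ∈ Ideal.span (Set.range f) • (⊤ : Submodule O L) :=
          Submodule.smul_mem_smul (Ideal.subset_span ⟨_, rfl⟩) Submodule.mem_top
        have h2 : f (Fin.last d) • h s + G s ∈ Ideal.span (Set.range f) • (⊤ : Submodule O L) :=
          Submodule.smul_mono_left (range_castSucc_le f) h0
        show G s ∈ _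
        have := Submodule.sub_mem _ h2 h1
        simpa only [add_sub_cancel_left] using this

/-- Regular sequences on a module are quasi-regular. -/
theorem quasiRegular (d : ℕ) (f : Fin d → O) (hreg : Reg L d f) (n : ℕ) (z : Mon d n → L)
    (hz : ∑ t, mono d n f t • z t ∈ Ideal.span (Set.range f) ^ (n + 1) • (⊤ : Submodule O L)) (t : Mon d n) :
    z t ∈ Ideal.span (Set.range f) • (⊤ : Submodule O L) :=
  of_eq_zero d n f (eq_zero_mem d f hreg n) z hz t

end Groth.Agent.LefAlgz.QReg
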