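import Groth.Agent.LefAlgz.GrRing
import Groth.Agent.LefAlgz.GrExtend
import Groth.Agent.LefAlgz.QReg
import Groth.Agent.Adic7.Limit
import Groth.Agent.CoeffField.AdicSmooth
import Groth.Prelude.Def_Algz2

/-!
# Split generation from the completed stalks
-/

noncomputable section

set_option autoImplicit false
set_option linter.style.haveILetI false
set_option backward.isDefEq.respectTransparency false
set_option backward.isDefEq.respectTransparency.types false

universe u

open CategoryTheory CategoryTheory.Limits AlgebraicGeometry Opposite TopologicalSpace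
open Groth.Agent.TFQuot (st st_comp st_zero st_add st_surjective st_injective)

namespace Groth.Agent.LefAlgz.GrGeom

open Groth.Agent

variable {A : Type u} [CommRing A] {X : Scheme.{u}} [X.Over (Spec (CommRingCat.of A))] {I : Ideal A}
  {G : ℕᵒᵖ ⥤ X.Modules} (hG : Formal.IsCohFormal I G)

/-- Split generation of the graded pieces from data on the stalks. -/
theorem splitGen_of_local {r : ℕ} {f : Fin r → A} (hf : ∀ j, f j ∈ I)
    (hloc : ∀ n, ∃ (T : ℕ) (a : Fin T → A) (b : Fin T → Fin r → A),
      (∀ t, a t ∈ I ^ (n + 1)) ∧ (∀ t j, b t j ∈ I ^ n) ∧ (∀ t, a t - ∑ j, b t j * f j ∈ I ^ (n + 2)) ∧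
      (∀ x v, st (step G n) x v = 0 →
        ∃ w : Fin T → (DerSch.stalkFunctor X x).obj (G.obj (op (n + 1))), v = ∑ t, scal A x (a t) • w t) ∧
      ∀ x (z : Fin T → (DerSch.stalkFunctor X x).obj (G.obj (op (n + 1)))), ∑ t, scal A x (a t) • z t = 0 →
        ∀ j, ∑ t, scal A x (b t j) • st (step G n) x (z t) = 0) :
    SplitGen hG hf := by
  classical
  intro n
  obtain ⟨T, a, b, ham, hb, hab, hgen, hrel⟩ := hloc n
  let α : Fin T → (G.obj (op 0) ⟶ Kobj G (n + 1)) := fun t => powMap hG (n + 1) (ham t)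
  let β : Fin r → Fin T → (G.obj (op 0) ⟶ Kobj G n) := fun j t => powMap hG n (hb t j)
  let Φ : (⨁ fun _ : Fin T => G.obj (op 0)) ⟶ Kobj G (n + 1) := biproduct.desc α
  let Ψ : Fin r → ((⨁ fun _ : Fin T => G.obj (op 0)) ⟶ Kobj G n) := fun j => biproduct.desc (β j)
  haveI hze : ∀ m, Epi (toZero G m) := fun m => epi_toZero hG m
  have hα : ∀ t x (w : (DerSch.stalkFunctor X x).obj (G.obj (op (n + 1)))),
      st (Kι G (n + 1)) x (st (α t) x (st (toZero G (n + 1)) x w)) = scal A x (a t) • w := fun t x w => by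
    rw [← st_comp, ← st_comp, toZero_powMap, st_smulMod]
  haveI : Epi Φ := by
    refine Preadditive.epi_of_cancel_zero _ fun g hg => hom_eq_zero_of_st _ fun x v => ?_
    have hv : st (step G n) x (st (Kι G (n + 1)) x v) = 0 := by
      rw [← st_comp, show Kι G (n + 1) = kernel.ι (step G n) from rfl, kernel.condition, st_zero]
    obtain ⟨w, hw⟩ := hgen x _ hv
    have hv' : v = ∑ t, st (α t) x (st (toZero G (n + 1)) x (w t)) :=
      st_injective (Kι G (n + 1)) x (by rw [hw, map_sum]; exact Finset.sum_congr rfl fun t _ => (hα t x (w t)).symm)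
    rw [hv', map_sum]
    refine Finset.sum_eq_zero fun t _ => ?_
    rw [← st_comp, show α t ≫ g = biproduct.ι (fun _ : Fin T => G.obj (op 0)) t ≫ Φ ≫ g from
      (biproduct.ι_desc_assoc _ _ _).symm, hg, comp_zero, st_zero]
  have hker : ∀ j, kernel.ι Φ ≫ Ψ j = 0 := fun j => hom_eq_zero_of_st _ fun x u => by
    rw [st_comp]
    have hu : st Φ x (st (kernel.ι Φ) x u) = 0 := by rw [← st_comp, kernel.condition, st_zero]
    generalize st (kernel.ι Φ) x u = v at hu ⊢
    choose z hz using fun t => st_surjective (toZero G (n + 1)) x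
      (st (biproduct.π (fun _ : Fin T => G.obj (op 0)) t) x v)
    have hsplit : ∀ {P : X.Modules} (g : (⨁ fun _ : Fin T => G.obj (op 0)) ⟶ P),
        st g x v = ∑ t, st (biproduct.ι (fun _ : Fin T => G.obj (op 0)) t ≫ g) x (st (toZero G (n + 1)) x (z t)) :=
      fun g => by
        simp only [hz, ← st_comp]
        rw [← st_sum]
        congr 2
        simp only [← Category.assoc]
        rw [← Preadditive.sum_comp, biproduct.total, Category.id_comp]
    have hrel0 : ∑ t, scal A x (a t) • z t = 0 := by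
      have h := congrArg (st (Kι G (n + 1)) x) hu
      rw [map_zero, hsplit, map_sum] at h
      refine Eq.trans (Finset.sum_congr rfl fun t _ => ?_) h
      rw [biproduct.ι_desc, hα]
    refine st_injective (Kι G n) x ?_
    rw [map_zero, hsplit, map_sum]
    have key : ∀ t, st (Kι G n) x (st (biproduct.ι (fun _ : Fin T => G.obj (op 0)) t ≫ Ψ j) x
        (st (toZero G (n + 1)) x (z t))) = scal A x (b t j) • st (step G n) x (z t) := fun t => by
      rw [biproduct.ι_desc, ← step_toZero G n, st_comp, ← st_comp, ← st_comp, toZero_powMap, st_smulMod]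
    rw [Finset.sum_congr rfl fun t _ => key t]
    exact hrel x z hrel0 j
  let E : ShortComplex X.Modules := ShortComplex.mk (kernel.ι Φ) Φ (kernel.condition Φ)
  have hE : E.ShortExact := .mk' (ShortComplex.exact_kernel Φ) inferInstance ‹_›
  haveI : Epi E.g := hE.epi_g
  refine ⟨fun j => hE.exact.desc (Ψ j) (hker j), ?_⟩
  rw [← cancel_epi Φ, Category.comp_id, Preadditive.comp_sum]
  refine biproduct.hom_ext' _ _ fun t => ?_
  rw [Preadditive.comp_sum, biproduct.ι_desc]
  have hd : ∀ j, biproduct.ι (fun _ : Fin T => G.obj (op 0)) t ≫ Φ ≫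
      hE.exact.desc (Ψ j) (hker j) ≫ Kmul hG (hf j) n = β j t ≫ Kmul hG (hf j) n := fun j => by
    rw [← Category.assoc Φ, show Φ ≫ hE.exact.desc (Ψ j) (hker j) = Ψ j from
      hE.exact.g_desc _ _, biproduct.ι_desc_assoc]
  simp only [hd]
  refine hom_eq_zero_of_st_sub _ _ fun x v => ?_
  obtain ⟨w, rfl⟩ := st_surjective (toZero G (n + 1)) x v
  refine st_injective (Kι G (n + 1)) x ?_
  rw [hα, st_sum, map_sum]
  have key : ∀ j, st (Kι G (n + 1)) x (st (β j t ≫ Kmul hG (hf j) n) x (st (toZero G (n + 1)) x w)) =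
      scal A x (b t j * f j) • w := fun j => by
    have h : toZero G (n + 1) ≫ (β j t ≫ Kmul hG (hf j) n) ≫ Kι G (n + 1) =
        Formal.smulMod A (G.obj (op (n + 1))) (b t j * f j) := by
      rw [Category.assoc, Kmul_ι, ← step_toZero G n, Category.assoc]
      rw [show toZero G n ≫ powMap hG n (hb t j) ≫ Kι G n ≫ mulA hG (hf j) n =
        (toZero G n ≫ powMap hG n (hb t j) ≫ Kι G n) ≫ mulA hG (hf j) n by simp only [Category.assoc],
        toZero_powMap, ← Category.assoc, ← FFun.smulMod_naturality, Category.assoc, step_mulA, ← FFun.smulMod_mul, mul_comm]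
    rw [← st_comp, ← st_comp, h, st_smulMod]
  simp only [key]
  rw [← Finset.sum_smul, ← map_sum, ← sub_eq_zero, ← sub_smul, ← map_sub]
  have h0 : ∑ j, b t j * f j - a t ∈ I ^ (n + 1 + 1) := by
    have := neg_mem (hab t)
    rwa [neg_sub] at this
  rw [← st_smulMod, hG.2.1 (n + 1) _ h0, st_zero]
where
  hom_eq_zero_of_st_sub {M N : X.Modules} (φ ψ : M ⟶ N) (h : ∀ x v, st φ x v = st ψ x v) : φ = ψ :=
    sub_eq_zero.1 (hom_eq_zero_of_st _ fun x v => by rw [TFQuot.st_sub, h, sub_self])


theorem toStalk_eq_scal (x : X) : Algz.toStalk A X x = scal A x := rfl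

theorem map_scal_eq_stalkIdeal (J : Ideal A) (x : X) : J.map (scal A x) = Algz.stalkIdeal J x := rfl

theorem exists_isUnit_scal (x : X) (hx : ¬ (I : Set A) ⊆ ((X ↘ Spec (CommRingCat.of A)) x).asIdeal) :
    ∃ a ∈ I, IsUnit (scal A x a) := by
  obtain ⟨a, ha, hax⟩ := Set.not_subset.1 hx
  let g := X ↘ Spec (CommRingCat.of A)
  let p : PrimeSpectrum A := g x
  refine ⟨a, ha, ?_⟩
  have hu : IsUnit ((StructureSheaf.toStalk A p).hom a) :=
    IsLocalization.map_units (M := p.asIdeal.primeCompl) ((Spec.structureSheaf A).presheaf.stalk p) ⟨a, hax⟩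
  have e : scal A x a = (g.stalkMap x).hom ((StructureSheaf.toStalk A p).hom a) :=
    (Scheme.Hom.germ_stalkMap_apply g ⊤ x trivial _).symm
  rw [e]
  exact hu.map _

include hG in
theorem smul_scal_eq_zero (n : ℕ) (x : X) {a : A} (ha : a ∈ I ^ (n + 1))
    (v : (DerSch.stalkFunctor X x).obj (G.obj (op n))) : scal A x a • v = 0 := by
  rw [← st_smulMod, hG.2.1 n a ha, st_zero]

include hG in
theorem stalkIdeal_pow_smul (n : ℕ) (x : X) {o : X.presheaf.stalk x} (ho : o ∈ Algz.stalkIdeal I x ^ (n + 1))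
    (v : (DerSch.stalkFunctor X x).obj (G.obj (op n))) : o • v = 0 := by
  rw [← map_scal_eq_stalkIdeal, ← Ideal.map_pow] at ho
  induction ho using Submodule.span_induction with
  | mem o ho =>
    obtain ⟨a, ha, rfl⟩ := ho
    exact smul_scal_eq_zero hG n x ha v
  | zero => exact zero_smul _ v
  | add o o' _ _ h h' => rw [add_smul, h, h', add_zero]
  | smul c o _ h => rw [smul_assoc, h, smul_zero]

include hG in
theorem stalk_eq_zero (n : ℕ) (x : X) (hx : ¬ (I : Set A) ⊆ ((X ↘ Spec (CommRingCat.of A)) x).asIdeal)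
    (v : (DerSch.stalkFunctor X x).obj (G.obj (op n))) : v = 0 := by
  obtain ⟨a, ha, hu⟩ := exists_isUnit_scal x hx
  refine ((hu.pow (n + 1)).smul_eq_zero).1 ?_
  rw [← map_pow]
  exact smul_scal_eq_zero hG n x (Ideal.pow_mem_pow ha _) v

include hG in
/-- The limit of the stalks, with its projections. -/
theorem exists_hatProj [IsNoetherianRing A] (y : X) :
    ∃ π : ∀ n, ↥(Algz.hatStalk I G y) →ₗ[X.presheaf.stalk y] (DerSch.stalkFunctor X y).obj (G.obj (op n)),
      (∀ n v, st (step G n) y (π (n + 1) v) = π n v) ∧ (∀ n, Function.Surjective (π n)) ∧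
      ∀ n v, π n v = 0 → v ∈ Algz.stalkIdeal I y ^ (n + 1) • (⊤ : Submodule (X.presheaf.stalk y) ↥(Algz.hatStalk I G y)) := by
  let O := X.presheaf.stalk y
  let J := Algz.stalkIdeal I y
  let M : ℕ → Type u := fun n => (DerSch.stalkFunctor X y).obj (G.obj (op n))
  have hkill : ∀ n, J ^ (n + 1) • (⊤ : Submodule O (M n)) = ⊥ := fun n =>
    le_bot_iff.1 (Submodule.smul_le.2 fun o ho v _ => stalkIdeal_pow_smul hG n y ho v)
  have hcomplete : ∀ n, IsAdicComplete J (M n) := fun n =>
    { haus' := fun v hv => by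
        have := hv (n + 1)
        rwa [hkill, SModEq.bot] at this
      prec' := fun g hg => ⟨g (n + 1), fun k => by
        rcases le_total k (n + 1) with h | h
        · exact hg h
        · have h' := hg h
          rw [hkill, SModEq.bot] at h'
          rw [h']⟩ }
  let e : ∀ n, M n ≃ₗ[O] AdicCompletion J (M n) := fun n =>
    haveI := hcomplete n
    AdicCompletion.ofLinearEquiv J (M n)
  let f : ∀ n, M (n + 1) →ₗ[O] M n := fun n => ((DerSch.stalkFunctor X y).map (step G n)).hom
  let π : ∀ n, ↥(Algz.hatStalk I G y) →ₗ[O] M n := fun n =>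
    { toFun := fun v => (e n).symm (v.1 n)
      map_add' := fun v w => map_add (e n).symm (v.1 n) (w.1 n)
      map_smul' := fun o v => map_smul (e n).symm o (v.1 n) }
  have hf : ∀ n v, e n (f n v) = Algz.hatTrans I G y n (e (n + 1) v) := fun n v =>
    (AdicCompletion.map_of (I := J) _ v).symm
  have hπ : ∀ n v, f n (π (n + 1) v) = π n v := fun n v => (e n).injective (by
    rw [hf]
    show Algz.hatTrans I G y n (e (n + 1) ((e (n + 1)).symm (v.1 (n + 1)))) = e n ((e n).symm (v.1 n))
    rw [LinearEquiv.apply_symm_apply, LinearEquiv.apply_symm_apply]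
    exact v.2 n)
  obtain ⟨-, hlim, -⟩ := Adic7.limit_quotient_system O J (Ideal.FG.map (IsNoetherian.noetherian I) _) M f
    (fun n => by
      haveI := epi_step hG n
      exact st_surjective (step G n) y)
    (fun n => by
      refine le_antisymm (fun v hv => ?_) (Submodule.smul_le.2 fun o ho v _ => ?_)
      · obtain ⟨T, a, ha⟩ := Submodule.fg_iff_exists_fin_generating_family.1
          (IsNoetherian.noetherian (I ^ (n + 1) : Ideal A))
        obtain ⟨w, rfl⟩ := eq_sum_of_st_step_eq_zero hG n ha y (LinearMap.mem_ker.1 hv)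
        refine Submodule.sum_mem _ fun t _ => Submodule.smul_mem_smul ?_ Submodule.mem_top
        have hat : a t ∈ I ^ (n + 1) := ha ▸ Submodule.subset_span ⟨t, rfl⟩
        show _ ∈ (I.map (scal A y)) ^ (n + 1)
        rw [← Ideal.map_pow]
        exact Ideal.mem_map_of_mem _ hat
      · exact LinearMap.mem_ker.2 ((map_smul (f n) o v).trans (stalkIdeal_pow_smul hG n y ho (f n v))))
    ↥(Algz.hatStalk I G y) π (fun n => LinearMap.ext (hπ n))
    (fun v hv => Subtype.ext (funext fun n => (e n).symm.injective ((hv n).trans (map_zero _).symm)))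
    (fun g hg => ⟨⟨fun n => e n (g n), fun n => by rw [← hf, hg]⟩, fun n => (e n).symm_apply_apply (g n)⟩)
  exact ⟨π, hπ, fun n => (hlim n).1, fun n v hv => (hlim n).2 ▸ LinearMap.mem_ker.2 hv⟩

include hG in
theorem map_pow_smul_eq_zero (y : X) (n : ℕ) {L : Type u} [AddCommGroup L] [Module (X.presheaf.stalk y) L]
    (π : L →ₗ[X.presheaf.stalk y] (DerSch.stalkFunctor X y).obj (G.obj (op n))) {v : L}
    (hv : v ∈ Algz.stalkIdeal I y ^ (n + 1) • (⊤ : Submodule (X.presheaf.stalk y) L)) : π v = 0 :=
  Submodule.smul_induction_on (p := fun v => π v = 0) hv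
    (fun o ho w _ => (map_smul π o w).trans (stalkIdeal_pow_smul hG n y ho (π w)))
    fun u w hu hw => by rw [map_add, hu, hw, add_zero]

include hG in
/-- Split generation along ideals generated, near the support, by regular sequences on the completed stalks. -/
theorem splitGen_of_regular [IsNoetherianRing A] {d : ℕ} {f : Fin d → A} {r : ℕ} {g : Fin r → A}
    (hf : ∀ j, Fin.append f g j ∈ I)
    (h : ∀ y : X, (I : Set A) ⊆ ((X ↘ Spec (CommRingCat.of A)) y).asIdeal →
      Algz.stalkIdeal I y = Ideal.span (Set.range (scal A y ∘ f)) ∧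
      QReg.Reg ↥(Algz.hatStalk I G y) d (scal A y ∘ f)) :
    SplitGen hG hf := by
  classical
  refine splitGen_of_local hG hf fun n => ?_
  let e := (Fintype.equivFin (QReg.Mon d (n + 1))).symm
  choose jt ct hct het using fun t => QReg.exists_factor d n f (e t)
  have hfI : Ideal.span (Set.range f) ≤ I := Ideal.span_le.2 fun _ ⟨j, hj⟩ => hj ▸ by
    simpa using hf (Fin.castAdd r j)
  let b : Fin (Fintype.card (QReg.Mon d (n + 1))) → Fin (d + r) → A := fun t =>
    Fin.append (fun j => if j = jt t then ct t else 0) 0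
  have hb : ∀ t j, b t j ∈ Ideal.span (Set.range f) ^ n := fun t j => by
    refine Fin.addCases (fun j => ?_) (fun j => ?_) j
    · simp only [b, Fin.append_left]
      split_ifs
      exacts [hct t, zero_mem _]
    · simp [b]
  refine ⟨_, fun t => QReg.mono d (n + 1) f (e t), b, fun t => Ideal.pow_right_mono hfI _ (QReg.mono_mem _ _ _ _),
    fun t j => Ideal.pow_right_mono hfI _ (hb t j), fun t => ?_, fun x v hv => ?_, fun x z hz j => ?_⟩
  · have : ∑ j, b t j * Fin.append f g j = QReg.mono d (n + 1) f (e t) := by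
      rw [Fin.sum_univ_add, het t]
      simp [b, mul_comm]
    rw [this, sub_self]
    exact zero_mem _
  · by_cases hx : (I : Set A) ⊆ ((X ↘ Spec (CommRingCat.of A)) x).asIdeal
    · obtain ⟨hJ, -⟩ := h x hx
      obtain ⟨T, a, ha⟩ := Submodule.fg_iff_exists_fin_generating_family.1
        (IsNoetherian.noetherian (I ^ (n + 1) : Ideal A))
      obtain ⟨w, rfl⟩ := eq_sum_of_st_step_eq_zero hG n ha x hv
      have hmem : ∑ t, scal A x (a t) • w t ∈ Ideal.span (Set.range (scal A x ∘ f)) ^ (n + 1) •
          (⊤ : Submodule (X.presheaf.stalk x) _) := Submodule.sum_mem _ fun t _ => by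
        refine Submodule.smul_mem_smul ?_ Submodule.mem_top
        rw [← hJ, ← map_scal_eq_stalkIdeal, ← Ideal.map_pow]
        exact Ideal.mem_map_of_mem _ (ha ▸ Submodule.subset_span ⟨t, rfl⟩)
      obtain ⟨w', -, hw'⟩ := QReg.exists_sum_pow d (n + 1) _ _ hmem
      refine ⟨fun t => w' (e t), hw'.trans ?_⟩
      rw [← Equiv.sum_comp e]
      exact Finset.sum_congr rfl fun t _ => by rw [QReg.mono_map]
    · exact ⟨0, by rw [stalk_eq_zero hG (n + 1) x hx v]; simp⟩
  · by_cases hx : (I : Set A) ⊆ ((X ↘ Spec (CommRingCat.of A)) x).asIdeal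
    · obtain ⟨hJ, hreg⟩ := h x hx
      obtain ⟨π, hπ, hπs, hπk⟩ := exists_hatProj hG x
      choose Z hZ using fun t => hπs (n + 1) (z (e.symm t))
      have h0 : ∑ t, QReg.mono d (n + 1) (scal A x ∘ f) t • Z t ∈
          Ideal.span (Set.range (scal A x ∘ f)) ^ (n + 1 + 1) • (⊤ : Submodule (X.presheaf.stalk x) _) := by
        rw [← hJ]
        refine hπk (n + 1) _ ?_
        rw [map_sum, ← Equiv.sum_comp e]
        refine Eq.trans (Finset.sum_congr rfl fun t _ => ?_) hz
        rw [map_smul, hZ, Equiv.symm_apply_apply, QReg.mono_map]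
      have hq := QReg.quasiRegular d (scal A x ∘ f) hreg (n + 1) Z h0
      refine Finset.sum_eq_zero fun t _ => ?_
      rw [← Equiv.symm_apply_apply e t, ← hZ (e t), hπ, Equiv.symm_apply_apply, ← map_smul]
      refine map_pow_smul_eq_zero hG x n (π n) ?_
      rw [show Algz.stalkIdeal I x ^ (n + 1) = Ideal.span (Set.range (scal A x ∘ f)) ^ (n + 1) by rw [hJ], pow_succ,
        Submodule.mul_smul]
      refine Submodule.smul_mem_smul ?_ (hq (e t))
      rw [show Set.range (scal A x ∘ f) = scal A x '' Set.range f from Set.range_comp _ _, ← Ideal.map_span,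
        ← Ideal.map_pow]
      exact Ideal.mem_map_of_mem _ (hb t j)
    · exact Finset.sum_eq_zero fun t _ => stalk_eq_zero hG n x hx _

variable {R : Type u} [CommRing R] (φ : R →+* A)

include hG in
/-- Split generation along ideals coming from a ring over which the completed stalks are flat. -/
theorem splitGen_of_flat [IsNoetherianRing A] [IsNoetherianRing R] {J₀ : Ideal R} (hI : I = J₀.map φ) {r : ℕ}
    {f₀ : Fin r → R} (hS : SplitData J₀ f₀) (hf : ∀ j, φ (f₀ j) ∈ I)
    (h : ∀ y : X, (I : Set A) ⊆ ((X ↘ Spec (CommRingCat.of A)) y).asIdeal →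
      letI : Module R ↥(Algz.hatStalk I G y) := Module.compHom ↥(Algz.hatStalk I G y)
        ((algebraMap (X.presheaf.stalk y) (Algz.hatRing I y)).comp ((Algz.toStalk A X y).comp φ))
      Module.Flat R ↥(Algz.hatStalk I G y)) :
    SplitGen hG (f := φ ∘ f₀) hf := by
  classical
  refine splitGen_of_local hG hf fun n => ?_
  obtain ⟨T, a, b, ha, hb, hab, hrel⟩ := hS n
  have hmem : ∀ m {c : R}, c ∈ J₀ ^ m → φ c ∈ I ^ m := fun m c hc => by
    rw [hI, ← Ideal.map_pow]
    exact Ideal.mem_map_of_mem _ hc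
  refine ⟨T, φ ∘ a, fun t j => φ (b t j), fun t => hmem _ (ha ▸ Ideal.subset_span ⟨t, rfl⟩),
    fun t j => hmem _ (hb t j), fun t => ?_, fun x v hv => ?_, fun x z hz j => ?_⟩
  · have := hmem _ (hab t)
    simpa only [map_sub, map_sum, map_mul, Function.comp_apply] using this
  · refine eq_sum_of_st_step_eq_zero hG n ?_ x hv
    rw [Set.range_comp, ← Ideal.map_span, ha, Ideal.map_pow, hI]
  · by_cases hx : (I : Set A) ⊆ ((X ↘ Spec (CommRingCat.of A)) x).asIdeal
    · letI : Module R ↥(Algz.hatStalk I G x) := Module.compHom ↥(Algz.hatStalk I G x)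
        ((algebraMap (X.presheaf.stalk x) (Algz.hatRing I x)).comp ((Algz.toStalk A X x).comp φ))
      haveI : Module.Flat R ↥(Algz.hatStalk I G x) := h x hx
      have hs : ∀ (c : R) (v : ↥(Algz.hatStalk I G x)), c • v = scal A x (φ c) • v := fun c v =>
        algebraMap_smul (Algz.hatRing I x) (scal A x (φ c)) v
      obtain ⟨π, hπ, hπs, hπk⟩ := exists_hatProj hG x
      choose Z hZ using fun t => hπs (n + 1) (z t)
      obtain ⟨s, e, he⟩ := Submodule.fg_iff_exists_fin_generating_family.1
        (IsNoetherian.noetherian (J₀ ^ (n + 2) : Ideal R))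
      have hJe : Algz.stalkIdeal I x ^ (n + 1 + 1) = Ideal.span (Set.range fun i => scal A x (φ (e i))) := by
        rw [← map_scal_eq_stalkIdeal, hI, Ideal.map_map, ← Ideal.map_pow,
          show J₀ ^ (n + 1 + 1) = Ideal.span (Set.range e) from he.symm, Ideal.map_span, ← Set.range_comp]
        rfl
      obtain ⟨W, -, hW⟩ := QReg.exists_sum_of_mem (fun i => scal A x (φ (e i))) ⊤ (x := ∑ t, a t • Z t) (by
        rw [← hJe]
        refine hπk (n + 1) _ ?_
        rw [map_sum]
        refine Eq.trans (Finset.sum_congr rfl fun t _ => ?_) hz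
        rw [hs, map_smul, hZ]
        rfl)
      obtain ⟨k, cc, Y, hY, hc⟩ := Module.Flat.isTrivialRelation_of_sum_smul_eq_zero
        (f := Sum.elim a e) (x := Sum.elim Z (fun i => - W i)) (by
          rw [Fintype.sum_sum_type]
          show (∑ t, a t • Z t) + ∑ i, e i • (- W i) = 0
          rw [hW]
          simp only [hs, smul_neg, Finset.sum_neg_distrib, add_neg_cancel])
      have hker : ∀ i, ∑ t, cc (Sum.inl t) i * b t j ∈ J₀ ^ (n + 1) := fun i => by
        refine hrel (fun t => cc (Sum.inl t) i) ?_ j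
        have h' := hc i
        rw [Fintype.sum_sum_type] at h'
        simp only [Sum.elim_inl, Sum.elim_inr] at h'
        rw [show ∑ t, cc (Sum.inl t) i * a t = - ∑ u', e u' * cc (Sum.inr u') i from by
          rw [← eq_neg_of_add_eq_zero_left h']
          exact Finset.sum_congr rfl fun t _ => mul_comm _ _]
        exact neg_mem (sum_mem fun u' _ => Ideal.mul_mem_right _ _ (he ▸ Submodule.subset_span ⟨u', rfl⟩))
      have key : ∑ t, scal A x (φ (b t j)) • π n (Z t) = 0 := by
        simp only [← map_smul, ← map_sum, ← hs]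
        have hZY : ∀ t, Z t = ∑ i, cc (Sum.inl t) i • Y i := fun t => hY (Sum.inl t)
        simp only [hZY, Finset.smul_sum, smul_smul]
        rw [Finset.sum_comm, map_sum]
        refine Finset.sum_eq_zero fun i _ => ?_
        rw [← Finset.sum_smul, hs, map_smul]
        refine smul_scal_eq_zero hG n x (hmem _ ?_) _
        simpa only [mul_comm] using hker i
      refine Eq.trans (Finset.sum_congr rfl fun t _ => ?_) key
      rw [← hπ, hZ]
    · exact Finset.sum_eq_zero fun t _ => stalk_eq_zero hG n x hx _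

end Groth.Agent.LefAlgz.GrGeom
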