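import Groth.Agent.LefAlgz.Nbhd
import Groth.Agent.Pi1Ext.Spread
import Groth.Agent.H9Lef.PurePair

/-!
# From a neighbourhood of a hypersurface to the whole punctured spectrum
-/

noncomputable section

set_option autoImplicit false
set_option linter.style.haveILetI false
set_option backward.isDefEq.respectTransparency false
set_option backward.isDefEq.respectTransparency.types false

universe u

open CategoryTheory CategoryTheory.Limits AlgebraicGeometry IsLocalRing Groth.Agent.H9Lef Groth.Agent.Pi1Ext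

attribute [-instance] CategoryTheory.catToReflQuiver

namespace Groth.Agent.LefAlgz

open Groth.Agent

/-- Purity is invariant under ring isomorphisms. -/
theorem purityHolds_of_ringEquiv {R R' : Type u} [CommRing R] [IsLocalRing R] [CommRing R'] [IsLocalRing R']
    (e : R ≃+* R') (h : FEt.PurityHolds R) : FEt.PurityHolds R' := by
  let i : Spec (CommRingCat.of R') ⟶ Spec (CommRingCat.of R) := Spec.map e.toCommRingCatIso.hom
  have hc : ∀ q : PrimeSpectrum R', i q = closedPoint R ↔ q = closedPoint R' := fun q => by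
    haveI : IsLocalHom (e : R →+* R') := ⟨fun x hx => by simpa using hx.map e.symm⟩
    have hmax : PrimeSpectrum.comap (e : R →+* R') (closedPoint R') = closedPoint R :=
      IsLocalRing.comap_closedPoint _
    show PrimeSpectrum.comap (e : R →+* R') q = closedPoint R ↔ _
    rw [← hmax]
    exact (PrimeSpectrum.comap_injective_of_surjective _ e.surjective).eq_iff
  have hr : Set.range ((FEt.puncturedSpec R').ι ≫ i).base = Set.range (FEt.puncturedSpec R).ι.base := by
    rw [Scheme.Hom.comp_base, TopCat.coe_comp, Set.range_comp, Scheme.Opens.range_ι, Scheme.Opens.range_ι]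
    ext q
    constructor
    · rintro ⟨q', hq', rfl⟩
      exact fun hh => hq' ((hc q').1 hh)
    · intro hq
      obtain ⟨q', rfl⟩ := i.surjective q
      exact ⟨q', fun hh => hq ((hc q').2 hh), rfl⟩
  haveI : IsOpenImmersion ((FEt.puncturedSpec R').ι ≫ i) := inferInstance
  let κ := IsOpenImmersion.isoOfRangeEq ((FEt.puncturedSpec R').ι ≫ i) (FEt.puncturedSpec R).ι hr
  have hκ : κ.hom ≫ (FEt.puncturedSpec R).ι = (FEt.puncturedSpec R').ι ≫ i :=
    IsOpenImmersion.isoOfRangeEq_hom_fac _ _ hr
  refine ⟨fun V => ?_⟩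
  obtain ⟨E, ⟨e'⟩⟩ := h.mem_essImage ((FEt.restrict κ.inv).obj V)
  exact ⟨(FEt.restrict i).obj E, ⟨Spread.restrictSquare _ i κ.hom _ hκ.symm E ≪≫ (FEt.restrict κ.hom).mapIso e' ≪≫
    (Spread.restrictComp κ.hom κ.inv (𝟙 _) κ.hom_inv_id.symm V).symm ≪≫ Spread.restrictId V⟩⟩

variable {A : Type u} [CommRing A] [IsNoetherianRing A] [IsLocalRing A] {f : A}

omit [IsNoetherianRing A] in
theorem exists_prime_eq {p : PrimeSpectrum A} {z : (FEt.puncturedSpec A : Scheme.{u})}
    (hp : (FEt.puncturedSpec A).ι z = p) : p.asIdeal ≠ maximalIdeal A := fun h =>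
  z.2 (show (FEt.puncturedSpec A).ι z = closedPoint A from hp.trans (PrimeSpectrum.ext h))

/-- A prime whose hypersurface section is the closed point is maximal away from the hypersurface. -/
theorem isMaximal_map_of_forall {p : Ideal A} [p.IsPrime] (hfp : f ∉ p)
    (h : ∀ q : Ideal A, q.IsPrime → p ≤ q → f ∈ q → q = maximalIdeal A) (hf : f ∈ maximalIdeal A) :
    (p.map (algebraMap A (Localization.Away f))).IsMaximal := by
  have hdisj : Disjoint (Submonoid.powers f : Set A) (p : Set A) := by
    rw [Set.disjoint_left]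
    rintro _ ⟨m, rfl⟩ hm
    exact hfp (Ideal.IsPrime.mem_of_pow_mem inferInstance m hm)
  haveI hP := IsLocalization.isPrime_of_isPrime_disjoint (Submonoid.powers f) (Localization.Away f) p inferInstance hdisj
  obtain ⟨Q, hQ, hle⟩ := Ideal.exists_le_maximal _ hP.ne_top
  let q := Q.comap (algebraMap A (Localization.Away f))
  haveI : q.IsPrime := Ideal.comap_isPrime _ _
  have hpq : p ≤ q := Ideal.map_le_iff_le_comap.1 hle
  have hfq : f ∉ q := fun hh => hQ.ne_top (Ideal.eq_top_of_isUnit_mem _ hh (IsLocalization.Away.algebraMap_isUnit f))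
  suffices hqp : q ≤ p by
    have h3 : Q ≤ p.map (algebraMap A (Localization.Away f)) := by
      rw [← IsLocalization.map_comap (Submonoid.powers f) (Localization.Away f) Q]
      exact Ideal.map_mono hqp
    rwa [le_antisymm hle h3]
  by_contra hne
  -- the maximal ideal of the quotient by `p` is minimal over a principal ideal
  let B := A ⧸ p
  let mk := Ideal.Quotient.mk p
  let m' : Ideal B := (maximalIdeal A).map mk
  have hsurj : Function.Surjective mk := Ideal.Quotient.mk_surjective
  have hcomap : ∀ I : Ideal A, p ≤ I → (I.map mk).comap mk = I := fun I hI => by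
    rw [Ideal.comap_map_of_surjective mk hsurj, ← RingHom.ker_eq_comap_bot, Ideal.mk_ker, sup_eq_left.2 hI]
  have hpm : p ≤ maximalIdeal A := IsLocalRing.le_maximalIdeal (Ideal.IsPrime.ne_top inferInstance)
  haveI : m'.IsPrime := Ideal.map_isPrime_of_surjective hsurj (by rw [Ideal.mk_ker]; exact hpm)
  haveI : (q.map mk).IsPrime := Ideal.map_isPrime_of_surjective hsurj (by rw [Ideal.mk_ker]; exact hpq)
  have hmin : m' ∈ (Ideal.span {mk f}).minimalPrimes := by
    refine ⟨⟨inferInstance, (Ideal.span_singleton_le_iff_mem _).2 (Ideal.mem_map_of_mem mk hf)⟩,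
      fun J ⟨hJ, hfJ⟩ _ => ?_⟩
    haveI := hJ
    have h1 : J.comap mk = maximalIdeal A := h _ (Ideal.comap_isPrime _ _)
      (fun x hx => by
        rw [Ideal.mem_comap, show mk x = 0 from Ideal.Quotient.eq_zero_iff_mem.2 hx]
        exact zero_mem J) (hfJ (Ideal.mem_span_singleton_self _))
    exact (Ideal.map_le_iff_le_comap.2 h1.ge)
  have h1 : m'.height ≤ 1 := Ideal.height_le_one_of_isPrincipal_of_mem_minimalPrimes _ m' hmin
  have hlt1 : (⊥ : Ideal B) < q.map mk := by
    refine bot_lt_iff_ne_bot.2 fun hb => hne ?_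
    have := hcomap q hpq
    rw [hb, ← RingHom.ker_eq_comap_bot, Ideal.mk_ker] at this
    exact this.ge
  have hlt2 : q.map mk < m' := by
    refine lt_of_le_of_ne (Ideal.map_mono (IsLocalRing.le_maximalIdeal (Ideal.IsPrime.ne_top inferInstance))) fun hb => hfq ?_
    rw [← hcomap q hpq, hb, Ideal.mem_comap]
    exact Ideal.mem_map_of_mem mk hf
  have h2 : (⊥ : Ideal B).height + 1 ≤ (q.map mk).height :=
    Order.add_one_le_of_lt (Ideal.height_strict_mono_of_isPrime hlt1)
  have h3 : (q.map mk).height + 1 ≤ m'.height :=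
    Order.add_one_le_of_lt (Ideal.height_strict_mono_of_isPrime hlt2)
  have h4 : (1 : ℕ∞) + 1 ≤ 1 := le_trans (add_le_add (le_trans le_add_self h2) le_rfl) (h3.trans h1)
  exact absurd h4 (by norm_num)

/-- Covers extend from the hypersurface to the punctured spectrum once they extend to neighbourhoods. -/
theorem essSurj_of_extension (hf : f ∈ maximalIdeal A)
    (hext : ∀ V₀ : FEt.Cat (pullback (FEt.puncturedSpec A).ι (qSpec (Ideal.span {f}))),
      ∃ (U' : (Spec (CommRingCat.of A)).Opens) (_ : U' ≤ FEt.puncturedSpec A)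
        (u' : pullback (FEt.puncturedSpec A).ι (qSpec (Ideal.span {f})) ⟶ (U' : Scheme.{u}))
        (_ : u' ≫ U'.ι = pullback.fst _ _ ≫ (FEt.puncturedSpec A).ι) (V' : FEt.Cat (U' : Scheme.{u})),
        Nonempty ((FEt.restrict u').obj V' ≅ V₀))
    (hp : ∀ P : Ideal (Localization.Away f), ∀ _ : P.IsMaximal, FEt.PurityHolds (Localization.AtPrime P)) :
    (FEt.restrict (pullback.fst (FEt.puncturedSpec A).ι (qSpec (Ideal.span {f})))).EssSurj := by
  refine ⟨fun V₀ => ?_⟩
  let X : Scheme.{u} := (FEt.puncturedSpec A : Scheme.{u})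
  let P := FEt.puncturedSpec A
  obtain ⟨U', hU', u', hu', V', ⟨eV⟩⟩ := hext V₀
  let U : X.Opens := P.ι ⁻¹ᵁ U'
  have hr : Set.range (U.ι ≫ P.ι).base = Set.range U'.ι.base := by
    rw [Scheme.Hom.comp_base, TopCat.coe_comp, Set.range_comp, Scheme.Opens.range_ι, Scheme.Opens.range_ι]
    show P.ι '' (P.ι ⁻¹' (U' : Set _)) = _
    rw [Set.image_preimage_eq_inter_range, Scheme.Opens.range_ι]
    exact Set.inter_eq_left.2 hU'
  let a := IsOpenImmersion.isoOfRangeEq (U.ι ≫ P.ι) U'.ι hr
  let w := u' ≫ a.inv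
  have hw : w ≫ U.ι = pullback.fst P.ι (qSpec (Ideal.span {f})) := by
    rw [← cancel_mono P.ι, Category.assoc, Category.assoc, IsOpenImmersion.isoOfRangeEq_inv_fac, hu']
  haveI : IsNoetherian X := by
    haveI : IsLocallyNoetherian X := LocallyOfFiniteType.isLocallyNoetherian P.ι
    exact ⟨⟩
  -- points outside the neighbourhood
  let S : Set X := {z | FEt.PurityHolds (X.presheaf.stalk z)}
  have hS : ∀ z : X, z ∉ U → z ∈ S := fun z hz => by
    let x : PrimeSpectrum A := P.ι z
    have hxU : x ∉ U' := hz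
    have key : ∀ q : PrimeSpectrum A, x.asIdeal ≤ q.asIdeal → f ∈ q.asIdeal → q.asIdeal = maximalIdeal A := by
      intro q hq hfq
      by_contra hne
      have hspec : x ⤳ q := (PrimeSpectrum.le_iff_specializes x q).1 hq
      refine hxU (hspec.mem_open U'.2 ?_)
      have hqP : q ∈ P := fun hh => hne (congrArg PrimeSpectrum.asIdeal hh)
      obtain ⟨y, hy⟩ : q ∈ Set.range (pullback.fst P.ι (qSpec (Ideal.span {f})) ≫ P.ι).base := by
        rw [Scheme.Hom.comp_base, TopCat.coe_comp, Set.range_comp, Scheme.Pullback.range_fst]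
        refine ⟨⟨q, hqP⟩, ?_, rfl⟩
        show q ∈ Set.range (PrimeSpectrum.comap (Ideal.Quotient.mk (Ideal.span {f})))
        rw [_root_.range_comap_of_surjective _ _ Ideal.Quotient.mk_surjective, Ideal.mk_ker,
          PrimeSpectrum.mem_zeroLocus, SetLike.coe_subset_coe, Ideal.span_singleton_le_iff_mem]
        exact hfq
      rw [← hy, ← hu', Scheme.Hom.comp_apply]
      exact (u' y).2
    have hfx : f ∉ x.asIdeal := fun hh => exists_prime_eq (p := x) (z := z) rfl (key x le_rfl hh)
    haveI hmax := isMaximal_map_of_forall hfx (fun q hq h1 h2 => key ⟨q, hq⟩ h1 h2) hf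
    let Q := x.asIdeal.map (algebraMap A (Localization.Away f))
    have hcomap : Q.comap (algebraMap A (Localization.Away f)) = x.asIdeal :=
      IsLocalization.under_map_of_isPrime_disjoint (Submonoid.powers f) (Localization.Away f) x.isPrime (by
        rw [Set.disjoint_left]
        rintro _ ⟨m, rfl⟩ hm
        exact hfx (x.isPrime.mem_of_pow_mem m hm))
    haveI : IsLocalization.AtPrime (Localization.AtPrime Q) x.asIdeal := by
      have := IsLocalization.isLocalization_atPrime_localization_atPrime (M := Submonoid.powers f) Q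
      simp only [hcomap] at this
      exact this
    let e1 : Localization.AtPrime Q ≃+* Localization.AtPrime x.asIdeal :=
      (IsLocalization.algEquiv x.asIdeal.primeCompl _ _).toRingEquiv
    let e2 : Localization.AtPrime x.asIdeal ≃+* (Spec (CommRingCat.of A)).presheaf.stalk x :=
      (StructureSheaf.stalkIso A x).toRingEquiv
    let e3 : (Spec (CommRingCat.of A)).presheaf.stalk x ≃+* X.presheaf.stalk z :=
      (P.stalkIso z).symm.commRingCatIsoToRingEquiv
    exact purityHolds_of_ringEquiv ((e1.trans e2).trans e3) (hp Q hmax)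
  obtain ⟨Y, ⟨eY⟩⟩ := Spread.exists_extend_all (X := X) S
    (fun W V x hx hxS hmin => Spread.exists_local_extension W V x hxS hx hmin) U hS ((FEt.restrict a.hom).obj V')
  exact ⟨Y, ⟨Spread.restrictComp w U.ι _ hw.symm Y ≪≫ (FEt.restrict w).mapIso eY ≪≫
    (Spread.restrictComp w a.hom u' (by simp [w]) V').symm ≪≫ eV⟩⟩

/-- Covers of the hypersurface extend to the punctured spectrum. -/
theorem restrict_essSurj (hf : f ∈ maximalIdeal A) (hnz : f ∈ nonZeroDivisors A)
    [IsAdicComplete (Ideal.span {f}) A] (h1 : FinH (maximalIdeal A) 1 (A ⧸ Ideal.span {f}))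
    (h2 : FinH (maximalIdeal A) 2 (A ⧸ Ideal.span {f}))
    (hp : ∀ P : Ideal (Localization.Away f), ∀ _ : P.IsMaximal, FEt.PurityHolds (Localization.AtPrime P)) :
    (FEt.restrict (pullback.fst (FEt.puncturedSpec A).ι (qSpec (Ideal.span {f})))).EssSurj := by
  exact essSurj_of_extension hf (exists_extension hf hnz h1 h2) hp

/-- Purity passes to a hypersurface when restriction to it is essentially surjective. -/
theorem purityHolds_quot_of_essSurj (hA : FEt.PurityHolds A) [IsLocalRing (A ⧸ Ideal.span {f})]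
    (hE : (FEt.restrict (pullback.fst (FEt.puncturedSpec A).ι (qSpec (Ideal.span {f})))).EssSurj) :
    FEt.PurityHolds (A ⧸ Ideal.span {f}) := by
  haveI := hE
  refine ⟨fun V₀ => ?_⟩
  let J : Ideal A := Ideal.span {f}
  let e := (isPullback_jP J).isoPullback
  let G := FEt.restrict (pullback.fst (FEt.puncturedSpec A).ι (qSpec J))
  obtain ⟨Y, ⟨eY⟩⟩ : G.essImage ((FEt.restrict e.inv).obj V₀) := Functor.EssSurj.mem_essImage G _
  obtain ⟨E, ⟨eE⟩⟩ := hA.mem_essImage Y
  refine ⟨(FEt.restrict (qSpec J)).obj E, ⟨?_⟩⟩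
  have w : (FEt.puncturedSpec (A ⧸ J)).ι ≫ qSpec J = e.hom ≫ pullback.fst _ _ ≫ (FEt.puncturedSpec A).ι := by
    rw [← Category.assoc, IsPullback.isoPullback_hom_fst, jP_ι]
  exact Spread.restrictSquare _ (qSpec J) e.hom _ w E ≪≫
    (FEt.restrict e.hom).mapIso (Spread.restrictComp _ (FEt.puncturedSpec A).ι _ rfl E ≪≫ G.mapIso eE ≪≫ eY) ≪≫
    (Spread.restrictComp e.hom e.inv (𝟙 _) e.hom_inv_id.symm V₀).symm ≪≫ Spread.restrictId V₀

/-- Purity passes to a hypersurface. -/
theorem purityHolds_quot (hf : f ∈ maximalIdeal A) (hnz : f ∈ nonZeroDivisors A)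
    [IsAdicComplete (Ideal.span {f}) A] (h1 : FinH (maximalIdeal A) 1 (A ⧸ Ideal.span {f}))
    (h2 : FinH (maximalIdeal A) 2 (A ⧸ Ideal.span {f}))
    (hp : ∀ P : Ideal (Localization.Away f), ∀ _ : P.IsMaximal, FEt.PurityHolds (Localization.AtPrime P))
    (hA : FEt.PurityHolds A) [IsLocalRing (A ⧸ Ideal.span {f})] : FEt.PurityHolds (A ⧸ Ideal.span {f}) := by
  exact purityHolds_quot_of_essSurj hA (restrict_essSurj hf hnz h1 h2 hp)

end Groth.Agent.LefAlgz
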