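import Mathlib.RingTheory.Localization.Away.Basic
import Mathlib.RingTheory.Ideal.AssociatedPrime.Localization
import Groth.Agent.Alg6.AssDepth

/-!
# A finite algebra between a ring and its localisation at an element

It is the ring away from `f`, and has depth at least two at the curve primes through `f` where the local ring's
first local cohomology is killed by a power of `f`.
-/

noncomputable section

set_option autoImplicit false
set_option linter.style.haveILetI false
set_option backward.isDefEq.respectTransparency false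
set_option backward.isDefEq.respectTransparency.types false

universe u

open IsLocalRing

namespace Groth.Agent.LefAlgz

open Groth.Agent

variable {A : Type u} [CommRing A] (f : A)

/-- The localisation away from `f`. -/
abbrev Af : Type u := Localization.Away f

/-- The image of the ring. -/
def rg : Submodule A (Af f) := LinearMap.range (Algebra.linearMap A (Af f))

theorem algebraMap_mem_rg (a : A) : algebraMap A (Af f) a ∈ rg f := ⟨a, rfl⟩

theorem isUnit_smul_Af (j : ℕ) : Function.Bijective fun x : Af f => f ^ j • x := by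
  have hu : IsUnit (algebraMap A (Af f) (f ^ j)) := by
    rw [map_pow]
    exact (IsLocalization.Away.algebraMap_isUnit f).pow j
  obtain ⟨v, hv⟩ := hu.exists_left_inv
  refine ⟨fun x y h => ?_, fun y => ⟨v * y, ?_⟩⟩
  · simp only [Algebra.smul_def] at h
    exact hu.mul_left_cancel h
  · show f ^ j • (v * y) = y
    rw [Algebra.smul_def, ← mul_assoc, mul_comm (algebraMap A _ _) v, hv, one_mul]

variable [IsLocalRing A]

/-- A prime of dimension one through `f`. -/
structure IsCurve (p : Ideal A) : Prop where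
  prime : p.IsPrime
  mem : f ∈ p
  ne : p ≠ maximalIdeal A
  max : ∀ r : Ideal A, r.IsPrime → p < r → r = maximalIdeal A

theorem IsCurve.eq_of_le {p q : Ideal A} (hp : IsCurve f p) (hq : IsCurve f q) (h : q ≤ p) : q = p := by
  by_contra hne
  exact hp.ne (hq.max p hp.prime (lt_of_le_of_ne h hne))

/-- The curve primes associated to the ring modulo `f` and its `f`-torsion. -/
def bad : Set (Ideal A) :=
  {q | q ∈ associatedPrimes A (A ⧸ (Ideal.span {f} ⊔ RingHom.ker (algebraMap A (Af f)))) ∧ IsCurve f q}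

theorem finite_bad [IsNoetherianRing A] : (bad f).Finite :=
  (associatedPrimes.finite A (A ⧸ (Ideal.span {f} ⊔ RingHom.ker (algebraMap A (Af f))))).subset fun _ h => h.1

/-- Fractions with bounded denominator which are integral away from the bad curves. -/
def lat (c : ℕ) : Submodule A (Af f) where
  carrier := {x | f ^ c • x ∈ rg f ∧ ∀ a, (∀ q ∈ bad f, a ∈ q) → ∃ k, a ^ k • x ∈ rg f}
  zero_mem' := ⟨by rw [smul_zero]; exact zero_mem _, fun a _ => ⟨0, by rw [smul_zero]; exact zero_mem _⟩⟩
  add_mem' {x y} hx hy := ⟨by rw [smul_add]; exact add_mem hx.1 hy.1, fun a ha => by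
    obtain ⟨k, hk⟩ := hx.2 a ha
    obtain ⟨k', hk'⟩ := hy.2 a ha
    refine ⟨k + k', ?_⟩
    rw [smul_add, pow_add, mul_smul, mul_smul, smul_comm (a ^ k) (a ^ k') x]
    exact add_mem (Submodule.smul_mem _ _ hk) (Submodule.smul_mem _ _ hk')⟩
  smul_mem' r x hx := ⟨by rw [smul_comm]; exact Submodule.smul_mem _ r hx.1, fun a ha => by
    obtain ⟨k, hk⟩ := hx.2 a ha
    exact ⟨k, by rw [smul_comm]; exact Submodule.smul_mem _ r hk⟩⟩

theorem rg_le_lat (c : ℕ) : rg f ≤ lat f c :=
  fun _ hx => ⟨Submodule.smul_mem _ _ hx, fun _ _ => ⟨0, Submodule.smul_mem _ _ hx⟩⟩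

theorem one_mem_lat (c : ℕ) : (1 : Af f) ∈ lat f c :=
  rg_le_lat f c (by rw [← map_one (algebraMap A (Af f))]; exact algebraMap_mem_rg f 1)

theorem finite_lat [IsNoetherianRing A] (c : ℕ) : Module.Finite A (lat f c) := by
  haveI : Module.Finite A (rg f) := Module.Finite.range _
  haveI : IsNoetherian A (rg f) := isNoetherian_of_isNoetherianRing_of_finite A _
  let φ : lat f c →ₗ[A] rg f := LinearMap.codRestrict _ (f ^ c • (lat f c).subtype) fun x => x.2.1
  exact Module.Finite.of_injective φ fun x y h =>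
    Subtype.ext ((isUnit_smul_Af f c).1 (congrArg Subtype.val h))

/-- The multipliers of the lattice. -/
def multB (c : ℕ) : Subalgebra A (Af f) where
  carrier := {x | ∀ l ∈ lat f c, x * l ∈ lat f c}
  mul_mem' {x y} hx hy l hl := by rw [mul_assoc]; exact hx _ (hy l hl)
  one_mem' l hl := by rwa [one_mul]
  add_mem' {x y} hx hy l hl := by rw [add_mul]; exact add_mem (hx l hl) (hy l hl)
  zero_mem' l hl := by rw [zero_mul]; exact zero_mem _
  algebraMap_mem' r l hl := by rw [← Algebra.smul_def]; exact Submodule.smul_mem _ r hl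

theorem mem_lat_of_mem_multB {c : ℕ} {x : Af f} (hx : x ∈ multB f c) : x ∈ lat f c := by
  simpa using hx 1 (one_mem_lat f c)

theorem finite_multB [IsNoetherianRing A] (c : ℕ) : Module.Finite A (multB f c) := by
  haveI := finite_lat f c
  haveI : IsNoetherian A (lat f c) := isNoetherian_of_isNoetherianRing_of_finite A _
  let φ : multB f c →ₗ[A] lat f c :=
    LinearMap.codRestrict _ (multB f c).val.toLinearMap fun x => mem_lat_of_mem_multB f x.2
  exact Module.Finite.of_injective φ fun x y h => Subtype.ext (congrArg Subtype.val h :)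

/-- At `p`, fractions integral off the closed point become integral after multiplication by `f ^ c`. -/
def Good (p : Ideal A) (c : ℕ) : Prop :=
  ∀ w : Af f, (∀ a ∈ p, ∃ s ∉ p, ∃ k, (s * a ^ k) • w ∈ rg f) → ∃ s ∉ p, (s * f ^ c) • w ∈ rg f

theorem Good.mono {p : Ideal A} {c d : ℕ} (h : Good f p c) (hcd : c ≤ d) : Good f p d := fun w hw => by
  obtain ⟨s, hs, h'⟩ := h w hw
  obtain ⟨e, rfl⟩ := Nat.exists_eq_add_of_le hcd
  refine ⟨s, hs, ?_⟩
  rw [pow_add, ← mul_assoc, mul_comm _ (f ^ e), mul_smul]
  exact Submodule.smul_mem _ _ h'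

theorem good_zero_of_notMem [IsNoetherianRing A] {p : Ideal A} (hp : IsCurve f p) (hbad : p ∉ bad f) :
    Good f p 0 := by
  intro w hw
  obtain ⟨⟨z, _, j, rfl⟩, hz⟩ := IsLocalization.surj (Submonoid.powers f) w
  replace hz : f ^ j • w = algebraMap A (Af f) z := by
    rw [Algebra.smul_def, mul_comm]
    exact hz
  haveI := hp.prime
  induction j generalizing w z with
  | zero =>
    refine ⟨1, fun h => hp.prime.ne_top ((Ideal.eq_top_iff_one _).2 h), ?_⟩
    rw [one_mul, hz]
    exact algebraMap_mem_rg f z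
  | succ j ih =>
    let J : Ideal A := Ideal.span {f} ⊔ RingHom.ker (algebraMap A (Af f))
    let N : Submodule A (A ⧸ J) := Submodule.span A {Submodule.Quotient.mk z}
    have hkill : ∀ a, a • (Submodule.Quotient.mk z : A ⧸ J) = 0 → a ∈ Module.annihilator A N := fun a ha => by
      rw [Module.mem_annihilator]
      rintro ⟨x, hx⟩
      obtain ⟨b, rfl⟩ := Submodule.mem_span_singleton.1 hx
      refine Subtype.ext ?_
      show a • b • (Submodule.Quotient.mk z : A ⧸ J) = 0
      rw [smul_comm, ha, smul_zero]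
    have hnot : ¬ Module.annihilator A N ≤ p := by
      intro hle
      obtain ⟨P, hP, hPp⟩ := Ideal.exists_minimalPrimes_le hle
      have hPass : P ∈ associatedPrimes A (A ⧸ J) :=
        associatedPrimes.subset_of_injective (f := N.subtype) (Submodule.injective_subtype N)
          (Module.associatedPrimes.minimalPrimes_annihilator_subset_associatedPrimes A N hP)
      refine hbad ⟨?_, hp⟩
      rwa [le_antisymm hPp fun a ha => ?_] at hPass
      obtain ⟨s, hs, k, hk⟩ := hw a ha
      have hmem : s * a ^ k ∈ Module.annihilator A N := hkill _ ((Submodule.Quotient.mk_smul _ _ _).symm.trans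
        ((Submodule.Quotient.mk_eq_zero J).2 (by
          obtain ⟨b, hb⟩ := hk
          have h1 : algebraMap A (Af f) ((s * a ^ k) • z - f ^ (j + 1) * b) = 0 := by
            rw [map_sub, map_mul, smul_eq_mul, map_mul, ← Algebra.smul_def (s * a ^ k), ← hz, smul_comm,
              Algebra.smul_def (f ^ (j + 1)), show (s * a ^ k) • w = algebraMap A (Af f) b from hb.symm, sub_self]
          rw [← sub_add_cancel ((s * a ^ k) • z) (f ^ (j + 1) * b)]
          exact add_mem (Ideal.mem_sup_right h1) (Ideal.mem_sup_left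
            (Ideal.mem_span_singleton.2 (Dvd.dvd.mul_right (dvd_pow_self f (Nat.succ_ne_zero j)) b))))))
      haveI := hP.1.1
      exact hP.1.1.mem_of_pow_mem k ((hP.1.1.mem_or_mem (hP.1.2 hmem)).resolve_left fun h => hs (hPp h))
    obtain ⟨s, hsN, hsp⟩ := SetLike.not_le_iff_exists.1 hnot
    have hsz : s • z ∈ J := by
      rw [← Submodule.Quotient.mk_eq_zero, Submodule.Quotient.mk_smul]
      exact congrArg Subtype.val (Module.mem_annihilator.1 hsN ⟨_, Submodule.mem_span_singleton_self _⟩)
    obtain ⟨u, hu, v, hv, huv⟩ := Submodule.mem_sup.1 hsz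
    obtain ⟨z', rfl⟩ := Ideal.mem_span_singleton'.1 hu
    obtain ⟨t, ht, h⟩ := ih (s • w) (fun a ha => by
        obtain ⟨s', hs', k, hk⟩ := hw a ha
        refine ⟨s', hs', k, ?_⟩
        rw [smul_comm]
        exact Submodule.smul_mem _ _ hk) z' ((isUnit_smul_Af f 1).1 (by
      show f ^ 1 • f ^ j • s • w = f ^ 1 • algebraMap A (Af f) z'
      rw [smul_comm (f ^ j) s w, smul_comm (f ^ 1) s, smul_smul (f ^ 1), ← pow_add, add_comm, hz,
        Algebra.smul_def, Algebra.smul_def, pow_one, ← map_mul, ← map_mul,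
        show s * z = z' * f + v from huv.symm, map_add, RingHom.mem_ker.1 hv, add_zero, mul_comm]))
    refine ⟨t * s, fun hh => (hp.prime.mem_or_mem hh).elim ht hsp, ?_⟩
    rwa [mul_right_comm, mul_smul]

/-- At a curve prime where `Good` holds, the multipliers modulo `f` have no associated prime there. -/
theorem notMem_ass_quot [IsNoetherianRing A] {p : Ideal A} (hp : IsCurve f p) {c : ℕ} (hc : Good f p c) :
    p ∉ associatedPrimes A (QuotSMulTop f (multB f c)) := by
  intro hass
  haveI := hp.prime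
  obtain ⟨-, x, hx⟩ := Alg6.mem_ass_iff.1 hass
  obtain ⟨x, rfl⟩ := Submodule.Quotient.mk_surjective _ x
  have hzero : ∀ a : A, a • (Submodule.Quotient.mk x : QuotSMulTop f (multB f c)) = 0 ↔
      ∃ y : multB f c, f • y = a • x := fun a => by
    rw [← Submodule.Quotient.mk_smul]
    exact Alg6.mem_pointwise_smul_top_iff
  obtain ⟨y, hy⟩ := (isUnit_smul_Af f 1).2 (x : Af f)
  simp only [pow_one] at hy
  have hpy : ∀ a ∈ p, ∀ l ∈ lat f c, a • (y * l) ∈ lat f c := fun a ha l hl => by
    obtain ⟨b, hb⟩ := (hzero a).1 ((hx a).1 ha)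
    have hby : (b : Af f) = a • y := (isUnit_smul_Af f 1).1 (by
      show f ^ 1 • (b : Af f) = f ^ 1 • a • y
      rw [pow_one, smul_comm f a y, hy]
      exact congrArg Subtype.val hb)
    rw [← smul_mul_assoc, ← hby]
    exact b.2 l hl
  -- an element in all other bad curves
  obtain ⟨b, hbp, hb⟩ : ∃ b, b ∉ p ∧ ∀ q ∈ bad f, q ≠ p → b ∈ q := by
    classical
    have hq : ∀ q ∈ (finite_bad f).toFinset.erase p, ∃ x ∈ q, x ∉ p := fun q hq => by
      rw [Finset.mem_erase, Set.Finite.mem_toFinset] at hq
      exact SetLike.not_le_iff_exists.1 fun h => hq.1 (hp.eq_of_le f hq.2.2 h)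
    choose e he he' using hq
    refine ⟨∏ q ∈ ((finite_bad f).toFinset.erase p).attach, e q.1 q.2, fun h => ?_, fun q hq hne => ?_⟩
    · obtain ⟨q, -, hq⟩ := (Ideal.IsPrime.prod_mem_iff).1 h
      exact he' q.1 q.2 hq
    · have hq' : q ∈ (finite_bad f).toFinset.erase p := Finset.mem_erase.2 ⟨hne, (finite_bad f).mem_toFinset.2 hq⟩
      exact Ideal.mem_of_dvd q (Finset.dvd_prod_of_mem _ (Finset.mem_attach _ ⟨q, hq'⟩)) (he q hq')
  -- some multiple of `y` outside `p` is a multiplier on each element
  have key : ∀ l ∈ lat f c, ∃ s ∉ p, s • (y * l) ∈ lat f c := fun l hl => by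
    have hW : ∀ a ∈ p, ∃ s ∉ p, ∃ k, (s * a ^ k) • (y * l) ∈ rg f := fun a ha => by
      obtain ⟨k, hk⟩ := (hpy a ha l hl).2 (b * a) fun q hq => by
        rcases eq_or_ne q p with rfl | hne
        · exact Ideal.mul_mem_left _ _ ha
        · exact Ideal.mul_mem_right _ _ (hb q hq hne)
      refine ⟨b ^ k, fun h => hbp (hp.prime.mem_of_pow_mem k h), k + 1, ?_⟩
      rw [pow_succ, ← mul_assoc, ← mul_pow, mul_smul]
      exact hk
    by_cases hbad : p ∈ bad f
    · obtain ⟨s, hs, h⟩ := hc _ hW
      refine ⟨s, hs, ⟨by rwa [smul_comm, smul_smul], fun a ha => ?_⟩⟩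
      obtain ⟨k, hk⟩ := (hpy a (ha p hbad) l hl).2 a ha
      refine ⟨k + 1, ?_⟩
      rw [smul_comm, pow_succ, mul_smul]
      exact Submodule.smul_mem _ _ hk
    · obtain ⟨s, hs, h⟩ := good_zero_of_notMem f hp hbad _ hW
      rw [pow_zero, mul_one] at h
      exact ⟨s, hs, rg_le_lat f c h⟩
  haveI := finite_lat f c
  obtain ⟨n, v, hv⟩ := Module.Finite.exists_fin (R := A) (M := lat f c)
  choose s hs hs' using fun i => key (v i).1 (v i).2
  let S := ∏ i, s i
  have hS : S ∉ p := fun h => by
    obtain ⟨i, -, hi⟩ := (Ideal.IsPrime.prod_mem_iff).1 h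
    exact hs i hi
  have hSy : S • y ∈ multB f c := fun l hl => by
    have hmem : (⟨l, hl⟩ : lat f c) ∈ Submodule.span A (Set.range v) := hv ▸ Submodule.mem_top
    obtain ⟨α, hα⟩ := (Submodule.mem_span_range_iff_exists_fun A).1 hmem
    have hl' : l = ∑ i, α i • (v i : Af f) := by
      have := congrArg Subtype.val hα
      simpa using this.symm
    rw [hl', Finset.mul_sum]
    refine Submodule.sum_mem _ fun i _ => ?_
    rw [mul_smul_comm, smul_mul_assoc]
    refine Submodule.smul_mem _ _ ?_
    obtain ⟨d, hd⟩ := Finset.dvd_prod_of_mem s (Finset.mem_univ i)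
    show (∏ i, s i) • (y * (v i : Af f)) ∈ _
    rw [hd, mul_comm, mul_smul]
    exact Submodule.smul_mem _ _ (hs' i)
  refine hS ((hx S).2 ((hzero S).2 ⟨⟨S • y, hSy⟩, Subtype.ext ?_⟩))
  show f • S • y = S • (x : Af f)
  rw [smul_comm, hy]

end Groth.Agent.LefAlgz
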