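import Groth.Agent.LefAlgz.LimAlg

/-!
# The kernels of the Čech complexes at every level

At level `n` the kernel is an algebra whose localisation at each `g l` is the thickening on the `l`-th open; the
complex is exact up to powers of the `g l`; the obstruction classes come from cocycles of every higher level.
-/

noncomputable section

set_option autoImplicit false
set_option linter.style.haveILetI false
set_option backward.isDefEq.respectTransparency false
set_option backward.isDefEq.respectTransparency.types false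

universe u

namespace Groth.Agent.LefAlgz

open Groth.Agent

variable {A : Type u} [CommRing A] {f : A}

namespace FTower

variable (T : FTower A f)

theorem exists_pow_of_dn : ∀ {n m : ℕ} (h : n ≤ m) (x : T.B m), T.dn h x = 0 → ∃ y, f ^ (n + 1) • y = x := by
  intro n
  induction n with
  | zero =>
    intro m h x hx
    rw [zero_add, pow_one]
    exact T.exists_smul_of_pr m x hx
  | succ n ih =>
    intro m h x hx
    obtain ⟨y, rfl⟩ := ih (by omega : n ≤ m) x (by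
      rw [← T.red_dn h (by omega), hx, map_zero])
    rw [map_smul] at hx
    obtain ⟨w, hw⟩ := T.reg_pow (n + 1) (n + 1) 1 _ rfl hx
    have hpr : T.pr m y = 0 := by
      have : T.pr (n + 1) (T.dn h y) = 0 := by rw [← hw, pow_one, T.pr_smul]
      rwa [pr, T.dn_dn] at this
    obtain ⟨y', rfl⟩ := T.exists_smul_of_pr m y hpr
    exact ⟨y', by rw [pow_succ, mul_smul]⟩

end FTower

namespace Cx

variable (T : Cx A f)

/-- Every obstruction class comes from a cocycle of every level. -/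
theorem exists_cocycle_of_delta {m : ℕ} (s : T.N m) (c : ℕ) :
    ∃ (z : T.C1.B c) (hz : T.e.app c z = 0) (hz' : T.C1.pr c z ∈ T.Z),
      T.delta m s = Submodule.Quotient.mk ⟨T.C1.pr c z, hz'⟩ := by
  have hM : m + 1 ≤ m + 1 + c := Nat.le_add_right _ _
  obtain ⟨x', hx'⟩ : ∃ x' : T.C0.B (m + 1 + c), T.C0.dn (le_trans (Nat.le_succ m) hM) x' = s.1 := by
    have hs : ∀ j, ∃ x' : T.C0.B (m + j), T.C0.dn (Nat.le_add_right m j) x' = s.1 := by
      intro j
      induction j with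
      | zero => exact ⟨s.1, T.C0.dn_self _ _⟩
      | succ j ih =>
        obtain ⟨x', hx'⟩ := ih
        obtain ⟨x'', rfl⟩ := T.C0.red_surj (m + j) x'
        exact ⟨x'', (T.C0.dn_succ (Nat.le_add_right m j) _ x'').trans hx'⟩
    have key : ∀ M (h : m ≤ M), ∃ x' : T.C0.B M, T.C0.dn h x' = s.1 := fun M h => by
      obtain ⟨j, rfl⟩ := Nat.exists_eq_add_of_le h
      exact hs j
    exact key _ _
  have hd : T.C1.dn (le_trans (Nat.le_succ m) hM) (T.d.app _ x') = 0 := by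
    rw [← T.d.app_dn, hx']
    exact T.mem_N.1 s.2
  obtain ⟨y, hy⟩ := T.C1.exists_pow_of_dn _ _ hd
  have hey : f ^ (m + 1) • T.e.app _ y = 0 := by rw [← map_smul, hy, T.ed]
  obtain ⟨w, hw⟩ := T.C2.reg_pow _ (m + 1) (c + 1) _ (by omega) hey
  have hz : T.e.app c (T.C1.dn (Nat.le_add_left c _) y) = 0 := by
    rw [T.e.app_dn, ← hw, T.C2.dn_pow _ le_rfl]
  have hz' : T.C1.pr c (T.C1.dn (Nat.le_add_left c _) y) ∈ T.Z := by
    show T.e.app 0 (T.C1.dn _ _) = 0
    rw [T.e.app_dn, hz, map_zero]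
  refine ⟨_, hz, hz', ?_⟩
  let x : T.P m := ⟨T.C0.dn hM x', by
    show T.C0.red m (T.C0.dn hM x') ∈ T.N m
    rw [T.C0.red_dn hM (le_trans (Nat.le_succ m) hM), hx']
    exact s.2⟩
  have hpx : T.proj m x = s := Subtype.ext (show T.C0.red m (T.C0.dn hM x') = s.1 by
    rw [T.C0.red_dn hM (le_trans (Nat.le_succ m) hM), hx'])
  rw [← hpx, delta_proj]
  congr 1
  refine T.obs_unique (n := m) ?_
  rw [T.mu_obs]
  show T.d.app (m + 1) (T.C0.dn hM x') = T.C1.mu m (T.C1.pr c (T.C1.dn _ y))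
  rw [T.d.app_dn, ← hy, map_smul,
    show T.C1.pr c (T.C1.dn (Nat.le_add_left c (m + 1)) y) = T.C1.pr (m + 1) (T.C1.dn hM y) by
      rw [FTower.pr, T.C1.dn_dn, FTower.pr, T.C1.dn_dn],
    T.C1.mu_pr]

end Cx

theorem finite_kernel [IsNoetherianRing A] (T : Cx A f) [Module.Finite A (T.N 0)] :
    ∀ n, Module.Finite A (T.N n) := by
  intro n
  induction n with
  | zero => assumption
  | succ n ih =>
    let φ : T.N 0 →ₗ[A] T.N (n + 1) := LinearMap.codRestrict _ (T.C0.mu n ∘ₗ (T.N 0).subtype) fun z => by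
      show T.d.app (n + 1) (T.C0.mu n z.1) = 0
      rw [T.d.app_mu, T.mem_N.1 z.2, map_zero]
    let ψ : T.N (n + 1) →ₗ[A] T.N n := (T.C0.red n).restrict fun x hx => T.red_mem hx
    have h : Function.Exact φ ψ := fun x => by
      constructor
      · intro hx
        obtain ⟨z, hz⟩ := T.C0.exists_mu n x.1 (congrArg Subtype.val hx)
        refine ⟨⟨z, T.mem_N.2 (T.C1.mu_injective n ?_)⟩, Subtype.ext hz⟩
        rw [← T.d.app_mu, hz, T.mem_N.1 x.2, map_zero]
      · rintro ⟨z, rfl⟩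
        exact Subtype.ext (T.C0.red_mu n z.1)
    exact finite_of_exact h inferInstance ih

namespace Lft

variable {D : Type u} [CommRing D] [Algebra A D] (L : Lft f D)

theorem isUnit_of_πQ {n : ℕ} {x : L.Q n} (h : IsUnit (L.πQ n x)) : IsUnit x := by
  obtain ⟨y', hy'⟩ := h.exists_right_inv
  obtain ⟨y, rfl⟩ := L.πQ_surj n y'
  obtain ⟨k, hk⟩ := L.isNilpotent_ker n
  have hz : x * y - 1 ∈ RingHom.ker (L.πQ n : L.Q n →+* D) := by
    rw [RingHom.mem_ker, map_sub, map_one, map_mul]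
    exact sub_eq_zero.2 hy'
  have hnil : IsNilpotent (x * y - 1) := ⟨k, by
    have := Ideal.pow_mem_pow hz k
    rwa [hk] at this⟩
  have hu := hnil.isUnit_add_one
  rw [sub_add_cancel] at hu
  exact isUnit_of_mul_isUnit_left hu

theorem isUnit_algebraMap {n : ℕ} {a : A} (h : IsUnit (algebraMap A D a)) : IsUnit (algebraMap A (L.Q n) a) :=
  L.isUnit_of_πQ (by rwa [AlgHom.commutes])

end Lft

namespace Lifting

variable {C : Type u} [CommRing C] [Algebra A C] {r : ℕ} {g : Fin r → A} (Λ : Lifting f C g)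
  (hnz : f ∈ nonZeroDivisors A)

/-- The kernel at level `n`, as an algebra. -/
def Nalg (n : ℕ) : Subalgebra A (∀ i, (Λ.L1 i).Q n) where
  carrier := {x | ∀ p, Λ.r2 n p (x p.2) = Λ.r1 n p (x p.1)}
  mul_mem' hx hy p := by simp only [Pi.mul_apply, map_mul, hx p, hy p]
  one_mem' p := by simp only [Pi.one_apply, map_one]
  add_mem' hx hy p := by simp only [Pi.add_apply, map_add, hx p, hy p]
  zero_mem' p := by simp only [Pi.zero_apply, map_zero]
  algebraMap_mem' a p := by simp only [Pi.algebraMap_apply, AlgHom.commutes]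

/-- The kernel and its algebra agree. -/
def equivNalg (n : ℕ) : (Λ.cx hnz).N n ≃ₗ[A] Λ.Nalg n where
  toFun x := ⟨x.1, (Λ.mem_N_iff hnz).1 x.2⟩
  invFun x := ⟨x.1, (Λ.mem_N_iff hnz).2 x.2⟩
  map_add' _ _ := rfl
  map_smul' _ _ := rfl
  left_inv _ := rfl
  right_inv _ := rfl

theorem pr_apply (l : Fin r) : ∀ (m : ℕ) (v : (Λ.cx hnz).C0.B m),
    ((Λ.L1 l).tower hnz).pr m (v l) = (Λ.cx hnz).C0.pr m v l := by
  intro m
  induction m with
  | zero =>
    intro v
    rw [FTower.pr, FTower.pr, FTower.dn_self, FTower.dn_self]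
  | succ m ih =>
    intro v
    rw [FTower.pr_succ, FTower.pr_succ, ← ih]
    rfl

theorem exists_eval_eq (l : Fin r) : ∀ (n : ℕ) (q : (Λ.L1 l).Q n),
    ∃ K, ∃ s ∈ (Λ.cx hnz).N n, g l ^ K • q = s l := by
  intro n
  induction n with
  | zero =>
    intro q
    obtain ⟨k, c, hc⟩ := exists_frac_L (g l) ((Λ.L1 l).πQ 0 q)
    refine ⟨k, Λ.κL c, Λ.κL_mem hnz c, (Λ.L1 l).πQ_injective ?_⟩
    rw [map_smul, hc]
    exact (Λ.π0_κL c l).symm
  | succ n ih =>
    intro q
    obtain ⟨K, s, hs, hq⟩ := ih ((Λ.L1 l).redQ n q)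
    obtain ⟨K', s', hs', hred⟩ := Λ.exists_lift_pow hnz l n s hs
    have h0 : (Λ.L1 l).redQ n (g l ^ (K' + K) • q - (id (s' l) : (Λ.L1 l).Q (n + 1))) = 0 := by
      rw [map_sub, map_smul, pow_add, mul_smul, hq, sub_eq_zero]
      exact (congrFun hred l).symm
    obtain ⟨w, hw⟩ := ((Λ.L1 l).tower hnz).exists_mu n _ h0
    obtain ⟨k, c, hc⟩ := exists_frac_L (g l) ((Λ.L1 l).πQ 0 w)
    refine ⟨k + (K' + K), g l ^ k • s' + (Λ.cx hnz).C0.mu n (Λ.κL c), ?_, ?_⟩
    · refine Submodule.add_mem _ (Submodule.smul_mem _ _ hs') ((Λ.cx hnz).mem_N.2 ?_)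
      rw [(Λ.cx hnz).d.app_mu, (Λ.cx hnz).mem_N.1 (Λ.κL_mem hnz c), map_zero]
    · have hcw : Λ.κL c l = g l ^ k • w := (Λ.L1 l).πQ_injective (by
        rw [map_smul, hc]
        exact Λ.π0_κL c l)
      obtain ⟨κ', hκ', -⟩ : ∃ v, (Λ.cx hnz).C0.pr (n + 1) v = Λ.κL c ∧ True := by
        obtain ⟨v, hv⟩ := (Λ.cx hnz).C0.pr_surj (n + 1) (Λ.κL c)
        exact ⟨v, hv, trivial⟩
      have hmu : (Λ.cx hnz).C0.mu n (Λ.κL c) l = ((Λ.L1 l).tower hnz).mu n (Λ.κL c l) := by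
        rw [← hκ', (Λ.cx hnz).C0.mu_pr]
        have h2 : ((Λ.L1 l).tower hnz).pr (n + 1) (κ' l) = (Λ.cx hnz).C0.pr (n + 1) κ' l := by
          exact Λ.pr_apply hnz l _ κ'
        rw [← h2, FTower.mu_pr]
        rfl
      show g l ^ (k + (K' + K)) • q = g l ^ k • s' l + (Λ.cx hnz).C0.mu n (Λ.κL c) l
      rw [hmu, hcw, map_smul, hw, pow_add, mul_smul, smul_sub]
      exact (add_sub_cancel _ _).symm

theorem exists_kill_eval (l : Fin r) : ∀ (n : ℕ) (s : ∀ i, (Λ.L1 i).Q n), s ∈ (Λ.cx hnz).N n → s l = 0 →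
    ∃ K, g l ^ K • s = 0 := by
  intro n
  induction n with
  | zero =>
    intro s hs h0
    obtain ⟨K, c, hc⟩ := Λ.exists_κ0_eq hnz hs l
    obtain ⟨k, hk⟩ := exists_kill_L (a := g l) (c := c) (by
      rw [← Λ.π0_κL, ← hc, map_smul, Pi.smul_apply]
      show g l ^ K • (Λ.L1 l).πQ 0 (s l) = 0
      rw [h0, map_zero, smul_zero])
    exact ⟨k + K, by rw [pow_add, mul_smul, hc, ← map_smul, hk, map_zero]⟩
  | succ n ih =>
    intro s hs h0
    obtain ⟨K, hK⟩ := ih _ ((Λ.cx hnz).red_mem hs) (by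
      show (Λ.L1 l).redQ n (s l) = 0
      rw [h0, map_zero])
    obtain ⟨z, hz⟩ := (Λ.cx hnz).C0.exists_mu n (g l ^ K • s) (by rw [map_smul]; exact hK)
    have hzN : z ∈ (Λ.cx hnz).N 0 := (Λ.cx hnz).mem_N.2 ((Λ.cx hnz).C1.mu_injective n (by
      rw [← (Λ.cx hnz).d.app_mu, hz, map_smul, (Λ.cx hnz).mem_N.1 hs, smul_zero, map_zero]))
    have hzl : z l = 0 := by
      obtain ⟨v, hv⟩ := (Λ.cx hnz).C0.pr_surj (n + 1) z
      refine ((Λ.L1 l).tower hnz).mu_injective n ?_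
      rw [map_zero, ← hv, ← Λ.pr_apply hnz l, FTower.mu_pr]
      have := congrFun (show f ^ (n + 1) • v = g l ^ K • s by rw [← (Λ.cx hnz).C0.mu_pr, hv, hz]) l
      exact this.trans (by rw [Pi.smul_apply, h0, smul_zero])
    obtain ⟨K', c, hc⟩ := Λ.exists_κ0_eq hnz hzN l
    obtain ⟨k, hk⟩ := exists_kill_L (a := g l) (c := c) (by
      rw [← Λ.π0_κL, ← hc, map_smul, Pi.smul_apply]
      show g l ^ K' • (Λ.L1 l).πQ 0 (z l) = 0
      rw [hzl, map_zero, smul_zero])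
    refine ⟨k + K' + K, ?_⟩
    have h1 : g l ^ (k + K') • z = 0 := by
      rw [pow_add, mul_smul, hc]
      exact ((Λ.κL).map_smul _ c).symm.trans (by rw [hk]; exact Λ.κL.map_zero)
    have h2 := congrArg ((Λ.cx hnz).C0.mu n) h1
    erw [map_smul, hz, map_zero, ← mul_smul, ← pow_add] at h2
    exact h2

/-- The complex is exact in the middle up to powers of each `g l`, at every level. -/
theorem exists_coboundary_level (l : Fin r) : ∀ (n : ℕ) (z : (Λ.cx hnz).C1.B n), (Λ.cx hnz).e.app n z = 0 →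
    ∃ K, g l ^ K • z ∈ LinearMap.range ((Λ.cx hnz).d.app n) := by
  intro n
  induction n with
  | zero => exact fun z hz => Λ.exists_coboundary hnz hz l
  | succ n ih =>
    intro z hz
    obtain ⟨K, y, hy⟩ := ih ((Λ.cx hnz).C1.red n z) (by rw [(Λ.cx hnz).e.comm, hz, map_zero])
    obtain ⟨y', rfl⟩ := (Λ.cx hnz).C0.red_surj n y
    obtain ⟨w, hw⟩ := (Λ.cx hnz).C1.exists_mu n (g l ^ K • z - (Λ.cx hnz).d.app (n + 1) y') (by
      rw [map_sub, map_smul, ← (Λ.cx hnz).d.comm, hy, sub_self])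
    have hwz : (Λ.cx hnz).e.app 0 w = 0 := (Λ.cx hnz).C2.mu_injective n (by
      rw [← (Λ.cx hnz).e.app_mu, hw, map_sub, map_smul, hz, (Λ.cx hnz).ed, smul_zero, sub_self, map_zero])
    obtain ⟨K', v, hv⟩ := Λ.exists_coboundary hnz hwz l
    refine ⟨K' + K, g l ^ K' • y' + (Λ.cx hnz).C0.mu n v, ?_⟩
    rw [map_add, map_smul, (Λ.cx hnz).d.app_mu, hv, map_smul, hw, smul_sub, add_sub_cancel, pow_add, mul_smul]

/-- Evaluation of the kernel algebra on an open. -/
def evN (n : ℕ) (l : Fin r) : Λ.Nalg n →ₐ[A] (Λ.L1 l).Q n :=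
  (Pi.evalAlgHom A (fun i => (Λ.L1 i).Q n) l).comp (Λ.Nalg n).val

include hnz in
theorem isLocalization_evN (n : ℕ) (l : Fin r) :
    @IsLocalization.Away _ _ (algebraMap A (Λ.Nalg n) (g l)) ((Λ.L1 l).Q n) _ (Λ.evN n l).toRingHom.toAlgebra := by
  letI := (Λ.evN n l).toRingHom.toAlgebra
  have hu : IsUnit (algebraMap A ((Λ.L1 l).Q n) (g l)) := (Λ.L1 l).isUnit_algebraMap (H9Pur.isUnit_L (g l))
  have hmap : ∀ k : ℕ, algebraMap (Λ.Nalg n) ((Λ.L1 l).Q n) (algebraMap A (Λ.Nalg n) (g l) ^ k) =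
      algebraMap A _ (g l ^ k) := fun k => by
    rw [← map_pow]
    exact (Λ.evN n l).commutes _
  refine ⟨⟨fun y => ?_, fun y => ?_, fun {x y} h => ?_⟩⟩
  · obtain ⟨_, k, rfl⟩ := y
    rw [hmap, map_pow]
    exact hu.pow k
  · obtain ⟨K, s, hs, he⟩ := Λ.exists_eval_eq hnz l n y
    refine ⟨(⟨s, (Λ.mem_N_iff hnz).1 hs⟩, ⟨_, K, rfl⟩), ?_⟩
    show y * algebraMap (Λ.Nalg n) _ (algebraMap A (Λ.Nalg n) (g l) ^ K) = s l
    rw [hmap, ← he, Algebra.smul_def, mul_comm]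
  · obtain ⟨K, hK⟩ := Λ.exists_kill_eval hnz l n (x - y : Λ.Nalg n).1 ((Λ.mem_N_iff hnz).2 (x - y).2)
      (by
        show x.1 l - y.1 l = 0
        rw [sub_eq_zero]
        exact h)
    refine ⟨⟨_, K, rfl⟩, ?_⟩
    show algebraMap A (Λ.Nalg n) (g l) ^ K * x = algebraMap A (Λ.Nalg n) (g l) ^ K * y
    rw [← sub_eq_zero, ← mul_sub, ← map_pow, ← Algebra.smul_def]
    exact Subtype.ext hK

end Lifting

end Groth.Agent.LefAlgz
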