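import Groth.Agent.LefAlgz.CechTower

/-!
# The limit algebra of the thickenings
-/

noncomputable section

set_option autoImplicit false
set_option linter.style.haveILetI false
set_option backward.isDefEq.respectTransparency false
set_option backward.isDefEq.respectTransparency.types false

universe u

namespace Groth.Agent.LefAlgz

open Groth.Agent Groth.Agent.H9Lef

variable {A : Type u} [CommRing A] {f : A}

/-- Sections on the union of the standard opens, as compatible families. -/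
def secEq (C : Type u) [CommRing C] [Algebra A C] {r : ℕ} (g : Fin r → A) :
    Subalgebra A (∀ i, H9Pur.L C (g i)) where
  carrier := {x | ∀ p : Fin r × Fin r, resC C (dvd_mul_left (g p.2) (g p.1)) (x p.2) =
    resC C (dvd_mul_right (g p.1) (g p.2)) (x p.1)}
  mul_mem' {x y} hx hy p :=
    (map_mul _ _ _).trans ((congrArg₂ (· * ·) (hx p) (hy p)).trans (map_mul _ _ _).symm)
  one_mem' p := by rw [Pi.one_apply, Pi.one_apply, map_one, map_one]
  add_mem' {x y} hx hy p :=
    (map_add _ _ _).trans ((congrArg₂ (· + ·) (hx p) (hy p)).trans (map_add _ _ _).symm)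
  zero_mem' p := by rw [Pi.zero_apply, Pi.zero_apply, map_zero, map_zero]
  algebraMap_mem' a p := by rw [Pi.algebraMap_apply, Pi.algebraMap_apply, AlgHom.commutes, AlgHom.commutes]

/-- An element of the algebra as a section. -/
def toSecEq (C : Type u) [CommRing C] [Algebra A C] {r : ℕ} (g : Fin r → A) : C →ₐ[A] secEq C g :=
  (Pi.algHom A (fun i => H9Pur.L C (g i)) fun i => IsScalarTower.toAlgHom A C _).codRestrict _ fun c p =>
    (resC_algebraMap C _ c).trans (resC_algebraMap C _ c).symm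

namespace Lifting

variable {C : Type u} [CommRing C] [Algebra A C] {r : ℕ} {g : Fin r → A} (Λ : Lifting f C g)
  (hnz : f ∈ nonZeroDivisors A)

theorem mem_M_iff {x : ∀ n, ∀ i, (Λ.L1 i).Q n} : x ∈ (Λ.cx hnz).M ↔
    ∀ n, (∀ p, Λ.r2 n p (x n p.2) = Λ.r1 n p (x n p.1)) ∧ ∀ i, (Λ.L1 i).redQ n (x (n + 1) i) = x n i :=
  forall_congr' fun _ => and_congr (Λ.mem_N_iff hnz) funext_iff

/-- The limit, as an algebra. -/
def Malg : Subalgebra A (∀ n, ∀ i, (Λ.L1 i).Q n) where
  carrier := {x | ∀ n, (∀ p, Λ.r2 n p (x n p.2) = Λ.r1 n p (x n p.1)) ∧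
    ∀ i, (Λ.L1 i).redQ n (x (n + 1) i) = x n i}
  mul_mem' hx hy n := ⟨fun p => by simp only [Pi.mul_apply, map_mul, (hx n).1 p, (hy n).1 p],
    fun i => by simp only [Pi.mul_apply, map_mul, (hx n).2 i, (hy n).2 i]⟩
  one_mem' n := ⟨fun p => by simp only [Pi.one_apply, map_one], fun i => by simp only [Pi.one_apply, map_one]⟩
  add_mem' hx hy n := ⟨fun p => by simp only [Pi.add_apply, map_add, (hx n).1 p, (hy n).1 p],
    fun i => by simp only [Pi.add_apply, map_add, (hx n).2 i, (hy n).2 i]⟩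
  zero_mem' n := ⟨fun p => by simp only [Pi.zero_apply, map_zero], fun i => by simp only [Pi.zero_apply, map_zero]⟩
  algebraMap_mem' a n := ⟨fun p => by simp only [Pi.algebraMap_apply, AlgHom.commutes],
    fun i => by simp only [Pi.algebraMap_apply, AlgHom.commutes]⟩

/-- The limit submodule and the limit algebra agree. -/
def equivMalg : (Λ.cx hnz).M ≃ₗ[A] Λ.Malg where
  toFun x := ⟨x.1, (Λ.mem_M_iff hnz).1 x.2⟩
  invFun x := ⟨x.1, (Λ.mem_M_iff hnz).2 x.2⟩
  map_add' _ _ := rfl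
  map_smul' _ _ := rfl
  left_inv _ := rfl
  right_inv _ := rfl

/-- The reduction of the limit to sections. -/
def ρ : Λ.Malg →ₐ[A] secEq C g :=
  ((Pi.algHom A (fun i => H9Pur.L C (g i)) fun i =>
    ((Λ.L1 i).πQ 0).comp ((Pi.evalAlgHom A (fun i => (Λ.L1 i).Q 0) i).comp
      (Pi.evalAlgHom A (fun n => ∀ i, (Λ.L1 i).Q n) 0))).comp Λ.Malg.val).codRestrict _ fun x p =>
    (Λ.pair_iff p (x.1 0)).1 ((x.2 0).1 p)

include hnz in
theorem smul_injective_Malg : Function.Injective fun x : Λ.Malg => f • x := by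
  intro x y h
  apply (Λ.equivMalg hnz).symm.injective
  apply (Λ.cx hnz).smul_injective
  show f • (Λ.equivMalg hnz).symm x = f • (Λ.equivMalg hnz).symm y
  rw [← map_smul, ← map_smul]
  exact congrArg (Λ.equivMalg hnz).symm h

include hnz in
theorem exists_smul_of_ρ_eq_zero (x : Λ.Malg) (hx : Λ.ρ x = 0) : ∃ y, f • y = x := by
  obtain ⟨y, hy⟩ := (Λ.cx hnz).exists_smul_of_ev_zero ((Λ.equivMalg hnz).symm x)
    (Λ.bijective_π0.1 (funext fun i => by
      show (Λ.L1 i).πQ 0 (x.1 0 i) = Λ.π0 0 i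
      rw [map_zero]
      exact congrFun (congrArg Subtype.val hx) i))
  exact ⟨Λ.equivMalg hnz y, by rw [← map_smul, hy, LinearEquiv.apply_symm_apply]⟩

variable [IsNoetherianRing A] [IsAdicComplete (Ideal.span {f}) A] {I : Ideal A}
  (hg : Ideal.span (Set.range g) = I) [Module.Finite A C] (h1 : FinH I 1 C) (h2 : FinH I 2 C)

include Λ hnz hg h1 h2

theorem finite_Malg : Module.Finite A Λ.Malg := by
  haveI := (Λ.finite_zero hnz hg h1 h2).1
  haveI := (Λ.cx hnz).finite_M
  exact Module.Finite.equiv (Λ.equivMalg hnz)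

omit [IsAdicComplete (Ideal.span {f}) A] in
theorem finite_secEq : Module.Finite A (secEq C g) := by
  haveI := (Λ.finite_zero hnz hg h1 h2).1
  haveI : IsNoetherian A ((Λ.cx hnz).N 0) := isNoetherian_of_isNoetherianRing_of_finite A _
  let e := LinearEquiv.ofBijective Λ.π0 Λ.bijective_π0
  have hmem : ∀ x : secEq C g, e.symm x.1 ∈ (Λ.cx hnz).N 0 := fun x => (Λ.mem_N_zero_iff hnz).2 fun p => by
    rw [show Λ.π0 (e.symm x.1) = x.1 from LinearEquiv.apply_ofBijective_symm_apply (f := Λ.π0) (h := Λ.bijective_π0) x.1]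
    exact x.2 p
  let j : secEq C g →ₗ[A] (Λ.cx hnz).N 0 :=
    LinearMap.codRestrict _ (e.symm.toLinearMap ∘ₗ (secEq C g).val.toLinearMap) hmem
  exact Module.Finite.of_injective j fun x y h => Subtype.ext (e.symm.injective (congrArg Subtype.val h))

omit [IsAdicComplete (Ideal.span {f}) A] in
theorem exists_ρ_eq (x : secEq C g) (l : Fin r) : ∃ K m, g l ^ K • x = Λ.ρ m := by
  haveI := (Λ.finite_zero hnz hg h1 h2).2
  haveI : IsNoetherian A (Λ.cx hnz).H := isNoetherian_of_isNoetherianRing_of_finite A _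
  let e := LinearEquiv.ofBijective Λ.π0 Λ.bijective_π0
  have he : Λ.π0 (e.symm x.1) = x.1 := LinearEquiv.apply_ofBijective_symm_apply (f := Λ.π0) (h := Λ.bijective_π0) x.1
  obtain ⟨K, hK⟩ := (Λ.cx hnz).pow_mem_stable (g := g l) (fun m s hs => Λ.exists_lift_pow hnz l m s hs)
    (n := 0) (s := e.symm x.1) ((Λ.mem_N_zero_iff hnz).2 fun p => by rw [he]; exact x.2 p)
  obtain ⟨m, hm⟩ := (Λ.cx hnz).exists_ev_eq hK
  refine ⟨K, Λ.equivMalg hnz m, Subtype.ext (funext fun i => ?_)⟩
  show g l ^ K • x.1 i = (Λ.L1 i).πQ 0 (m.1 0 i)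
  have h3 := congrFun (congrArg Λ.π0 (show m.1 0 = g l ^ K • e.symm x.1 from hm)) i
  rw [map_smul, he, Pi.smul_apply] at h3
  exact h3.symm

end Lifting

end Groth.Agent.LefAlgz
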