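import Groth.Agent.LefAlgz.Tower
import Groth.Agent.H9Lef.SecLimit

/-!
# The limit of the kernels in a complex of towers
-/

noncomputable section

set_option autoImplicit false

universe u

namespace Groth.Agent.LefAlgz.Cx

variable {A : Type u} [CommRing A] {f : A} (T : Cx A f)

/-- Elements liftable to every level. -/
def Stable (n : ℕ) : Submodule A (T.C0.B n) where
  carrier := {x | ∀ m (h : n ≤ m), ∃ s ∈ T.N m, T.C0.dn h s = x}
  zero_mem' m h := ⟨0, zero_mem _, map_zero _⟩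
  add_mem' hx hy m h := by
    obtain ⟨s, hs, rfl⟩ := hx m h
    obtain ⟨t, ht, rfl⟩ := hy m h
    exact ⟨s + t, add_mem hs ht, map_add _ _ _⟩
  smul_mem' a x hx m h := by
    obtain ⟨s, hs, rfl⟩ := hx m h
    exact ⟨a • s, Submodule.smul_mem _ a hs, map_smul _ _ _⟩

theorem stable_le (n : ℕ) : T.Stable n ≤ T.N n := fun x hx => by
  obtain ⟨s, hs, rfl⟩ := hx n le_rfl
  exact T.dn_mem _ hs

theorem mem_stable_of_dn {c : ℕ} (hc : ∀ m, c ≤ m → LinearMap.range (T.delta c) = LinearMap.range (T.delta m))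
    {n m : ℕ} (h : n ≤ m) (hm : n + c + 1 ≤ m) {s : T.C0.B m} (hs : s ∈ T.N m) :
    T.C0.dn h s ∈ T.Stable n := by
  have step : ∀ m' (h' : n ≤ m'), n + c + 1 ≤ m' → ∀ x : T.C0.B n, (∃ s ∈ T.N m', T.C0.dn h' s = x) →
      ∃ s ∈ T.N (m' + 1), T.C0.dn (h'.trans (Nat.le_succ _)) s = x := by
    intro m' h' hm' x hx
    obtain ⟨s, hs, rfl⟩ := hx
    have hmem : T.delta m' ⟨s, hs⟩ ∈ LinearMap.range (T.delta c) := by
      rw [hc m' (by omega)]; exact ⟨_, rfl⟩
    obtain ⟨t, ht⟩ := hmem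
    obtain ⟨t', y, h1, h2⟩ := T.exists_divisible t (m' - c) m' (by omega)
    obtain ⟨s', hs', hr⟩ := T.exists_lift_of_delta (⟨s, hs⟩ - t') (by rw [map_sub, h1, ht, sub_self])
    refine ⟨s', hs', ?_⟩
    rw [T.C0.dn_succ h', hr, Submodule.coe_sub, map_sub, ← h2, T.C0.dn_pow h' (by omega), sub_zero]
  intro k hk
  by_cases hkm : k ≤ m
  · exact ⟨T.C0.dn hkm s, T.dn_mem _ hs, T.C0.dn_dn hk hkm s⟩
  · have hmk : m ≤ k := by omega
    induction k, hmk using Nat.le_induction with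
    | base => exact ⟨s, hs, rfl⟩
    | succ k hmk ih =>
      refine step k (h.trans hmk) (hm.trans hmk) _ ?_
      by_cases hkm' : k ≤ m
      · obtain rfl := le_antisymm hkm' hmk
        exact ⟨s, hs, rfl⟩
      · exact ih _ hkm'

/-- The images of the obstructions stabilise. -/
class IsStab : Prop where
  stab : ∃ c, ∀ m, c ≤ m → LinearMap.range (T.delta c) = LinearMap.range (T.delta m)

instance [IsNoetherian A T.H] : T.IsStab := ⟨T.exists_delta_stable⟩

theorem exists_stable [h : T.IsStab] :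
    ∃ c, ∀ m, c ≤ m → LinearMap.range (T.delta c) = LinearMap.range (T.delta m) := h.stab

theorem red_stable_surj [T.IsStab] {n : ℕ} {x : T.C0.B n} (hx : x ∈ T.Stable n) :
    ∃ x' ∈ T.Stable (n + 1), T.C0.red n x' = x := by
  obtain ⟨c, hc⟩ := T.exists_stable
  obtain ⟨s, hs, rfl⟩ := hx (n + 1 + c + 1) (by omega)
  exact ⟨T.C0.dn (n := n + 1) (by omega) s, T.mem_stable_of_dn hc _ le_rfl hs, T.C0.red_dn _ _ s⟩

/-- The limit of the kernels. -/
def M : Submodule A (∀ n, T.C0.B n) where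
  carrier := {x | ∀ n, x n ∈ T.N n ∧ T.C0.red n (x (n + 1)) = x n}
  zero_mem' n := ⟨zero_mem _, map_zero _⟩
  add_mem' hx hy n := ⟨add_mem (hx n).1 (hy n).1, by
    rw [Pi.add_apply, map_add, (hx n).2, (hy n).2]; rfl⟩
  smul_mem' a x hx n := ⟨Submodule.smul_mem _ a (hx n).1, by
    rw [Pi.smul_apply, map_smul, (hx n).2]; rfl⟩

/-- The projection of the limit to a level. -/
def ev (n : ℕ) : T.M →ₗ[A] T.C0.B n := (LinearMap.proj n) ∘ₗ T.M.subtype

theorem ev_mem (n : ℕ) (x : T.M) : T.ev n x ∈ T.N n := (x.2 n).1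

theorem red_ev (n : ℕ) (x : T.M) : T.C0.red n (T.ev (n + 1) x) = T.ev n x := (x.2 n).2

theorem dn_ev {n m : ℕ} (h : n ≤ m) (x : T.M) : T.C0.dn h (T.ev m x) = T.ev n x := by
  induction m, h using Nat.le_induction with
  | base => rw [T.C0.dn_self]
  | succ m h ih => rw [T.C0.dn_succ h, red_ev, ih]

theorem exists_ev_eq [T.IsStab] {n : ℕ} {x : T.C0.B n} (hx : x ∈ T.Stable n) :
    ∃ y : T.M, T.ev n y = x := by
  have h : ∀ k (z : T.Stable (n + k)), ∃ z' : T.Stable (n + (k + 1)), T.C0.red (n + k) z'.1 = z.1 := fun k z => by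
    obtain ⟨x', hx', he⟩ := T.red_stable_surj z.2
    exact ⟨⟨x', hx'⟩, he⟩
  choose F hF using h
  let y : ∀ k, T.Stable (n + k) := fun k => Nat.rec (⟨x, hx⟩ : T.Stable (n + 0)) F k
  have hy : ∀ j k (h : j ≤ n + k) (h' : j ≤ n + (k + 1)),
      T.C0.dn h' (y (k + 1)).1 = T.C0.dn h (y k).1 := fun j k h h' => by
    show T.C0.dn h' (F k (y k)).1 = _
    rw [← hF k (y k)]
    exact T.C0.dn_succ h h' _
  refine ⟨⟨fun j => T.C0.dn (Nat.le_add_left j n) (y j).1, fun j => ⟨T.dn_mem _ (T.stable_le _ (y j).2), ?_⟩⟩, ?_⟩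
  · show T.C0.red j (T.C0.dn _ (y (j + 1)).1) = _
    rw [T.C0.red_dn _ ((Nat.le_add_left j n).trans (Nat.le_succ _))]
    exact hy j j _ _
  · show T.C0.dn (Nat.le_add_left n n) (y n).1 = x
    have : ∀ k, T.C0.dn (Nat.le_add_right n k) (y k).1 = x := fun k => by
      induction k with
      | zero => exact T.C0.dn_self _ _
      | succ k ih => rw [hy n k (Nat.le_add_right n k), ih]
    exact this n

theorem smul_injective : Function.Injective fun x : T.M => f • x := by
  intro x y h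
  have h' : f • (x - y) = 0 := by rw [smul_sub, sub_eq_zero]; exact h
  refine sub_eq_zero.1 (Subtype.ext (funext fun n => ?_))
  obtain ⟨w, hw⟩ := T.C0.reg n (T.ev (n + 1) (x - y)) (by
    rw [← map_smul, h', map_zero])
  show T.ev n (x - y) = 0
  rw [← red_ev, ← hw, T.C0.red_pow]

theorem exists_smul_of_ev_zero (x : T.M) (h : T.ev 0 x = 0) : ∃ y : T.M, f • y = x := by
  have hpr : ∀ m, T.C0.pr (m + 1) (T.ev (m + 1) x) = 0 := fun m => (T.dn_ev _ x).trans h
  choose y hy using fun m => T.C0.exists_nu_of_pr m _ (hpr m)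
  have hred : ∀ m, T.C0.red m (y (m + 1)) = y m := fun m => T.C0.nu_injective m (by
    rw [T.C0.nu_red, ← T.C0.red_nu, hy, red_ev, hy])
  refine ⟨⟨y, fun m => ⟨?_, hred m⟩⟩, Subtype.ext (funext fun m => ?_)⟩
  · rw [mem_N]
    apply T.C1.nu_injective m
    rw [map_zero, ← T.d.app_nu, hy]
    exact T.ev_mem (m + 1) x
  · show f • y m = T.ev m x
    rw [← T.C0.red_nu, hy, red_ev]

theorem exists_pow_smul_of_ev_zero : ∀ (n : ℕ) (x : T.M), T.ev n x = 0 → ∃ y : T.M, f ^ (n + 1) • y = x := by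
  intro n
  induction n with
  | zero => exact fun x h => by simpa using T.exists_smul_of_ev_zero x h
  | succ n ih =>
    intro x h
    obtain ⟨y, rfl⟩ := T.exists_smul_of_ev_zero x (by rw [← T.dn_ev (Nat.zero_le (n + 1)), h, map_zero])
    have hy : T.ev n y = 0 := T.C0.nu_injective n (by
      rw [map_zero, ← red_ev, T.C0.nu_red, ← map_smul, h])
    obtain ⟨w, rfl⟩ := ih y hy
    exact ⟨w, by rw [smul_smul, ← pow_succ']⟩

theorem ev_pow_smul (n : ℕ) (x : T.M) : T.ev n (f ^ (n + 1) • x) = 0 := by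
  rw [map_smul, T.C0.killed]

theorem finite_M [IsNoetherianRing A] [IsAdicComplete (Ideal.span {f}) A] [Module.Finite A (T.N 0)] :
    Module.Finite A T.M := by
  let π : T.M →ₗ[A] T.N 0 := LinearMap.codRestrict _ (T.ev 0) (T.ev_mem 0)
  haveI : IsNoetherian A (T.N 0) := isNoetherian_of_isNoetherianRing_of_finite A _
  obtain ⟨p, e, he⟩ := Module.Finite.exists_fin (R := A) (M := LinearMap.range π)
  choose b hb using fun i => (e i).2
  let comb : (Fin p → A) →ₗ[A] T.M :=
    { toFun := fun a => ∑ i, a i • b i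
      map_add' := fun a a' => by simp [add_smul, Finset.sum_add_distrib]
      map_smul' := fun c a => by simp [Finset.smul_sum, mul_smul] }
  have hstep : ∀ x : T.M, ∃ (a : Fin p → A) (y : T.M), x - comb a = f • y := by
    intro x
    have hx : (⟨π x, x, rfl⟩ : LinearMap.range π) ∈ Submodule.span A (Set.range e) := by
      rw [he]; exact Submodule.mem_top
    obtain ⟨a, ha⟩ := (Submodule.mem_span_range_iff_exists_fun A).1 hx
    obtain ⟨y, hy⟩ := T.exists_smul_of_ev_zero (x - comb a) (by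
      have h1 : π (comb a) = π x := by
        have h2 := congrArg Subtype.val ha
        simp only [Submodule.coe_sum, Submodule.coe_smul] at h2
        rw [← h2]
        simp [comb, map_sum, hb]
      have := congrArg Subtype.val h1
      rw [map_sub, sub_eq_zero]
      exact this.symm)
    exact ⟨a, y, hy.symm⟩
  choose α β hαβ using hstep
  refine Module.Finite.of_surjective comb fun x => ?_
  let z : ℕ → T.M := fun k => Nat.rec x (fun _ w => β w) k
  have hz : ∀ k, comb (∑ j ∈ Finset.range k, f ^ j • α (z j)) + f ^ k • z k = x := fun k => by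
    induction k with
    | zero => simp [z]
    | succ k ih =>
      conv_rhs => rw [← ih, show z k = comb (α (z k)) + f • z (k + 1) from eq_add_of_sub_eq' (hαβ (z k))]
      rw [Finset.sum_range_succ, map_add, map_smul, smul_add, smul_smul, ← pow_succ, add_assoc]
  obtain ⟨l, hl⟩ := H9Lef.exists_series (M := Fin p → A) f fun j => α (z j)
  refine ⟨l, Subtype.ext (funext fun n => ?_)⟩
  obtain ⟨w, hw⟩ := hl (n + 1)
  show T.ev n (comb l) = T.ev n x
  rw [← hz (n + 1), map_add, ev_pow_smul, add_zero, ← sub_eq_zero, ← map_sub, ← map_sub, hw, map_smul,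
    ev_pow_smul]

theorem pow_mem_stable [T.IsStab] {g : A}
    (hlift : ∀ m, ∀ s ∈ T.N m, ∃ K, ∃ s' ∈ T.N (m + 1), T.C0.red m s' = g ^ K • s)
    {n : ℕ} {s : T.C0.B n} (hs : s ∈ T.N n) : ∃ K, g ^ K • s ∈ T.Stable n := by
  obtain ⟨c, hc⟩ := T.exists_stable
  have : ∀ j, ∃ (K : ℕ) (s' : T.C0.B (n + j)), s' ∈ T.N (n + j) ∧
      T.C0.dn (Nat.le_add_right n j) s' = g ^ K • s := fun j => by
    induction j with
    | zero => exact ⟨0, s, hs, by rw [T.C0.dn_self, pow_zero, one_smul]⟩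
    | succ j ih =>
      obtain ⟨K, s', hs', hd⟩ := ih
      obtain ⟨L, s'', hs'', hr⟩ := hlift _ s' hs'
      refine ⟨L + K, s'', hs'', ?_⟩
      rw [T.C0.dn_succ (Nat.le_add_right n j), hr, map_smul, hd, smul_smul, ← pow_add]
  obtain ⟨K, s', hs', hd⟩ := this (c + 1)
  exact ⟨K, hd ▸ T.mem_stable_of_dn hc _ (by omega) hs'⟩

end Groth.Agent.LefAlgz.Cx
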