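import Groth.Agent.LefAlgz.ModCx
import Groth.Prelude.Def_Formal2

/-!
# Systems free modulo powers of `f` away from an ideal come from a finite module, up to torsion
-/

noncomputable section

set_option autoImplicit false
set_option linter.style.haveILetI false
set_option backward.isDefEq.respectTransparency false
set_option backward.isDefEq.respectTransparency.types false

universe u

namespace Groth.Agent.LefAlgz

open Groth.Agent

variable {A : Type u} [CommRing A]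

/-- Membership up to powers can be checked at the primes not containing the ideal. -/
theorem exists_pow_mem_of_local {𝔞 : Ideal A} {M : Type u} [AddCommGroup M] [Module A M] (N : Submodule A M)
    (x : M) (h : ∀ p : Ideal A, p.IsPrime → ¬ 𝔞 ≤ p → ∃ a, a ∉ p ∧ ∃ K : ℕ, a ^ K • x ∈ N) {b : A} (hb : b ∈ 𝔞) :
    ∃ K : ℕ, b ^ K • x ∈ N := by
  suffices h' : b ∈ Ideal.radical (N.comap (LinearMap.toSpanSingleton A M x)) from h'
  rw [Ideal.radical_eq_sInf, Submodule.mem_sInf]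
  rintro p ⟨hle, hp⟩
  by_contra hbp
  obtain ⟨a, hap, K, hK⟩ := h p hp fun h𝔞 => hbp (h𝔞 hb)
  exact hap (hp.mem_of_pow_mem K (hle hK))

/-- Near every prime not containing `𝔞` the module is free modulo `J`, up to torsion. -/
def LocFree (J 𝔞 : Ideal A) (M : Type u) [AddCommGroup M] [Module A M] : Prop :=
  ∀ p : Ideal A, p.IsPrime → ¬ 𝔞 ≤ p → ∃ (a : A) (q : ℕ) (φ : (Fin q → A ⧸ J) →ₗ[A] M), a ∉ p ∧
    (∀ v, φ v = 0 → ∃ K : ℕ, a ^ K • v = 0) ∧ ∀ y, ∃ (K : ℕ) (v : Fin q → A ⧸ J), φ v = a ^ K • y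

variable {f : A} {𝔞 : Ideal A}

theorem LocFree.exists_reg (hnz : f ∈ nonZeroDivisors A) {n : ℕ} {M : Type u} [AddCommGroup M] [Module A M]
    (h : LocFree (Ideal.span {f ^ (n + 2)}) 𝔞 M) {x : M} (hx : f • x = 0) {b : A} (hb : b ∈ 𝔞) :
    ∃ (K : ℕ) (y : M), b ^ K • x = f ^ (n + 1) • y := by
  suffices h' : ∀ p : Ideal A, p.IsPrime → ¬ 𝔞 ≤ p → ∃ a, a ∉ p ∧
      ∃ K : ℕ, a ^ K • x ∈ LinearMap.range (f ^ (n + 1) • LinearMap.id : M →ₗ[A] M) by
    obtain ⟨K, y, hy⟩ := exists_pow_mem_of_local _ x h' hb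
    exact ⟨K, y, hy.symm⟩
  intro p hp h𝔞
  obtain ⟨a, q, φ, hap, hker, hsurj⟩ := h p hp h𝔞
  obtain ⟨K, v, hv⟩ := hsurj x
  obtain ⟨L, hL⟩ := hker (f • v) (by rw [map_smul, hv, smul_comm, hx, smul_zero])
  obtain ⟨e, he⟩ : ∃ e : Fin q → A ⧸ Ideal.span {f ^ (n + 2)}, a ^ L • v = f ^ (n + 1) • e := by
    choose w hw using fun t => Submodule.mkQ_surjective (Ideal.span {f ^ (n + 2)}) (a ^ L • v t)
    have hdiv : ∀ t, ∃ c : A, w t = f ^ (n + 1) * c := fun t => by
      have h0 : Submodule.mkQ (Ideal.span {f ^ (n + 2)}) (f * w t) = 0 := by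
        rw [← smul_eq_mul, map_smul, hw, smul_comm]
        exact congrFun hL t
      rw [Submodule.mkQ_apply, Submodule.Quotient.mk_eq_zero, Ideal.mem_span_singleton] at h0
      obtain ⟨c, hc⟩ := h0
      exact ⟨c, (mul_cancel_left_mem_nonZeroDivisors hnz).1 (by rw [hc]; ring)⟩
    choose c hc using hdiv
    refine ⟨fun t => Submodule.mkQ _ (c t), funext fun t => ?_⟩
    show a ^ L • v t = f ^ (n + 1) • Submodule.mkQ _ (c t)
    rw [← hw, hc, ← map_smul, smul_eq_mul]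
  refine ⟨a, hap, L + K, φ e, ?_⟩
  show f ^ (n + 1) • φ e = a ^ (L + K) • x
  rw [← map_smul, ← he, map_smul, hv, pow_add, mul_smul]

variable [IsNoetherianRing A]

theorem LocFree.split {J : Ideal A} {M : Type u} [AddCommGroup M] [Module A M] [Module.Finite A M]
    (h : LocFree J 𝔞 M) {r : ℕ} {g : Fin r → A} (hg : ∀ i, g i ∈ 𝔞) : Split g (A ⧸ J) M := by
  classical
  intro i
  let T : Set (M →ₗ[A] M) := {φ | ∃ (α : M →ₗ[A] (A ⧸ J)) (β : (A ⧸ J) →ₗ[A] M), φ = β ∘ₗ α}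
  suffices h' : ∀ p : Ideal A, p.IsPrime → ¬ 𝔞 ≤ p → ∃ a, a ∉ p ∧
      ∃ K : ℕ, a ^ K • (LinearMap.id : M →ₗ[A] M) ∈ Submodule.span A T by
    obtain ⟨k, hk⟩ := exists_pow_mem_of_local _ _ h' (hg i)
    obtain ⟨m, c, φ, hsum⟩ := Submodule.mem_span_set'.1 hk
    choose α β hαβ using fun t => (φ t).2
    refine ⟨m, k, LinearMap.pi α, LinearMap.lsum A (fun _ : Fin m => A ⧸ J) A fun t => c t • β t, fun x => ?_⟩
    have := LinearMap.congr_fun hsum x
    simp only [LinearMap.sum_apply, LinearMap.smul_apply, LinearMap.id_apply, hαβ, LinearMap.comp_apply] at this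
    rw [LinearMap.lsum_apply, ← this, LinearMap.sum_apply]
    rfl
  intro p hp h𝔞
  obtain ⟨a, q, φ, hap, hker, hsurj⟩ := h p hp h𝔞
  -- uniform exponents
  obtain ⟨l, hl⟩ : ∃ l : ℕ, ∀ v, φ v = 0 → a ^ l • v = 0 := by
    obtain ⟨m, s, hs⟩ := Submodule.fg_iff_exists_fin_generating_family.1 (IsNoetherian.noetherian (LinearMap.ker φ))
    choose K hK using fun t => hker (s t) (hs ▸ Submodule.subset_span ⟨t, rfl⟩ : s t ∈ LinearMap.ker φ)
    refine ⟨Finset.univ.sup K, fun v hv => ?_⟩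
    have hle : LinearMap.ker φ ≤ LinearMap.ker (a ^ Finset.univ.sup K • LinearMap.id : (Fin q → A ⧸ J) →ₗ[A] _) := by
      rw [← hs, Submodule.span_le]
      rintro _ ⟨t, rfl⟩
      obtain ⟨d, hd⟩ := Nat.exists_eq_add_of_le (Finset.le_sup (f := K) (Finset.mem_univ t))
      show a ^ Finset.univ.sup K • s t = 0
      rw [hd, add_comm, pow_add, mul_smul, hK, smul_zero]
    exact hle hv
  obtain ⟨k, hk⟩ : ∃ k : ℕ, ∀ y, a ^ k • y ∈ LinearMap.range φ := by
    obtain ⟨m, s, hs⟩ := Module.Finite.exists_fin (R := A) (M := M)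
    choose K v hv using fun t => hsurj (s t)
    refine ⟨Finset.univ.sup K, fun y => ?_⟩
    have hle : (⊤ : Submodule A M) ≤ (LinearMap.range φ).comap (a ^ Finset.univ.sup K • LinearMap.id) := by
      rw [← hs, Submodule.span_le]
      rintro _ ⟨t, rfl⟩
      obtain ⟨d, hd⟩ := Nat.exists_eq_add_of_le (Finset.le_sup (f := K) (Finset.mem_univ t))
      refine ⟨a ^ d • v t, ?_⟩
      show φ (a ^ d • v t) = a ^ Finset.univ.sup K • s t
      rw [map_smul, hv, hd, smul_smul, ← pow_add, add_comm]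
    exact hle Submodule.mem_top
  let ψ : M →ₗ[A] (Fin q → A ⧸ J) :=
    descend φ.rangeRestrict φ.surjective_rangeRestrict (a ^ l • LinearMap.id)
        (fun v hv => hl v (congrArg Subtype.val hv)) ∘ₗ
      LinearMap.codRestrict (LinearMap.range φ) (a ^ k • LinearMap.id) hk
  have hψ : ∀ y, φ (ψ y) = a ^ (l + k) • y := fun y => by
    obtain ⟨v, hv⟩ := hk y
    have h1 : LinearMap.codRestrict (LinearMap.range φ) (a ^ k • LinearMap.id) hk y = φ.rangeRestrict v :=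
      Subtype.ext hv.symm
    rw [show ψ y = descend φ.rangeRestrict φ.surjective_rangeRestrict (a ^ l • LinearMap.id) (fun v hv => hl v (congrArg Subtype.val hv))
        (LinearMap.codRestrict (LinearMap.range φ) (a ^ k • LinearMap.id) hk y) from rfl, h1, descend_apply,
      LinearMap.smul_apply, LinearMap.id_apply, map_smul, hv, smul_smul, ← pow_add]
  refine ⟨a, hap, l + k, ?_⟩
  rw [show a ^ (l + k) • (LinearMap.id : M →ₗ[A] M) =
    ∑ t, (φ ∘ₗ LinearMap.single A (fun _ : Fin q => A ⧸ J) t) ∘ₗ (LinearMap.proj t ∘ₗ ψ) from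
    LinearMap.ext fun y => by
      simp only [LinearMap.smul_apply, LinearMap.id_apply, LinearMap.sum_apply, LinearMap.comp_apply,
        LinearMap.proj_apply, LinearMap.single_apply, ← map_sum, Finset.univ_sum_single, hψ]]
  exact Submodule.sum_mem _ fun t _ => Submodule.subset_span ⟨_, _, rfl⟩

namespace MSys

variable {r : ℕ} {g : Fin r → A} (S : MSys f g)

/-- A level, enlarged to contain the stable images and the elements of the module. -/
abbrev W (n : ℕ) : Submodule A (∀ i, S.Lm n (g i)) := LinearMap.range (S.cx.ev n) ⊔ LinearMap.range (S.κ n)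

theorem W_le_N (n : ℕ) : S.W n ≤ S.cx.N n := by
  refine sup_le ?_ ?_
  · rintro _ ⟨x, rfl⟩
    exact S.cx.ev_mem n x
  · rintro _ ⟨x, rfl⟩
    exact S.κ_mem n x

theorem red_mem_W (n : ℕ) : ∀ x ∈ S.W (n + 1), S.cx.C0.red n x ∈ S.W n := by
  have h : S.W (n + 1) ≤ (S.W n).comap (S.cx.C0.red n) := by
    refine sup_le ?_ ?_
    · rintro _ ⟨x, rfl⟩
      exact Submodule.mem_sup_left ⟨x, (S.cx.red_ev n x).symm⟩
    · rintro _ ⟨x, rfl⟩
      exact Submodule.mem_sup_right ⟨_, (S.red_κ n x).symm⟩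
  exact fun x hx => h hx

/-- The transition maps of the enlarged levels. -/
def tW (n : ℕ) : S.W (n + 1) →ₗ[A] S.W n := (S.cx.C0.red n).restrict (S.red_mem_W n)

/-- The module into its enlargement. -/
def iM (n : ℕ) : S.M n →ₗ[A] S.W n :=
  LinearMap.codRestrict (S.W n) (S.κ n) fun x => Submodule.mem_sup_right ⟨x, rfl⟩

theorem tW_iM (n : ℕ) (x : S.M (n + 1)) : S.tW n (S.iM (n + 1) x) = S.iM n (S.t n x) := Subtype.ext (S.red_κ n x)

/-- The limit, reduced, into the enlargement. -/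
def iQ (n : ℕ) : Formal2.quotPow A (Ideal.span {f}) S.cx.M n →ₗ[A] S.W n :=
  Submodule.liftQ _ (LinearMap.codRestrict (S.W n) (S.cx.ev n) fun x => Submodule.mem_sup_left ⟨x, rfl⟩)
    fun x hx => by
      obtain ⟨y, rfl⟩ := H9Lef.mem_span_pow_smul_top.1 hx
      exact Subtype.ext (S.cx.ev_pow_smul n y)

theorem iQ_mk (n : ℕ) (x : S.cx.M) :
    (S.iQ n (Formal2.quotPowπ A (Ideal.span {f}) S.cx.M n x) : ∀ i, S.Lm n (g i)) = S.cx.ev n x := rfl

theorem tW_iQ (n : ℕ) (x : Formal2.quotPow A (Ideal.span {f}) S.cx.M (n + 1)) :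
    S.tW n (S.iQ (n + 1) x) = S.iQ n (Formal2.quotPowTrans A (Ideal.span {f}) S.cx.M n x) := by
  obtain ⟨x, rfl⟩ := Submodule.mkQ_surjective _ x
  exact Subtype.ext (S.cx.red_ev n x)

theorem injective_iQ (n : ℕ) : Function.Injective (S.iQ n) := by
  rw [injective_iff_map_eq_zero]
  intro x hx
  obtain ⟨x, rfl⟩ := Submodule.mkQ_surjective _ x
  obtain ⟨y, rfl⟩ := S.cx.exists_pow_smul_of_ev_zero n x (congrArg Subtype.val hx)
  exact (Submodule.Quotient.mk_eq_zero _).2 (H9Lef.mem_span_pow_smul_top.2 ⟨y, rfl⟩)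

theorem exists_mem_range_iQ [S.cx.IsStab] (n : ℕ) (w : S.W n) (l : Fin r) :
    ∃ K : ℕ, g l ^ K • w ∈ LinearMap.range (S.iQ n) := by
  obtain ⟨K, hK⟩ := S.cx.pow_mem_stable (g := g l) (fun m s hs => S.exists_lift_pow l m s hs) (S.W_le_N n w.2)
  obtain ⟨y, hy⟩ := S.cx.exists_ev_eq hK
  exact ⟨K, Formal2.quotPowπ A (Ideal.span {f}) S.cx.M n y, Subtype.ext hy⟩

theorem exists_mem_range_iM (n : ℕ) (w : S.W n) (l : Fin r) :
    ∃ K : ℕ, g l ^ K • w ∈ LinearMap.range (S.iM n) := by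
  obtain ⟨K, c, h⟩ := S.exists_κ_eq (S.W_le_N n w.2) l
  exact ⟨K, c, Subtype.ext h.symm⟩

theorem exists_kill_iM {n : ℕ} {x : S.M n} (hx : S.iM n x = 0) (l : Fin r) : ∃ K : ℕ, g l ^ K • x = 0 :=
  S.exists_kill_κ (congrArg Subtype.val hx) l

theorem finite_W [IsAdicComplete (Ideal.span {f}) A] [Module.Finite A (S.cx.N 0)] (n : ℕ) :
    Module.Finite A (S.W n) := by
  haveI := S.cx.finite_M
  exact Module.Finite.iff_fg.2 (Submodule.FG.sup (Module.Finite.iff_fg.1 (Module.Finite.range _))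
    (Module.Finite.iff_fg.1 (Module.Finite.range _)))

end MSys

/-- The finiteness that makes the obstructions stabilise. -/
theorem MSys.finite_of_finH {r : ℕ} {g : Fin r → A} (S : MSys f g) (hg : Ideal.span (Set.range g) = 𝔞)
    (hfree : LocFree (Ideal.span {f}) 𝔞 (S.M 0)) (h1 : FinH 𝔞 1 (A ⧸ Ideal.span {f}))
    (h2 : FinH 𝔞 2 (A ⧸ Ideal.span {f})) : Module.Finite A (S.cx.N 0) ∧ S.cx.IsStab := by
  have hs : Split g (A ⧸ Ideal.span {f}) (S.M 0) := hfree.split fun i => hg ▸ Ideal.subset_span ⟨i, rfl⟩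
  obtain ⟨hN, hH⟩ := S.finite_zero hg (hs.finH_one hg h1) (hs.finH_two hg h1 h2)
  haveI := hH
  haveI : IsNoetherian A S.cx.H := isNoetherian_of_isNoetherianRing_of_finite A _
  exact ⟨hN, ⟨S.cx.exists_delta_stable⟩⟩

end Groth.Agent.LefAlgz
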