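import Groth.Agent.LefAlgz.CechTower

/-!
# The Čech towers of a system of finite modules, free modulo powers of `f` away from an ideal
-/

noncomputable section

set_option autoImplicit false
set_option linter.style.haveILetI false
set_option backward.isDefEq.respectTransparency false
set_option backward.isDefEq.respectTransparency.types false

universe u

namespace Groth.Agent.LefAlgz

open Groth.Agent

variable {A : Type u} [CommRing A]

/-- A system of finite modules which, up to powers of every `g i`, consists of successive flat liftings. -/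
structure MSys (f : A) {r : ℕ} (g : Fin r → A) where
  M : ℕ → Type u
  [grp : ∀ n, AddCommGroup (M n)]
  [mod : ∀ n, Module A (M n)]
  [fin : ∀ n, Module.Finite A (M n)]
  t : ∀ n, M (n + 1) →ₗ[A] M n
  killed : ∀ n (x : M n), f ^ (n + 1) • x = 0
  ker_t : ∀ n (x : M (n + 1)), t n x = 0 → ∀ i, ∃ (K : ℕ) (y : M (n + 1)), g i ^ K • x = f ^ (n + 1) • y
  surj_t : ∀ n (y : M n) (i : Fin r), ∃ (K : ℕ) (x : M (n + 1)), t n x = g i ^ K • y
  reg : ∀ n (x : M (n + 1)), f • x = 0 → ∀ i, ∃ (K : ℕ) (y : M (n + 1)), g i ^ K • x = f ^ (n + 1) • y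

attribute [instance] MSys.grp MSys.mod MSys.fin

namespace MSys

variable {f : A} {r : ℕ} {g : Fin r → A} (S : MSys f g)

/-- Sections on a standard open. -/
abbrev Lm (n : ℕ) (a : A) : Type u := LocalizedModule (Submonoid.powers a) (S.M n)

/-- The map to the sections on a standard open. -/
abbrev ℓ (n : ℕ) (a : A) : S.M n →ₗ[A] S.Lm n a := LocalizedModule.mkLinearMap (Submonoid.powers a) (S.M n)

theorem bij_pow (n : ℕ) (a : A) (k : ℕ) : Function.Bijective fun z : S.Lm n a => a ^ k • z :=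
  (Module.End.isUnit_iff _).1 (IsLocalizedModule.map_units (S.ℓ n a) ⟨a ^ k, pow_mem (Submonoid.mem_powers a) k⟩)

theorem bij_dvd (n : ℕ) {a b : A} (h : b ∣ a) (k : ℕ) : Function.Bijective fun z : S.Lm n a => b ^ k • z := by
  obtain ⟨c, hc⟩ := pow_dvd_pow_of_dvd h k
  have ha := S.bij_pow n a k
  refine ⟨fun x y hxy => ha.1 ?_, fun y => ?_⟩
  · show a ^ k • x = a ^ k • y
    have h' : b ^ k • x = b ^ k • y := hxy
    rw [hc, mul_comm, mul_smul, mul_smul, h']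
  · obtain ⟨x, hx⟩ := ha.2 y
    refine ⟨c • x, ?_⟩
    show b ^ k • c • x = y
    rw [smul_smul, ← hc]
    exact hx

theorem units_dvd (n : ℕ) {a b : A} (h : b ∣ a) (x : Submonoid.powers b) :
    IsUnit ((algebraMap A (Module.End A (S.Lm n a))) x) := by
  obtain ⟨_, k, rfl⟩ := x
  exact (Module.End.isUnit_iff _).2 (S.bij_dvd n h k)

theorem exists_frac (n : ℕ) (a : A) (z : S.Lm n a) : ∃ (k : ℕ) (x : S.M n), a ^ k • z = S.ℓ n a x := by
  obtain ⟨⟨x, ⟨_, k, rfl⟩⟩, h⟩ := IsLocalizedModule.surj (Submonoid.powers a) (S.ℓ n a) z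
  exact ⟨k, x, h⟩

theorem exists_kill {n : ℕ} {a : A} {x : S.M n} (h : S.ℓ n a x = 0) : ∃ k : ℕ, a ^ k • x = 0 := by
  obtain ⟨⟨_, k, rfl⟩, hk⟩ :=
    IsLocalizedModule.exists_of_eq (S := Submonoid.powers a) (f := S.ℓ n a) (h.trans (map_zero _).symm)
  exact ⟨k, (show a ^ k • x = a ^ k • (0 : S.M n) from hk).trans (smul_zero _)⟩

theorem pow_dvd_smul {n : ℕ} {a b : A} (h : b ∣ a) {K : ℕ} {x y : S.M n} (e : b ^ K • x = y) :
    ∃ c : A, a ^ K • x = c • y := by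
  obtain ⟨c, hc⟩ := pow_dvd_pow_of_dvd h K
  exact ⟨c, by rw [hc, mul_comm, mul_smul, e]⟩

/-- The reduction on a standard open. -/
def redL (n : ℕ) (a : A) : S.Lm (n + 1) a →ₗ[A] S.Lm n a :=
  IsLocalizedModule.lift (Submonoid.powers a) (S.ℓ (n + 1) a) (S.ℓ n a ∘ₗ S.t n) (S.units_dvd n dvd_rfl)

theorem redL_ℓ (n : ℕ) (a : A) (x : S.M (n + 1)) : S.redL n a (S.ℓ (n + 1) a x) = S.ℓ n a (S.t n x) :=
  IsLocalizedModule.lift_apply (Submonoid.powers a) (S.ℓ (n + 1) a) _ _ x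

/-- The tower on a standard open inside some `D(g i)`. -/
def tower (a : A) (ha : ∃ i, g i ∣ a) : FTower A f where
  B n := S.Lm n a
  red n := S.redL n a
  red_surj n z := by
    obtain ⟨i, hi⟩ := ha
    obtain ⟨k, y, hk⟩ := S.exists_frac n a z
    obtain ⟨K, x, hx⟩ := S.surj_t n y i
    obtain ⟨c, hc⟩ := pow_dvd_pow_of_dvd hi K
    obtain ⟨w, hw⟩ := (S.bij_pow (n + 1) a (K + k)).2 (c • S.ℓ (n + 1) a x)
    refine ⟨w, (S.bij_pow n a (K + k)).1 ?_⟩
    show a ^ (K + k) • S.redL n a w = a ^ (K + k) • z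
    rw [← map_smul, show a ^ (K + k) • w = c • S.ℓ (n + 1) a x from hw, map_smul, redL_ℓ, hx, map_smul, ← hk,
      smul_smul, smul_smul, pow_add, hc]
    congr 1
    ring
  ker_red n z hz := by
    obtain ⟨i, hi⟩ := ha
    obtain ⟨k, x, hk⟩ := S.exists_frac (n + 1) a z
    have h0 : S.ℓ n a (S.t n x) = 0 := by rw [← redL_ℓ, ← hk, map_smul, hz, smul_zero]
    obtain ⟨l, hl⟩ := S.exists_kill h0
    rw [← map_smul] at hl
    obtain ⟨K, y, hy⟩ := S.ker_t n _ hl i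
    obtain ⟨c, hc⟩ := S.pow_dvd_smul hi hy
    obtain ⟨w, hw⟩ := (S.bij_pow (n + 1) a (K + l + k)).2 (c • S.ℓ (n + 1) a y)
    refine ⟨w, (S.bij_pow (n + 1) a (K + l + k)).1 ?_⟩
    show a ^ (K + l + k) • f ^ (n + 1) • w = a ^ (K + l + k) • z
    rw [smul_comm, show a ^ (K + l + k) • w = c • S.ℓ (n + 1) a y from hw, smul_comm, ← map_smul, ← map_smul, ← hc,
      pow_add, mul_smul, pow_add, mul_smul, hk, map_smul, map_smul]
  killed n z := by
    obtain ⟨k, x, hk⟩ := S.exists_frac n a z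
    refine (S.bij_pow n a k).1 ?_
    show a ^ k • f ^ (n + 1) • z = a ^ k • (0 : S.Lm n a)
    rw [smul_comm, hk, ← map_smul, S.killed, map_zero, smul_zero]
  reg n z hz := by
    obtain ⟨i, hi⟩ := ha
    obtain ⟨k, x, hk⟩ := S.exists_frac (n + 1) a z
    have h0 : S.ℓ (n + 1) a (f • x) = 0 := by rw [map_smul, ← hk, smul_comm, hz, smul_zero]
    obtain ⟨l, hl⟩ := S.exists_kill h0
    rw [smul_comm] at hl
    obtain ⟨K, y, hy⟩ := S.reg n _ hl i
    obtain ⟨c, hc⟩ := S.pow_dvd_smul hi hy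
    obtain ⟨w, hw⟩ := (S.bij_pow (n + 1) a (K + l + k)).2 (c • S.ℓ (n + 1) a y)
    refine ⟨w, (S.bij_pow (n + 1) a (K + l + k)).1 ?_⟩
    show a ^ (K + l + k) • f ^ (n + 1) • w = a ^ (K + l + k) • z
    rw [smul_comm, show a ^ (K + l + k) • w = c • S.ℓ (n + 1) a y from hw, smul_comm, ← map_smul, ← map_smul, ← hc,
      pow_add, mul_smul, pow_add, mul_smul, hk, map_smul, map_smul]

/-- Restriction to a smaller standard open. -/
def res (n : ℕ) {a b : A} (h : a ∣ b) : S.Lm n a →ₗ[A] S.Lm n b :=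
  IsLocalizedModule.lift (Submonoid.powers a) (S.ℓ n a) (S.ℓ n b) (S.units_dvd n h)

theorem res_ℓ (n : ℕ) {a b : A} (h : a ∣ b) (x : S.M n) : S.res n h (S.ℓ n a x) = S.ℓ n b x :=
  IsLocalizedModule.lift_apply (Submonoid.powers a) (S.ℓ n a) _ _ x

theorem res_res (n : ℕ) {a b c : A} (h : a ∣ b) (h' : b ∣ c) (z : S.Lm n a) :
    S.res n h' (S.res n h z) = S.res n (h.trans h') z :=
  LinearMap.congr_fun (IsLocalizedModule.ext (Submonoid.powers a) (S.ℓ n a) (S.units_dvd n (h.trans h'))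
    (j := S.res n h' ∘ₗ S.res n h) (k := S.res n (h.trans h'))
    (LinearMap.ext fun x => by simp only [LinearMap.comp_apply, res_ℓ])) z

theorem res_redL (n : ℕ) {a b : A} (h : a ∣ b) (z : S.Lm (n + 1) a) :
    S.res n h (S.redL n a z) = S.redL n b (S.res (n + 1) h z) :=
  LinearMap.congr_fun (IsLocalizedModule.ext (Submonoid.powers a) (S.ℓ (n + 1) a) (S.units_dvd n h)
    (j := S.res n h ∘ₗ S.redL n a) (k := S.redL n b ∘ₗ S.res (n + 1) h)
    (LinearMap.ext fun x => by simp only [LinearMap.comp_apply, redL_ℓ, res_ℓ])) z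

theorem exists_kill_res {n : ℕ} {u b a : A} (ha : a = u * b) (h : b ∣ a) {z : S.Lm n b} (hz : S.res n h z = 0) :
    ∃ k : ℕ, u ^ k • z = 0 := by
  obtain ⟨k, x, hk⟩ := S.exists_frac n b z
  have h0 : S.ℓ n a x = 0 := by rw [← S.res_ℓ n h, ← hk, map_smul, hz, smul_zero]
  obtain ⟨l, hl⟩ := S.exists_kill h0
  refine ⟨l, (S.bij_pow n b (l + k)).1 ?_⟩
  show b ^ (l + k) • u ^ l • z = b ^ (l + k) • (0 : S.Lm n b)
  rw [smul_zero, smul_comm, pow_add, mul_smul, hk, smul_smul, ← mul_pow, ← ha, ← map_smul, hl, map_zero]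

theorem exists_res_eq {n : ℕ} {u b a : A} (ha : a = u * b) (h : b ∣ a) (y : S.Lm n a) :
    ∃ K : ℕ, ∀ K', K ≤ K' → ∃ z : S.Lm n b, S.res n h z = u ^ K' • y := by
  obtain ⟨k, x, hk⟩ := S.exists_frac n a y
  refine ⟨k, fun K' hK' => ?_⟩
  obtain ⟨e, rfl⟩ := Nat.exists_eq_add_of_le hK'
  obtain ⟨z, hz⟩ := (S.bij_pow n b k).2 (S.ℓ n b x)
  refine ⟨u ^ e • z, (S.bij_dvd n h k).1 ?_⟩
  show b ^ k • S.res n h (u ^ e • z) = b ^ k • u ^ (k + e) • y
  rw [← map_smul, smul_comm, show b ^ k • z = S.ℓ n b x from hz, map_smul, res_ℓ, ← hk, smul_smul, smul_smul]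
  congr 1
  rw [ha, mul_pow, pow_add]
  ring

/-- The Čech complex of the towers. -/
def cx : Cx A f where
  C0 := FTower.pi fun i => S.tower (g i) ⟨i, dvd_rfl⟩
  C1 := FTower.pi fun p : Fin r × Fin r => S.tower (a2 g p) ⟨p.1, dvd_mul_right _ _⟩
  C2 := FTower.pi fun t : Fin r × Fin r × Fin r =>
    S.tower (a3 g t) ⟨t.1, (dvd_mul_right (g t.1) (g t.2.1)).trans (dvd_a3₁ g t)⟩
  d :=
    { app := fun n => LinearMap.pi fun p : Fin r × Fin r =>
        S.res n (a := g p.2) (b := a2 g p) (dvd_mul_left _ _) ∘ₗ LinearMap.proj p.2 -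
          S.res n (a := g p.1) (b := a2 g p) (dvd_mul_right _ _) ∘ₗ LinearMap.proj p.1
      comm := fun n x => funext fun p => by
        show S.res n (a := g p.2) (b := a2 g p) (dvd_mul_left _ _) (S.redL n (g p.2) (x p.2)) -
            S.res n (a := g p.1) (b := a2 g p) (dvd_mul_right _ _) (S.redL n (g p.1) (x p.1)) =
          S.redL n (a2 g p) (S.res (n + 1) (a := g p.2) (b := a2 g p) (dvd_mul_left _ _) (x p.2) -
            S.res (n + 1) (a := g p.1) (b := a2 g p) (dvd_mul_right _ _) (x p.1))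
        rw [map_sub, res_redL, res_redL] }
  e :=
    { app := fun n => LinearMap.pi fun t : Fin r × Fin r × Fin r =>
        S.res n (a := a2 g (t.2.1, t.2.2)) (b := a3 g t) (dvd_a3₀ g t) ∘ₗ LinearMap.proj (t.2.1, t.2.2) -
          S.res n (a := a2 g (t.1, t.2.2)) (b := a3 g t) (dvd_a3₂ g t) ∘ₗ LinearMap.proj (t.1, t.2.2) +
          S.res n (a := a2 g (t.1, t.2.1)) (b := a3 g t) (dvd_a3₁ g t) ∘ₗ LinearMap.proj (t.1, t.2.1)
      comm := fun n x => funext fun t => by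
        show S.res n (a := a2 g (t.2.1, t.2.2)) (b := a3 g t) (dvd_a3₀ g t) (S.redL n _ (x (t.2.1, t.2.2))) -
            S.res n (a := a2 g (t.1, t.2.2)) (b := a3 g t) (dvd_a3₂ g t) (S.redL n _ (x (t.1, t.2.2))) +
            S.res n (a := a2 g (t.1, t.2.1)) (b := a3 g t) (dvd_a3₁ g t) (S.redL n _ (x (t.1, t.2.1))) =
          S.redL n (a3 g t) (S.res (n + 1) (dvd_a3₀ g t) (x (t.2.1, t.2.2)) -
            S.res (n + 1) (dvd_a3₂ g t) (x (t.1, t.2.2)) + S.res (n + 1) (dvd_a3₁ g t) (x (t.1, t.2.1)))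
        rw [map_add, map_sub, res_redL, res_redL, res_redL] }
  ed n x := funext fun t => by
    show S.res n (a := a2 g (t.2.1, t.2.2)) (b := a3 g t) (dvd_a3₀ g t)
          (S.res n (a := g t.2.2) (dvd_mul_left _ _) (x t.2.2) - S.res n (a := g t.2.1) (dvd_mul_right _ _) (x t.2.1)) -
        S.res n (a := a2 g (t.1, t.2.2)) (b := a3 g t) (dvd_a3₂ g t)
          (S.res n (a := g t.2.2) (dvd_mul_left _ _) (x t.2.2) - S.res n (a := g t.1) (dvd_mul_right _ _) (x t.1)) +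
        S.res n (a := a2 g (t.1, t.2.1)) (b := a3 g t) (dvd_a3₁ g t)
          (S.res n (a := g t.2.1) (dvd_mul_left _ _) (x t.2.1) - S.res n (a := g t.1) (dvd_mul_right _ _) (x t.1)) = 0
    simp only [map_sub, res_res]
    abel

/-- Elements as compatible sections. -/
def κ (n : ℕ) : S.M n →ₗ[A] (∀ i, S.Lm n (g i)) := LinearMap.pi fun i => S.ℓ n (g i)

theorem κ_apply (n : ℕ) (x : S.M n) (i : Fin r) : S.κ n x i = S.ℓ n (g i) x := rfl

theorem mem_N_iff {n : ℕ} {x : ∀ i, S.Lm n (g i)} : x ∈ S.cx.N n ↔ ∀ p : Fin r × Fin r,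
    S.res n (a := g p.2) (b := a2 g p) (dvd_mul_left _ _) (x p.2) =
      S.res n (a := g p.1) (b := a2 g p) (dvd_mul_right _ _) (x p.1) :=
  funext_iff.trans (forall_congr' fun _ => sub_eq_zero)

theorem κ_mem (n : ℕ) (x : S.M n) : S.κ n x ∈ S.cx.N n :=
  S.mem_N_iff.2 fun p => by simp only [κ_apply, res_ℓ]

theorem red_κ (n : ℕ) (x : S.M (n + 1)) : S.cx.C0.red n (S.κ (n + 1) x) = S.κ n (S.t n x) :=
  funext fun i => S.redL_ℓ n (g i) x

theorem exists_κ_eq {n : ℕ} {x : ∀ i, S.Lm n (g i)} (hx : x ∈ S.cx.N n) (l : Fin r) :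
    ∃ (K : ℕ) (c : S.M n), g l ^ K • x = S.κ n c := by
  obtain ⟨k, c, hc⟩ := S.exists_frac n (g l) (x l)
  have key : ∀ i, ∃ M : ℕ, g l ^ M • (g l ^ k • x i - S.ℓ n (g i) c) = 0 := fun i => by
    refine S.exists_kill_res (a := a2 g (l, i)) (b := g i) rfl (dvd_mul_left _ _) ?_
    rw [map_sub, map_smul, S.mem_N_iff.1 hx (l, i), ← map_smul, hc, res_ℓ, res_ℓ, sub_self]
  choose M hM using key
  refine ⟨Finset.univ.sup M + k, g l ^ Finset.univ.sup M • c, funext fun i => ?_⟩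
  obtain ⟨e, he⟩ := Nat.exists_eq_add_of_le (Finset.le_sup (f := M) (Finset.mem_univ i))
  show g l ^ (Finset.univ.sup M + k) • x i = S.κ n (g l ^ Finset.univ.sup M • c) i
  rw [κ_apply, map_smul, ← sub_eq_zero, pow_add, mul_smul, ← smul_sub, he, add_comm, pow_add, mul_smul, hM,
    smul_zero]

theorem exists_kill_κ {n : ℕ} {c : S.M n} (hc : S.κ n c = 0) (l : Fin r) : ∃ K : ℕ, g l ^ K • c = 0 :=
  S.exists_kill (congrFun hc l)

theorem exists_coboundary {z : ∀ p : Fin r × Fin r, S.Lm 0 (a2 g p)} (hz : S.cx.e.app 0 z = 0) (l : Fin r) :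
    ∃ K : ℕ, g l ^ K • z ∈ LinearMap.range (S.cx.d.app 0) := by
  choose K hK using fun i : Fin r =>
    S.exists_res_eq (n := 0) (u := g l) (b := g i) (a := a2 g (l, i)) rfl (dvd_mul_left _ _) (z (l, i))
  choose y hy using fun i => hK i (Finset.univ.sup K) (Finset.le_sup (f := K) (Finset.mem_univ i))
  let K₀ := Finset.univ.sup K
  have key : ∀ p : Fin r × Fin r, ∃ M : ℕ, g l ^ M • (g l ^ K₀ • z p -
      (S.res 0 (a := g p.2) (b := a2 g p) (dvd_mul_left _ _) (y p.2) -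
        S.res 0 (a := g p.1) (b := a2 g p) (dvd_mul_right _ _) (y p.1))) = 0 := fun p => by
    have hc := congrFun hz (l, p.1, p.2)
    change S.res 0 (a := a2 g (p.1, p.2)) (b := a3 g (l, p.1, p.2)) (dvd_a3₀ g (l, p.1, p.2)) (z (p.1, p.2)) -
        S.res 0 (a := a2 g (l, p.2)) (b := a3 g (l, p.1, p.2)) (dvd_a3₂ g (l, p.1, p.2)) (z (l, p.2)) +
        S.res 0 (a := a2 g (l, p.1)) (b := a3 g (l, p.1, p.2)) (dvd_a3₁ g (l, p.1, p.2)) (z (l, p.1)) = 0 at hc
    refine S.exists_kill_res (u := g l) (a := a3 g (l, p.1, p.2)) (b := a2 g p) (by simp only [a2, a3]; ring)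
      (dvd_a3₀ g (l, p.1, p.2)) ?_
    have e1 := congrArg (S.res 0 (dvd_a3₁ g (l, p.1, p.2))) (hy p.1)
    have e2 := congrArg (S.res 0 (dvd_a3₂ g (l, p.1, p.2))) (hy p.2)
    rw [res_res, map_smul] at e1
    rw [res_res, map_smul] at e2
    simp only [map_sub, map_smul, res_res]
    rw [e1, e2]
    have h3 := congrArg (g l ^ K₀ • ·) hc
    simp only [smul_add, smul_sub, smul_zero] at h3
    rw [← h3]
    abel
  choose M hM using key
  refine ⟨Finset.univ.sup M + K₀, g l ^ Finset.univ.sup M • (fun i => y i), funext fun p => ?_⟩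
  obtain ⟨e, he⟩ := Nat.exists_eq_add_of_le (Finset.le_sup (f := M) (Finset.mem_univ p))
  show S.res 0 (a := g p.2) (b := a2 g p) (dvd_mul_left _ _) (g l ^ Finset.univ.sup M • y p.2) -
      S.res 0 (a := g p.1) (b := a2 g p) (dvd_mul_right _ _) (g l ^ Finset.univ.sup M • y p.1) =
    g l ^ (Finset.univ.sup M + K₀) • z p
  symm
  rw [← sub_eq_zero, map_smul, map_smul, ← smul_sub, pow_add, mul_smul, ← smul_sub, he, add_comm, pow_add,
    mul_smul, hM, smul_zero]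

theorem exists_lift_pow (l : Fin r) (m : ℕ) (s : S.cx.C0.B m) (hs : s ∈ S.cx.N m) :
    ∃ (K : ℕ), ∃ s' ∈ S.cx.N (m + 1), S.cx.C0.red m s' = g l ^ K • s := by
  obtain ⟨z, hz⟩ := Submodule.mkQ_surjective _ (S.cx.delta m ⟨s, hs⟩)
  obtain ⟨K, hK⟩ := S.exists_coboundary z.2 l
  refine ⟨K, S.cx.exists_lift_of_delta (g l ^ K • (⟨s, hs⟩ : S.cx.N m)) ?_⟩
  rw [map_smul, ← hz, ← map_smul, Submodule.mkQ_apply, Submodule.Quotient.mk_eq_zero]
  exact hK

/-- Finiteness at level zero. -/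
theorem finite_zero [IsNoetherianRing A] {I : Ideal A} (hg : Ideal.span (Set.range g) = I) (h1 : FinH I 1 (S.M 0))
    (h2 : FinH I 2 (S.M 0)) : Module.Finite A (S.cx.N 0) ∧ Module.Finite A S.cx.H := by
  have hI : ∀ i, g i ∈ I := fun i => hg ▸ Ideal.subset_span ⟨i, rfl⟩
  refine finite_cech (g := g) hg (X := ∀ i, S.Lm 0 (g i)) (W := ∀ p : Fin r × Fin r, S.Lm 0 (a2 g p))
    (S.cx.d.app 0) S.cx.Z ?_ ?_ ?_ ?_ h1 h2 (LinearMap.codRestrict _ (S.κ 0) (S.κ_mem 0)) ?_ ?_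
  · rintro _ ⟨x, rfl⟩
    exact S.cx.ed 0 x
  · intro j
    refine subsingleton_pi (fun i => S.Lm 0 (g i)) g hI (fun i => ?_) j
    simpa using S.bij_pow 0 (g i) 1
  · refine (Submodule.eq_bot_iff _).2 fun x hx => funext fun p => ?_
    obtain ⟨n, hn⟩ := hx
    refine (S.bij_dvd 0 (dvd_mul_right (g p.1) (g p.2)) n).1 ?_
    show g p.1 ^ n • x p = g p.1 ^ n • 0
    rw [smul_zero]
    exact congrFun (hn _ (Ideal.pow_mem_pow (hI p.1) n)) p
  · exact fun z hz l => S.exists_coboundary hz l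
  · exact fun c hc l => S.exists_kill_κ (congrArg Subtype.val hc) l
  · intro x l
    obtain ⟨K, c, h⟩ := S.exists_κ_eq x.2 l
    exact ⟨K, c, Subtype.ext h.symm⟩

end MSys

end Groth.Agent.LefAlgz
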