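import Groth.Agent.LefAlgz.ModAlg
import Groth.Agent.H9FCoh.TorsRep
import Groth.Agent.H9Lef.FormalSections
import Groth.Agent.PnEuler.ExtFree
import Groth.Agent.Algz7.Algebraize
import Groth.Prelude.Def_Formal2

/-!
# From locally free formal systems on a punctured spectrum to systems of modules
-/

noncomputable section

set_option autoImplicit false
set_option linter.style.haveILetI false
set_option backward.isDefEq.respectTransparency false
set_option backward.isDefEq.respectTransparency.types false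

universe u

open CategoryTheory CategoryTheory.Limits AlgebraicGeometry Opposite TopologicalSpace

namespace Groth.Agent.LefAlgz

open Groth.Agent

section Restrict

variable {A : Type u} [CommRing A] {X : Scheme.{u}} [X.Over (Spec (CommRingCat.of A))]

theorem exists_sections_of_restrict (V : X.Opens) {G P : X.Modules}
    (i : (Scheme.Modules.restrictFunctor V.ι).obj G ≅ (Scheme.Modules.restrictFunctor V.ι).obj P)
    (W' : (V : Scheme.{u}).Opens) (W : X.Opens) (hW : V.ι ''ᵁ W' = W) :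
    ∃ ψ : Γ(G, W) →+ Γ(P, W), Function.Bijective ψ ∧
      ∀ (a : A) (z : Γ(G, W)), ψ (H9FCoh.secRing (A := A) W a • z) = H9FCoh.secRing (A := A) W a • ψ z := by
  subst hW
  letI : (V : Scheme.{u}).Over (Spec (CommRingCat.of A)) := ⟨V.ι ≫ (X ↘ Spec (CommRingCat.of A))⟩
  let R := Scheme.Modules.restrictFunctor V.ι
  haveI : IsIso (i.hom.app W') := ⟨i.inv.app W',
    by rw [← Scheme.Modules.Hom.comp_app, i.hom_inv_id]; rfl,
    by rw [← Scheme.Modules.Hom.comp_app, i.inv_hom_id]; rfl⟩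
  refine ⟨(i.hom.app W').hom, ConcreteCategory.bijective_of_isIso (i.hom.app W'), fun a z => ?_⟩
  have h := congr(($(Algz7.smulMod_naturality i.hom a)).app W' z)
  rw [← Algz7.restrict_smulMod V.ι rfl, ← Algz7.restrict_smulMod V.ι rfl] at h
  exact h

end Restrict

theorem basicOpen_sec {R : CommRingCat.{u}} (U : (Spec R).Opens) (a : R) (hle : H9FCoh.bOpen a ≤ U) :
    (∀ c : Γ((U : Scheme.{u}), U.ι ⁻¹ᵁ H9FCoh.bOpen a), ∃ (k : ℕ) (b : R),
      H9FCoh.secRing (A := R) (X := (U : Scheme.{u})) (U.ι ⁻¹ᵁ H9FCoh.bOpen a) (a ^ k) * c =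
        H9FCoh.secRing (A := R) (X := (U : Scheme.{u})) (U.ι ⁻¹ᵁ H9FCoh.bOpen a) b) ∧
    ∀ b : R, H9FCoh.secRing (A := R) (X := (U : Scheme.{u})) (U.ι ⁻¹ᵁ H9FCoh.bOpen a) b = 0 →
      ∃ k : ℕ, a ^ k * b = 0 := by
  let D : (Spec R).Opens := H9FCoh.bOpen a
  have hbij : Function.Bijective (U.ι.app D) := by
    haveI := U.ι.isIso_app D (by rwa [Scheme.Opens.opensRange_ι])
    exact ConcreteCategory.bijective_of_isIso (U.ι.app D)
  have hsec : ∀ b : R, H9FCoh.secRing (A := R) (X := (U : Scheme.{u})) (U.ι ⁻¹ᵁ D) b =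
      U.ι.app D (algebraMap R Γ(Spec R, D) b) := fun b =>
    (ConcreteCategory.congr_hom (U.ι.naturality D.leTop.op) _).symm
  haveI : IsLocalization.Away a Γ(Spec R, D) := inferInstanceAs (IsLocalization.Away a Γ(Spec R, H9FCoh.bOpen a))
  refine ⟨fun c => ?_, fun b hb => ?_⟩
  · obtain ⟨c, rfl⟩ := hbij.2 c
    obtain ⟨⟨b, ⟨_, k, rfl⟩⟩, hb⟩ := IsLocalization.surj (Submonoid.powers a) c
    exact ⟨k, b, by rw [hsec, hsec, ← map_mul, mul_comm]; exact congrArg _ hb⟩
  · rw [hsec] at hb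
    obtain ⟨⟨_, k, rfl⟩, hk⟩ := (IsLocalization.map_eq_zero_iff (Submonoid.powers a) _ b).1
      (hbij.1 (hb.trans (map_zero _).symm))
    exact ⟨k, hk⟩

variable {A : Type u} [CommRing A] [IsNoetherianRing A]

/-- A formal vector bundle, presented by modules, is free up to torsion. -/
theorem locFree_of_iso (f : A) (𝔞 : Ideal A) (n : ℕ) (M : Type u) [AddCommGroup M] [Module A M]
    (hk : ∀ x : M, f ^ (n + 1) • x = 0) (G : (↑(LocCoh.puncturedOpen A 𝔞) : Scheme.{u}).Modules)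
    (hG : Coh.IsQCoh G)
    (e : G ≅ (Scheme.Modules.restrictFunctor (LocCoh.puncturedOpen A 𝔞).ι).obj (Formal2.tmod A M))
    (hfree : Formal2.IsFinLocFreeMod (Ideal.span {f}) (n + 1) G) :
    LocFree (Ideal.span {f ^ (n + 1)}) 𝔞 M := by
  intro p hp h𝔞
  let U : (Spec (CommRingCat.of A)).Opens := LocCoh.puncturedOpen A 𝔞
  let pt : Spec (CommRingCat.of A) := ⟨p, hp⟩
  let x : (U : Scheme.{u}) := ⟨pt, h𝔞⟩
  obtain ⟨V, q, hxV, ⟨i⟩⟩ := hfree x
  obtain ⟨a, hpa, hle⟩ : ∃ a : A, a ∉ p ∧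
      (H9FCoh.bOpen (R := CommRingCat.of A) a : Set (Spec (CommRingCat.of A))) ⊆
        ((U.ι ''ᵁ V : (Spec (CommRingCat.of A)).Opens) : Set _) := by
    obtain ⟨_, ⟨a, rfl⟩, hpa, hle⟩ := PrimeSpectrum.isTopologicalBasis_basic_opens.exists_subset_of_mem_open
      (show pt ∈ ((U.ι ''ᵁ V : (Spec (CommRingCat.of A)).Opens) : Set _) from ⟨x, hxV, rfl⟩) (U.ι ''ᵁ V).isOpen
    exact ⟨a, hpa, hle⟩
  let D : (Spec (CommRingCat.of A)).Opens := H9FCoh.bOpen (R := CommRingCat.of A) a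
  have hDU : D ≤ U := fun y hy => by
    obtain ⟨z, -, rfl⟩ := hle hy
    exact z.2
  let W₁ : (U : Scheme.{u}).Opens := U.ι ⁻¹ᵁ D
  have hW₁V : W₁ ≤ V := fun y hy => by
    obtain ⟨z, hz, hzy⟩ := hle hy
    exact (show z = y from Subtype.ext hzy) ▸ hz
  have haff : IsAffineOpen W₁ := H9FCoh.isAffineOpen_preimage_basicOpen (R := CommRingCat.of A) a hDU
  let I : Ideal A := Ideal.span {f}
  let E := FlatMod.freeMod (U : Scheme.{u}) q
  have hE : Coh.IsQCoh E := PnEuler.isQCoh_free _ q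
  let Q := Formal.modPow I (n + 1) E
  have hπ := Algz7.isQuot_modPowπ I (n + 1) E
  obtain ⟨ψ, hψb, hψ⟩ := exists_sections_of_restrict (A := A) V i (V.ι ⁻¹ᵁ W₁) W₁ (by
    rw [Scheme.Hom.image_preimage_eq_opensRange_inf, Scheme.Opens.opensRange_ι]
    exact inf_eq_right.2 hW₁V)
  -- sections of the module on the basic open
  obtain ⟨χ, hχb, hχ⟩ : ∃ χ : Γ(G, W₁) →+ H9Lef.Sct A M D, Function.Bijective χ ∧
      ∀ (b : A) (z : Γ(G, W₁)), χ (H9FCoh.secRing (A := A) W₁ b • z) = b • χ z := by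
    suffices h : ∀ D' : (Spec (CommRingCat.of A)).Opens, U.ι ''ᵁ W₁ = D' →
        ∃ χ : Γ(G, W₁) →+ H9Lef.Sct A M D', Function.Bijective χ ∧
          ∀ (b : A) (z : Γ(G, W₁)), χ (H9FCoh.secRing (A := A) W₁ b • z) = b • χ z from
      h D (by rw [Scheme.Hom.image_preimage_eq_opensRange_inf, Scheme.Opens.opensRange_ι]; exact inf_eq_right.2 hDU)
    rintro _ rfl
    letI : (Spec (CommRingCat.of A)).Over (Spec (CommRingCat.of A)) := ⟨𝟙 _⟩
    haveI : IsIso (e.hom.app W₁) := ⟨e.inv.app W₁,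
      by rw [← Scheme.Modules.Hom.comp_app, e.hom_inv_id]; rfl,
      by rw [← Scheme.Modules.Hom.comp_app, e.inv_hom_id]; rfl⟩
    refine ⟨(e.hom.app W₁).hom, ConcreteCategory.bijective_of_isIso (e.hom.app W₁), fun b z => ?_⟩
    have h := congr(($(Algz7.smulMod_naturality e.hom b)).app W₁ z)
    rw [← Algz7.restrict_smulMod (A := A) U.ι (Category.comp_id _)] at h
    exact h
  -- the coordinate ring of the basic open
  obtain ⟨hfrac, hzero⟩ := basicOpen_sec (R := CommRingCat.of A) U a hDU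
  -- the surjection from the free sections
  let π := (Formal.modPowπ I (n + 1) E).app W₁
  haveI := hπ.epi
  have hπs : Function.Surjective π :=
    QCoh.app_surjective_of_epi hE (Algz7.isQCoh_modPow I (n + 1) hE) _ haff
  let B := PnEuler.stdBasis (U : Scheme.{u}) q W₁
  let eψ := AddEquiv.ofBijective ψ hψb
  let Φ : Γ(E, W₁) →+ H9Lef.Sct A M D := χ.comp (eψ.symm.toAddMonoidHom.comp π.hom)
  have hΦ : ∀ (b : A) (z : Γ(E, W₁)), Φ (H9FCoh.secRing (A := A) W₁ b • z) = b • Φ z := fun b z => by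
    show χ (eψ.symm (π (H9FCoh.secRing (A := A) W₁ b • z))) = b • χ (eψ.symm (π z))
    rw [show π (H9FCoh.secRing (A := A) W₁ b • z) = H9FCoh.secRing (A := A) W₁ b • π z from
      H9FCoh.app_secRing_smul _ W₁ b z, ← hχ]
    congr 1
    apply eψ.injective
    rw [AddEquiv.apply_symm_apply]
    exact ((hψ b _).trans (congrArg _ (eψ.apply_symm_apply _))).symm
  have hΦs : Function.Surjective Φ := fun y => by
    obtain ⟨w, rfl⟩ := hχb.2 y
    obtain ⟨z, hz⟩ := hπs (ψ w)
    exact ⟨z, congrArg χ ((eψ.symm_apply_eq).2 hz)⟩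
  have hΦk : ∀ z, Φ z = 0 → ∃ w : Γ(E, W₁), z = H9FCoh.secRing (A := A) W₁ (f ^ (n + 1)) • w := fun z hz => by
    letI := H9FCoh.secMod (A := A) E W₁
    have h0 : π z = 0 := by
      have h1 : eψ.symm (π z) = 0 := hχb.1 (hz.trans (map_zero χ).symm)
      rw [← eψ.apply_symm_apply (π z), h1, map_zero]
    have hmem := H9FCoh.ker_app_le_of_isQuot (IsNoetherian.noetherian (I ^ (n + 1))) hE
      (Algz7.isQCoh_modPow I (n + 1) hE) hπ haff z h0
    obtain ⟨w, hw⟩ := H9Lef.mem_span_pow_smul_top.1 hmem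
    exact ⟨w, hw.symm⟩
  -- generators
  haveI : IsLocalizedModule (Submonoid.powers a) (H9Lef.sec M D) := H9Lef.isLocalizedModule_sec M a
  choose m hm using fun t : Fin q => IsLocalizedModule.surj (Submonoid.powers a) (H9Lef.sec M D) (Φ (B t))
  choose k₀ hk₀ using fun t => (m t).2.2
  let k := Finset.univ.sup k₀
  let v : Fin q → M := fun t => a ^ (k - k₀ t) • (m t).1
  have hv : ∀ t, H9Lef.sec M D (v t) = a ^ k • Φ (B t) := fun t => by
    have hm' : a ^ k₀ t • Φ (B t) = H9Lef.sec M D (m t).1 := by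
      rw [← hm t, Submonoid.smul_def, ← hk₀ t]
    rw [map_smul, ← hm', smul_smul, ← pow_add, Nat.sub_add_cancel (Finset.le_sup (Finset.mem_univ t))]
  let φ : (Fin q → A ⧸ Ideal.span {f ^ (n + 1)}) →ₗ[A] M :=
    LinearMap.lsum A (fun _ : Fin q => A ⧸ Ideal.span {f ^ (n + 1)}) A fun t =>
      Submodule.liftQ _ (LinearMap.toSpanSingleton A M (v t)) (by
        rw [Ideal.span, Submodule.span_le]
        rintro _ rfl
        exact hk (v t))
  have hφ : ∀ b : Fin q → A, φ (fun t => Submodule.mkQ _ (b t)) = ∑ t, b t • v t := fun b => by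
    simp only [φ, LinearMap.lsum_apply, LinearMap.sum_apply, LinearMap.comp_apply, LinearMap.proj_apply]
    rfl
  have hsecφ : ∀ b : Fin q → A, H9Lef.sec M D (φ fun t => Submodule.mkQ _ (b t)) =
      a ^ k • Φ (∑ t, H9FCoh.secRing (A := A) W₁ (b t) • B t) := fun b => by
    rw [hφ, map_sum, map_sum, Finset.smul_sum]
    refine Finset.sum_congr rfl fun t _ => ?_
    rw [map_smul, hv, hΦ, smul_comm]
  refine ⟨a, q, φ, hpa, fun w hw => ?_, fun y => ?_⟩
  · choose b hb using fun t => Submodule.mkQ_surjective (Ideal.span {f ^ (n + 1)}) (w t)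
    obtain rfl : (fun t => Submodule.mkQ _ (b t)) = w := funext hb
    have h0 : a ^ k • Φ (∑ t, H9FCoh.secRing (A := A) W₁ (b t) • B t) = 0 := by rw [← hsecφ, hw, map_zero]
    rw [← hΦ] at h0
    obtain ⟨z, hz⟩ := hΦk _ h0
    choose l c hc using fun t => hfrac (B.repr z t)
    have key : ∀ t, ∃ K : ℕ, ∃ c : A, a ^ K * b t = f ^ (n + 1) * c := fun t => by
      have h1 := congrArg (fun x => B.repr x t) hz
      simp only [Finset.smul_sum, smul_smul, Module.Basis.repr_sum_self, map_smul, Finsupp.smul_apply,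
        smul_eq_mul] at h1
      have h2 : H9FCoh.secRing (A := A) W₁ (a ^ l t * (a ^ k * b t) - f ^ (n + 1) * c t) = 0 := by
        have hct : H9FCoh.secRing (A := A) W₁ (a ^ l t) * B.repr z t = H9FCoh.secRing (A := A) W₁ (c t) := hc t
        simp only [map_sub, map_mul]
        linear_combination (H9FCoh.secRing (A := A) W₁ (a ^ l t)) * h1 + (H9FCoh.secRing (A := A) W₁ (f ^ (n + 1))) * hct
      obtain ⟨K, hK⟩ := hzero _ h2
      refine ⟨K + (l t + k), a ^ K * c t, ?_⟩
      linear_combination hK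
    choose K c hc using key
    refine ⟨Finset.univ.sup K, funext fun t => ?_⟩
    obtain ⟨d, hd⟩ := Nat.exists_eq_add_of_le (Finset.le_sup (f := K) (Finset.mem_univ t))
    show a ^ Finset.univ.sup K • Submodule.mkQ (Ideal.span {f ^ (n + 1)}) (b t) = 0
    rw [← map_smul, Submodule.mkQ_apply, Submodule.Quotient.mk_eq_zero, Ideal.mem_span_singleton, smul_eq_mul]
    exact ⟨a ^ d * c t, by rw [hd, pow_add]; linear_combination (a ^ d) * hc t⟩
  · obtain ⟨z, hz⟩ := hΦs (H9Lef.sec M D y)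
    choose l c hc using fun t => hfrac (B.repr z t)
    let L := Finset.univ.sup l
    let b : Fin q → A := fun t => a ^ (L - l t) * c t
    have hsum : H9Lef.sec M D (φ fun t => Submodule.mkQ _ (b t)) = H9Lef.sec M D (a ^ (k + L) • y) := by
      rw [hsecφ, map_smul, ← hz, pow_add, mul_smul]
      congr 1
      rw [← hΦ]
      congr 1
      conv_rhs => rw [← B.sum_repr z]
      rw [Finset.smul_sum]
      refine Finset.sum_congr rfl fun t _ => ?_
      rw [smul_smul, map_mul, ← hc t, ← mul_assoc, ← map_mul, ← pow_add,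
        Nat.sub_add_cancel (Finset.le_sup (Finset.mem_univ t))]
    obtain ⟨⟨_, s, rfl⟩, hs⟩ := IsLocalizedModule.exists_of_eq (S := Submonoid.powers a) hsum
    refine ⟨s + (k + L), a ^ s • (fun t => Submodule.mkQ _ (b t) : Fin q → A ⧸ Ideal.span {f ^ (n + 1)}), ?_⟩
    rw [map_smul, pow_add a, mul_smul]
    exact hs

end Groth.Agent.LefAlgz
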