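import Groth.Agent.LefAlgz.GrSec
import Groth.Agent.LefAlgz.QReg
import Groth.Agent.CILift.Lift

/-!
# Lifting functionals along a normally flat ideal

A functional modulo `J` without zeros on the punctured spectrum, on a module of rank one there, lifts to a functional
without zeros when the ring is `J`-adically complete, the graded pieces are free and `A ⧸ J` has depth three.
-/

noncomputable section

set_option autoImplicit false
set_option linter.style.haveILetI false

universe u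

open IsLocalRing

namespace Groth.Agent.LefAlgz.NFLift

open Groth.Agent Groth.Agent.RamSam
open Groth.Agent.LefAlgz.GrGeom (grP)

variable {A : Type u} [CommRing A] [IsLocalRing A] [IsNoetherianRing A] {J : Ideal A}

/-- A regular sequence on the quotient, with all its powers. -/
theorem exists_reg [IsLocalRing (A ⧸ J)] (hb : (3 : ℕ∞) ≤ LocCoh.depth (A ⧸ J) (A ⧸ J)) :
    ∃ s : Fin 3 → A, (∀ i, s i ∈ maximalIdeal A) ∧
      ∀ N, 0 < N → QReg.Reg (A ⧸ J) 3 (fun i => s i ^ N) := by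
  obtain ⟨s₀, hs₀, hs₀'⟩ := CILift.exists_regular_fn (r := 3) hb
  choose s hs using fun i => Ideal.Quotient.mk_surjective (s₀ i)
  refine ⟨s, fun i hu => hs₀ i (hs i ▸ hu.map _), fun N hN => QReg.reg_of_isWeaklyRegular 3 _ ?_⟩
  refine EGA41Lib.isWeaklyRegular_pow 3 s (fun _ => N) (fun _ => hN) ?_
  rw [← RingTheory.Sequence.isWeaklyRegular_map_algebraMap_iff (A ⧸ J), List.map_ofFn,
    show (algebraMap A (A ⧸ J) ∘ s) = s₀ from funext hs]
  exact hs₀'

variable {B : Type u} [AddCommGroup B] [Module A B] {t : Fin 3 → A}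

theorem eq_zero_of_smul (ht : QReg.Reg B 3 t) {b : B} (h : t 0 • b = 0) : b = 0 := by
  have h' := ht.1.1.2 b
  rw [show Set.range ((((t ∘ Fin.castSucc) ∘ Fin.castSucc)) ∘ Fin.castSucc) = ∅ from Set.range_eq_empty _,
    Ideal.span_empty, Submodule.bot_smul, Submodule.mem_bot, Submodule.mem_bot] at h'
  exact h' h

theorem exists_two (ht : QReg.Reg B 3 t) {b₀ b₁ : B} (h : t 1 • b₀ = t 0 • b₁) :
    ∃ b, t 0 • b = b₀ ∧ t 1 • b = b₁ := by
  have h' := ht.1.2 b₀
  rw [show Set.range (((t ∘ Fin.castSucc)) ∘ Fin.castSucc) = {t 0} from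
    Set.range_unique.trans (by rfl), Submodule.ideal_span_singleton_smul] at h'
  obtain ⟨b, -, hb⟩ := (Submodule.mem_smul_pointwise_iff_exists _ _ _).1 (h'
    ((Submodule.mem_smul_pointwise_iff_exists _ _ _).2 ⟨b₁, trivial, h.symm⟩))
  refine ⟨b, hb, ?_⟩
  refine sub_eq_zero.1 (eq_zero_of_smul ht ?_)
  rw [smul_sub, smul_comm, hb, h, sub_self]

theorem exists_three (ht : QReg.Reg B 3 t) {c x y : B} (h : t 2 • c = t 0 • x + t 1 • y) :
    ∃ x' y', c = t 0 • x' + t 1 • y' := by
  have hr : Set.range (t ∘ Fin.castSucc) = Set.range ![t 0, t 1] :=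
    congrArg Set.range (funext fun i => by fin_cases i <;> rfl)
  have h' := ht.2 c
  rw [hr] at h'
  obtain ⟨w, -, hw⟩ := QReg.exists_sum_of_mem _ _ (h' (by
    rw [show t (Fin.last 2) • c = t 2 • c from rfl, h]
    exact add_mem (Submodule.smul_mem_smul (Ideal.subset_span ⟨0, rfl⟩) trivial)
      (Submodule.smul_mem_smul (Ideal.subset_span ⟨1, rfl⟩) trivial)))
  refine ⟨w 0, w 1, ?_⟩
  rw [hw, Fin.sum_univ_two]
  rfl

theorem exists_pow_mem {C : Ideal A} (hC : ∀ P : Ideal A, P.IsPrime → P ≠ maximalIdeal A → ¬ C ≤ P) {x : A}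
    (hx : x ∈ maximalIdeal A) : ∃ N, ∀ n, N ≤ n → x ^ n ∈ C := by
  have hrad : x ∈ C.radical := by
    rw [Ideal.radical_eq_sInf, Submodule.mem_sInf]
    rintro P ⟨hle, hP⟩
    by_cases h : P = maximalIdeal A
    · exact h ▸ hx
    · exact absurd hle (hC P hP h)
  obtain ⟨N, hN⟩ := hrad
  exact ⟨N, fun n hn => by
    rw [← Nat.sub_add_cancel hn, pow_add]
    exact Ideal.mul_mem_left _ _ hN⟩

theorem smul_quot_eq_zero {a : A} (ha : a ∈ J) (b : A ⧸ J) : a • b = 0 := by
  rw [Algebra.smul_def, Ideal.Quotient.algebraMap_eq, Ideal.Quotient.eq_zero_iff_mem.2 ha, zero_mul]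

variable {M : Type u} [AddCommGroup M] [Module A M] [Module.Finite A M]

/-- A local generator with a uniform denominator. -/
theorem exists_gen {P : Ideal A} [P.IsPrime] (h : RankOne M P) :
    ∃ e : M, ∃ r ∉ P, (∀ x : M, ∃ c : A, r • x = c • e) ∧ ∀ c : A, c • e = 0 → r * c = 0 := by
  classical
  obtain ⟨e, he, hann⟩ := h
  let S : Submodule A M := Submodule.span A {e}
  obtain ⟨k, g, hg⟩ := Submodule.fg_iff_exists_fin_generating_family.1 (Module.Finite.fg_top (R := A) (M := M))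
  choose r hr c hc using fun i => he (g i)
  obtain ⟨k', g', hg'⟩ := Submodule.fg_iff_exists_fin_generating_family.1
    (IsNoetherian.noetherian (LinearMap.ker (LinearMap.toSpanSingleton A M e)))
  have hg'e : ∀ j, g' j • e = 0 := fun j =>
    LinearMap.mem_ker.1 (show g' j ∈ LinearMap.ker (LinearMap.toSpanSingleton A M e) from
      hg' ▸ Submodule.subset_span ⟨j, rfl⟩)
  choose r' hr' hr0 using fun j => hann _ (hg'e j)
  refine ⟨e, (∏ i, r i) * ∏ j, r' j, ?_, fun x => ?_, fun a ha => ?_⟩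
  · intro hmem
    rcases (Ideal.IsPrime.mem_or_mem inferInstance hmem) with h | h
    · obtain ⟨i, -, hi⟩ := (Ideal.IsPrime.prod_mem_iff (p := P)).1 h
      exact hr i hi
    · obtain ⟨j, -, hj⟩ := (Ideal.IsPrime.prod_mem_iff (p := P)).1 h
      exact hr' j hj
  · have hx : x ∈ Submodule.span A (Set.range g) := hg ▸ trivial
    induction hx using Submodule.span_induction with
    | mem x hx =>
      obtain ⟨i, rfl⟩ := hx
      refine ⟨((∏ l ∈ Finset.univ.erase i, r l) * ∏ j, r' j) * c i, ?_⟩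
      rw [mul_smul _ (c i) e, ← hc i, ← mul_smul]
      congr 1
      rw [← Finset.mul_prod_erase _ _ (Finset.mem_univ i)]
      ring
    | zero => exact ⟨0, by rw [smul_zero, zero_smul]⟩
    | add x y _ _ hx hy =>
      obtain ⟨a, ha⟩ := hx
      obtain ⟨b, hb⟩ := hy
      exact ⟨a + b, by rw [smul_add, ha, hb, add_smul]⟩
    | smul a x _ hx =>
      obtain ⟨b, hb⟩ := hx
      exact ⟨a * b, by rw [smul_comm, hb, mul_smul]⟩
  · have ha' : a ∈ Submodule.span A (Set.range g') := hg'.symm ▸ (LinearMap.mem_ker.2 ha)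
    induction ha' using Submodule.span_induction with
    | mem x hx =>
      obtain ⟨j, rfl⟩ := hx
      rw [← Finset.mul_prod_erase _ r' (Finset.mem_univ j)]
      linear_combination ((∏ i, r i) * (∏ l ∈ Finset.univ.erase j, r' l)) * hr0 j
    | zero => exact mul_zero _
    | add x y hx hy ihx ihy =>
      rw [mul_add, ihx (LinearMap.mem_ker.1 (show x ∈ LinearMap.ker (LinearMap.toSpanSingleton A M e) from hg' ▸ hx)),
        ihy (LinearMap.mem_ker.1 (show y ∈ LinearMap.ker (LinearMap.toSpanSingleton A M e) from hg' ▸ hy)), add_zero]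
    | smul b x hx ih =>
      rw [smul_eq_mul, mul_left_comm,
        ih (LinearMap.mem_ker.1 (show x ∈ LinearMap.ker (LinearMap.toSpanSingleton A M e) from hg' ▸ hx)), mul_zero]

/-- A trivialisation modulo `J` on the punctured spectrum. -/
structure Good (φ : M →ₗ[A] A ⧸ J) : Prop where
  rank : ∀ P : Ideal A, P.IsPrime → P ≠ maximalIdeal A → RankOne M P
  gen : ∀ P : Ideal A, P.IsPrime → P ≠ maximalIdeal A → J ≤ P → ∃ x a, Ideal.Quotient.mk J a = φ x ∧ a ∉ P

variable {φ : M →ₗ[A] A ⧸ J}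

/-- Powers killing the kernel modulo `J` and hit by the functional. -/
theorem exists_exponent (hφ : Good φ) {x : A} (hx : x ∈ maximalIdeal A) :
    ∃ N, ∀ n, N ≤ n → (∀ y, φ y = 0 → x ^ n • y ∈ J • (⊤ : Submodule A M)) ∧
      ∃ z, φ z = Ideal.Quotient.mk J (x ^ n) := by
  obtain ⟨N₁, hN₁⟩ := exists_pow_mem (C := (J • (⊤ : Submodule A M)).colon (LinearMap.ker φ : Set M))
    (fun P hP hPm hle => by
      haveI := hP
      by_cases hJ : J ≤ P
      · obtain ⟨e, r, hr, hgen, -⟩ := exists_gen (hφ.rank P hP hPm)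
        obtain ⟨x₀, a, ha, haP⟩ := hφ.gen P hP hPm hJ
        obtain ⟨c₀, hc₀⟩ := hgen x₀
        have hmem : r * a * r ∈ (J • (⊤ : Submodule A M)).colon (LinearMap.ker φ : Set M) := by
          rw [Submodule.mem_colon]
          intro y hy
          obtain ⟨c, hc⟩ := hgen y
          have h1 : c • φ e = 0 := by rw [← map_smul, ← hc, map_smul, LinearMap.mem_ker.1 hy, smul_zero]
          have h2 : c * r * a ∈ J := by
            refine Ideal.Quotient.eq_zero_iff_mem.1 ?_
            calc Ideal.Quotient.mk J (c * r * a) = c • r • Ideal.Quotient.mk J a := by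
                  rw [map_mul, map_mul, mul_assoc]; rfl
              _ = c • φ (r • x₀) := by rw [ha, map_smul]
              _ = 0 := by rw [hc₀, map_smul, smul_comm, h1, smul_zero]
          rw [show r * a * r = (r * a) * r from rfl, mul_smul (r * a) r y, hc, ← mul_smul,
            show r * a * c = c * r * a by ring]
          exact Submodule.smul_mem_smul h2 trivial
        exact hr (((hP.mem_or_mem (hle hmem)).resolve_left fun h => (hP.mem_or_mem h).elim hr haP))
      · exact hJ fun b hb => hle (by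
          rw [Submodule.mem_colon]
          exact fun y _ => Submodule.smul_mem_smul hb trivial)) hx
  obtain ⟨N₂, hN₂⟩ := exists_pow_mem (C := (LinearMap.range φ).comap (Algebra.linearMap A (A ⧸ J)))
    (fun P hP hPm hle => by
      by_cases hJ : J ≤ P
      · obtain ⟨x₀, a, ha, haP⟩ := hφ.gen P hP hPm hJ
        exact haP (hle (Submodule.mem_comap.2 ⟨x₀, ha.symm⟩))
      · exact hJ fun b hb => hle (Submodule.mem_comap.2 ⟨0, by
          rw [map_zero]; exact (Ideal.Quotient.eq_zero_iff_mem.2 hb).symm⟩)) hx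
  refine ⟨N₁ + N₂, fun n hn => ⟨fun y hy => Submodule.mem_colon.1 (hN₁ n (by omega)) y hy, ?_⟩⟩
  obtain ⟨z, hz⟩ := Submodule.mem_comap.1 (hN₂ n (by omega))
  exact ⟨z, hz⟩

/-- The data used in the lifting. -/
structure Setup (J : Ideal A) (φ : M →ₗ[A] A ⧸ J) where
  t : Fin 3 → A
  reg : QReg.Reg (A ⧸ J) 3 t
  mem : ∀ i, t i ∈ maximalIdeal A
  kill : ∀ i y, φ y = 0 → t i • y ∈ J • (⊤ : Submodule A M)
  pre : Fin 3 → M
  hpre : ∀ i, φ (pre i) = Ideal.Quotient.mk J (t i)

theorem exists_setup [IsLocalRing (A ⧸ J)] (hb : (3 : ℕ∞) ≤ LocCoh.depth (A ⧸ J) (A ⧸ J)) (hφ : Good φ) :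
    Nonempty (Setup J φ) := by
  obtain ⟨s, hs, hreg⟩ := exists_reg hb
  choose N hN using fun i => exists_exponent hφ (hs i)
  let n := N 0 + N 1 + N 2 + 1
  have hn : ∀ i, N i ≤ n := fun i => by fin_cases i <;> simp [n] <;> omega
  choose z hz using fun i => (hN i n (hn i)).2
  exact ⟨⟨fun i => s i ^ n, hreg n (Nat.succ_pos _), fun i => Ideal.pow_mem_of_mem _ (hs i) n (Nat.succ_pos _),
    fun i => (hN i n (hn i)).1, z, hz⟩⟩

variable {F : Type u} [AddCommGroup F] [Module A F]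

set_option maxHeartbeats 800000 in
/-- Maps from the kernel of a presentation to `A ⧸ J` extend. -/
theorem exists_extend (hrank : ∀ P : Ideal A, P.IsPrime → P ≠ maximalIdeal A → RankOne M P) (S : Setup J φ)
    (p : F →ₗ[A] M) (hp : Function.Surjective p) (h : LinearMap.ker p →ₗ[A] A ⧸ J) :
    ∃ g : F →ₗ[A] A ⧸ J, ∀ k : LinearMap.ker p, g k = h k := by
  classical
  let K := LinearMap.ker p
  have hJK : ∀ z ∈ J • K, ∃ hz : z ∈ K, h ⟨z, hz⟩ = 0 := by
    intro z hz
    refine Submodule.smul_induction_on (p := fun z => ∃ hz : z ∈ K, h ⟨z, hz⟩ = 0) hz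
      (fun a ha w hw => ⟨K.smul_mem a hw, ?_⟩) fun u w hu hw => ?_
    · rw [show (⟨a • w, _⟩ : K) = a • ⟨w, hw⟩ from rfl, map_smul, smul_quot_eq_zero ha]
    · obtain ⟨hu, hu0⟩ := hu
      obtain ⟨hw, hw0⟩ := hw
      exact ⟨K.add_mem hu hw, by rw [show (⟨u + w, _⟩ : K) = ⟨u, hu⟩ + ⟨w, hw⟩ from rfl, map_add, hu0, hw0, add_zero]⟩
  have htor : ∀ k : K, (k : F) ∈ J • (⊤ : Submodule A F) → h k = 0 := by
    intro k hk
    let C : Ideal A := LinearMap.ker (LinearMap.toSpanSingleton A (A ⧸ J) (h k))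
    obtain ⟨N, hN⟩ := exists_pow_mem (C := C) (fun P hP hPm hle => by
      haveI := hP
      obtain ⟨e, r, hr, hgen, hann⟩ := exists_gen (hrank P hP hPm)
      obtain ⟨f₀, hf₀⟩ := hp e
      have key : ∀ z ∈ J • (⊤ : Submodule A F), ∃ c, r • z - c • f₀ ∈ J • K := fun z hz => by
        refine Submodule.smul_induction_on (p := fun z : F => ∃ c : A, r • z - c • f₀ ∈ J • K) hz
          (fun a ha y _ => ?_) fun u w hu hw => ?_
        · obtain ⟨c, hc⟩ := hgen (p y)
          refine ⟨a * c, ?_⟩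
          rw [smul_comm r a y, mul_smul, ← smul_sub]
          refine Submodule.smul_mem_smul ha (LinearMap.mem_ker.2 ?_)
          rw [map_sub, map_smul, map_smul, hf₀, hc, sub_self]
        · obtain ⟨c, hc⟩ := hu
          obtain ⟨c', hc'⟩ := hw
          refine ⟨c + c', ?_⟩
          rw [smul_add, add_smul, add_sub_add_comm]
          exact add_mem hc hc'
      obtain ⟨c, hc⟩ := key _ hk
      have hce : c • e = 0 := by
        have := LinearMap.mem_ker.1 (hJK _ hc).1
        rw [map_sub, map_smul, map_smul, hf₀, LinearMap.mem_ker.1 k.2, smul_zero, zero_sub, neg_eq_zero] at this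
        exact this
      have hmem : (r * r) • (k : F) ∈ J • K := by
        have := (J • K).smul_mem r hc
        rwa [smul_sub, smul_smul, smul_smul, hann c hce, zero_smul, sub_zero] at this
      have hrr : r * r ∈ C := LinearMap.mem_ker.2 (by
        obtain ⟨hz, h0⟩ := hJK _ hmem
        rw [LinearMap.toSpanSingleton_apply, ← map_smul]
        exact h0)
      exact hr ((hP.mem_or_mem (hle hrr)).elim id id)) (S.mem 0)
    have h0 := LinearMap.mem_ker.1 (hN N le_rfl)
    rw [LinearMap.toSpanSingleton_apply] at h0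
    clear hN
    induction N with
    | zero => rwa [pow_zero, one_smul] at h0
    | succ N ih =>
      rw [pow_succ', mul_smul] at h0
      exact ih (eq_zero_of_smul S.reg h0)
  let Val : F → (A ⧸ J) → Prop := fun z b => ∃ k : K, z - k ∈ J • (⊤ : Submodule A F) ∧ h k = b
  have vfun : ∀ {z b b'}, Val z b → Val z b' → b = b' := by
    rintro z b b' ⟨k, hk, rfl⟩ ⟨k', hk', rfl⟩
    rw [← sub_eq_zero, ← map_sub]
    refine htor _ ?_
    rw [Submodule.coe_sub, ← sub_sub_sub_cancel_left (k' : F) (k : F) z]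
    exact sub_mem hk' hk
  have vadd : ∀ {z z' b b'}, Val z b → Val z' b' → Val (z + z') (b + b') := by
    rintro z z' b b' ⟨k, hk, rfl⟩ ⟨k', hk', rfl⟩
    refine ⟨k + k', ?_, map_add h k k'⟩
    rw [Submodule.coe_add, add_sub_add_comm]
    exact add_mem hk hk'
  have vsmul : ∀ {z b} (a : A), Val z b → Val (a • z) (a • b) := by
    rintro z b a ⟨k, hk, rfl⟩
    exact ⟨a • k, by rw [Submodule.coe_smul, ← smul_sub]; exact Submodule.smul_mem _ a hk, map_smul h a k⟩
  have hval : ∀ i z, φ (p z) = 0 → ∃ b, Val (S.t i • z) b := fun i z hz => by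
    have hk := S.kill i _ hz
    rw [← map_smul, show (⊤ : Submodule A M) = Submodule.map p ⊤ by
      rw [Submodule.map_top, LinearMap.range_eq_top.2 hp], ← Submodule.map_smul''] at hk
    obtain ⟨y, hy, hyz⟩ := hk
    refine ⟨h ⟨S.t i • z - y, LinearMap.mem_ker.2 (by rw [map_sub, hyz, sub_self])⟩, _, ?_, rfl⟩
    rw [sub_sub_cancel]
    exact hy
  let W := LinearMap.ker (φ ∘ₗ p)
  have hex : ∀ z : W, ∃ b, Val (S.t 0 • (z : F)) (S.t 0 • b) ∧ Val (S.t 1 • (z : F)) (S.t 1 • b) := fun z => by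
    obtain ⟨b₀, hb₀⟩ := hval 0 z (LinearMap.mem_ker.1 z.2)
    obtain ⟨b₁, hb₁⟩ := hval 1 z (LinearMap.mem_ker.1 z.2)
    obtain ⟨b, h0, h1⟩ := exists_two S.reg (vfun (vsmul (S.t 1) hb₀) (by
      rw [smul_comm]
      exact vsmul (S.t 0) hb₁))
    exact ⟨b, h0.symm ▸ hb₀, h1.symm ▸ hb₁⟩
  choose ω hω₀ hω₁ using hex
  have hωu : ∀ (z : W) b, Val (S.t 0 • (z : F)) (S.t 0 • b) → ω z = b := fun z b hb =>
    sub_eq_zero.1 (eq_zero_of_smul S.reg (by rw [smul_sub, vfun (hω₀ z) hb, sub_self]))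
  let ωl : W →ₗ[A] A ⧸ J :=
    { toFun := ω
      map_add' := fun z w => hωu _ _ (by
        rw [Submodule.coe_add, smul_add, smul_add]
        exact vadd (hω₀ z) (hω₀ w))
      map_smul' := fun a z => hωu _ _ (by
        rw [Submodule.coe_smul, RingHom.id_apply, smul_comm, smul_comm (S.t 0) a (ω z)]
        exact vsmul a (hω₀ z)) }
  have hω_top : ∀ z : W, (z : F) ∈ J • (⊤ : Submodule A F) → ωl z = 0 := fun z hz =>
    hωu _ _ ⟨0, by rw [Submodule.coe_zero, sub_zero]; exact Submodule.smul_mem _ _ hz, by rw [map_zero, smul_zero]⟩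
  have hω_K : ∀ k : K, ∀ hk : (k : F) ∈ W, ωl ⟨k, hk⟩ = h k := fun k hk =>
    hωu _ _ ⟨S.t 0 • k, by rw [Submodule.coe_smul, sub_self]; exact zero_mem _, map_smul h _ _⟩
  choose f hf using fun i => hp (S.pre i)
  have hmemW : ∀ (i : Fin 3) (v : A) (z : F), Ideal.Quotient.mk J v = φ (p z) → S.t i • z - v • f i ∈ W :=
    fun i v z hv => LinearMap.mem_ker.2 (by
      rw [LinearMap.comp_apply, map_sub, map_sub, map_smul, map_smul, map_smul, map_smul, hf, S.hpre, ← hv]
      simp only [Algebra.smul_def, Ideal.Quotient.algebraMap_eq, mul_comm, sub_self])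
  have hc : ∀ i j, S.t i • f j - S.t j • f i ∈ W := fun i j => hmemW i _ _ (by rw [hf, S.hpre])
  let c : Fin 3 → Fin 3 → A ⧸ J := fun i j => ωl ⟨_, hc i j⟩
  obtain ⟨x, y, hxy⟩ := exists_three S.reg (c := c 0 1) (x := c 2 1) (y := c 0 2) (by
    simp only [c, ← map_smul, ← map_add]
    congr 1
    refine Subtype.ext ?_
    simp only [Submodule.coe_add, Submodule.coe_smul]
    module)
  let β : Fin 3 → A ⧸ J := ![-y, x, 0]
  have hβ : c 0 1 = S.t 0 • β 1 - S.t 1 • β 0 := by
    rw [hxy]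
    show _ = S.t 0 • x - S.t 1 • (-y)
    rw [smul_neg, sub_neg_eq_add]
  choose v hv using fun z : F => Ideal.Quotient.mk_surjective (φ (p z))
  have hg : ∀ z : F, ∃ b, S.t 0 • b = ωl ⟨_, hmemW 0 _ z (hv z)⟩ + v z • β 0 ∧
      S.t 1 • b = ωl ⟨_, hmemW 1 _ z (hv z)⟩ + v z • β 1 := fun z => by
    refine exists_two S.reg ?_
    have : v z • c 0 1 = S.t 1 • ωl ⟨_, hmemW 0 _ z (hv z)⟩ - S.t 0 • ωl ⟨_, hmemW 1 _ z (hv z)⟩ := by
      simp only [c, ← map_smul, ← map_sub]
      congr 1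
      refine Subtype.ext ?_
      simp only [Submodule.coe_sub, Submodule.coe_smul]
      module
    rw [hβ] at this
    linear_combination (norm := module) -this
  choose g hg₀ hg₁ using hg
  have hgu : ∀ (z : F) (w : A) (hw : Ideal.Quotient.mk J w = φ (p z)) (b : A ⧸ J),
      S.t 0 • b = ωl ⟨_, hmemW 0 w z hw⟩ + w • β 0 → g z = b := fun z w hw b hb => by
    refine sub_eq_zero.1 (eq_zero_of_smul S.reg ?_)
    have hd : v z - w ∈ J := Ideal.Quotient.eq.1 ((hv z).trans hw.symm)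
    have h1 := hω_top (⟨_, hmemW 0 _ z (hv z)⟩ - ⟨_, hmemW 0 w z hw⟩) (by
      show (S.t 0 • z - v z • f 0) - (S.t 0 • z - w • f 0) ∈ _
      rw [sub_sub_sub_cancel_left, ← neg_sub, ← sub_smul]
      exact neg_mem (Submodule.smul_mem_smul hd trivial))
    rw [map_sub] at h1
    have h2 := smul_quot_eq_zero (J := J) hd (β 0)
    rw [smul_sub, hg₀, hb, sub_eq_zero.1 h1, add_sub_add_left_eq_sub, ← sub_smul, h2]
  let gl : F →ₗ[A] A ⧸ J :=
    { toFun := g
      map_add' := fun z w => hgu _ (v z + v w) (by rw [map_add, map_add, map_add, hv, hv]) _ (by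
        rw [smul_add, hg₀, hg₀, add_add_add_comm, ← map_add]
        refine congrArg₂ (· + ·) (congrArg ωl (Subtype.ext ?_)) (add_smul _ _ _).symm
        simp only [Submodule.coe_add]
        module)
      map_smul' := fun a z => hgu _ (a * v z) (by
        rw [map_mul, hv, map_smul, map_smul, Algebra.smul_def]; rfl) _ (by
        rw [RingHom.id_apply, smul_comm, hg₀, smul_add, ← map_smul]
        refine congrArg₂ (· + ·) (congrArg ωl (Subtype.ext ?_)) (mul_smul _ _ _).symm
        simp only [Submodule.coe_smul]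
        module) }
  refine ⟨gl, fun k => hgu _ 0 (by rw [map_zero, LinearMap.mem_ker.1 k.2, map_zero]) _ ?_⟩
  rw [← map_smul, ← hω_K (S.t 0 • k) (by
    rw [LinearMap.mem_ker, LinearMap.comp_apply, LinearMap.mem_ker.1 (S.t 0 • k).2, map_zero])]
  refine Eq.trans (congrArg ωl (Subtype.ext ?_)) (by simp only [zero_smul, add_zero]; rfl)
  simp

variable [IsLocalRing (A ⧸ J)]

/-- One step of lifting. -/
theorem exists_next (hb : (3 : ℕ∞) ≤ LocCoh.depth (A ⧸ J) (A ⧸ J))
    (hfree : ∀ n, Module.Free (A ⧸ J) (grP J n)) (hφ : Good φ) (n : ℕ) (ψ : M →ₗ[A] A ⧸ J ^ (n + 1)) :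
    ∃ ψ' : M →ₗ[A] A ⧸ J ^ (n + 1 + 1),
      (Submodule.mapQ (J ^ (n + 1 + 1) : Ideal A) (J ^ (n + 1) : Ideal A) LinearMap.id
        (Ideal.pow_le_pow_right (Nat.le_succ _))) ∘ₗ ψ' = ψ := by
  classical
  obtain ⟨S⟩ := exists_setup hb hφ
  obtain ⟨k, p, hp⟩ := Module.Finite.exists_fin' A M
  let q : (A ⧸ J ^ (n + 1 + 1)) →ₗ[A] A ⧸ J ^ (n + 1) := Submodule.mapQ (J ^ (n + 1 + 1) : Ideal A)
    (J ^ (n + 1) : Ideal A) LinearMap.id (Ideal.pow_le_pow_right (Nat.le_succ _))
  have hq : Function.Surjective q := fun y => by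
    obtain ⟨a, rfl⟩ := Submodule.Quotient.mk_surjective _ y
    exact ⟨Submodule.Quotient.mk a, rfl⟩
  obtain ⟨Φ, hΦ⟩ := Module.projective_lifting_property q (ψ ∘ₗ p) hq
  have hmemr : ∀ z : LinearMap.ker p, Φ z ∈ LinearMap.range (grι J (n + 1)) := fun z => by
    obtain ⟨a, ha⟩ := Submodule.Quotient.mk_surjective _ (Φ z)
    have h0 : q (Φ z) = 0 := by
      rw [← LinearMap.comp_apply, hΦ, LinearMap.comp_apply, LinearMap.mem_ker.1 z.2, map_zero]
    rw [← ha] at h0
    exact ⟨Submodule.Quotient.mk ⟨a, (Submodule.Quotient.mk_eq_zero _).1 h0⟩, ha⟩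
  let h : LinearMap.ker p →ₗ[A] grP J (n + 1) :=
    (LinearEquiv.ofInjective (grι J (n + 1)) (grι_injective J (n + 1))).symm.toLinearMap ∘ₗ
      (Φ ∘ₗ (LinearMap.ker p).subtype).codRestrict _ hmemr
  have hh : ∀ z, grι J (n + 1) (h z) = Φ z := fun z =>
    congrArg Subtype.val ((LinearEquiv.ofInjective (grι J (n + 1)) (grι_injective J (n + 1))).apply_symm_apply _)
  haveI := hfree (n + 1)
  haveI : Module.Finite A ↥(J ^ (n + 1)) := Module.Finite.iff_fg.2 (IsNoetherian.noetherian _)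
  haveI : Module.Finite (A ⧸ J) (grP J (n + 1)) := Module.Finite.of_restrictScalars_finite A _ _
  let b := Module.Free.chooseBasis (A ⧸ J) (grP J (n + 1))
  let e : grP J (n + 1) ≃ₗ[A] _ := b.equivFun.restrictScalars A
  choose g hg using fun i => exists_extend hφ.rank S p hp (LinearMap.proj i ∘ₗ e.toLinearMap ∘ₗ h)
  let G : (Fin k → A) →ₗ[A] grP J (n + 1) := e.symm.toLinearMap ∘ₗ LinearMap.pi g
  have hG : ∀ z : LinearMap.ker p, G z = h z := fun z => by
    refine e.injective ?_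
    rw [LinearMap.comp_apply, LinearEquiv.coe_coe, LinearEquiv.apply_symm_apply]
    funext i
    exact hg i z
  let Φ' := Φ - grι J (n + 1) ∘ₗ G
  have hΦ' : LinearMap.ker p ≤ LinearMap.ker Φ' := fun z hz => by
    rw [LinearMap.mem_ker, LinearMap.sub_apply, LinearMap.comp_apply, hG ⟨z, hz⟩, hh, sub_self]
  refine ⟨(LinearMap.ker p).liftQ Φ' hΦ' ∘ₗ (p.quotKerEquivOfSurjective hp).symm.toLinearMap,
    LinearMap.ext fun x => ?_⟩
  obtain ⟨z, rfl⟩ := hp x
  have hz : (p.quotKerEquivOfSurjective hp).symm (p z) = Submodule.Quotient.mk z :=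
    (LinearEquiv.symm_apply_eq _).2 rfl
  rw [LinearMap.comp_apply, LinearMap.comp_apply, LinearEquiv.coe_coe, hz, Submodule.liftQ_apply,
    LinearMap.sub_apply, map_sub, LinearMap.comp_apply]
  obtain ⟨w, hw⟩ := Submodule.Quotient.mk_surjective _ (G z)
  show q (Φ z) - q (grι J (n + 1) (G z)) = _
  rw [← hw, show q (grι J (n + 1) (Submodule.Quotient.mk w)) = 0 from (Submodule.Quotient.mk_eq_zero _).2 w.2,
    sub_zero, ← LinearMap.comp_apply, hΦ, LinearMap.comp_apply]

variable [IsAdicComplete J A]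

/-- A functional modulo `J` lifts. -/
theorem exists_lift (hb : (3 : ℕ∞) ≤ LocCoh.depth (A ⧸ J) (A ⧸ J))
    (hfree : ∀ n, Module.Free (A ⧸ J) (grP J n)) (hφ : Good φ) :
    ∃ ψ : M →ₗ[A] A, ∀ x, Ideal.Quotient.mk J (ψ x) = φ x := by
  choose next hnext using exists_next hb hfree hφ
  let e₀ : (A ⧸ J) →ₗ[A] A ⧸ J ^ (0 + 1) := Submodule.mapQ (J : Ideal A) (J ^ (0 + 1) : Ideal A) LinearMap.id
    (by rw [zero_add, pow_one]; exact fun x hx => hx)
  let Ψ : ∀ n, M →ₗ[A] A ⧸ J ^ (n + 1) := Nat.rec (e₀ ∘ₗ φ) next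
  choose r hr using fun n x => Submodule.Quotient.mk_surjective _ (Ψ n x)
  have hcompat : ∀ n x, r (n + 1) x - r n x ∈ J ^ (n + 1) := fun n x => by
    refine (Submodule.Quotient.eq (J ^ (n + 1) : Ideal A)).1 ?_
    have e := LinearMap.congr_fun (hnext n (Ψ n)) x
    rw [LinearMap.comp_apply, show next n (Ψ n) = Ψ (n + 1) from rfl, ← hr] at e
    exact (congrArg (Submodule.mapQ (J ^ (n + 1 + 1) : Ideal A) (J ^ (n + 1) : Ideal A) LinearMap.id
      (Ideal.pow_le_pow_right (Nat.le_succ _))) (hr (n + 1) x)).trans e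
  have hmono : ∀ x {a b : ℕ}, a ≤ b → r a x - r b x ∈ J ^ (a + 1) := fun x {a b} hab => by
    induction b, hab using Nat.le_induction with
    | base => rw [sub_self]; exact zero_mem _
    | succ b hab ih =>
      rw [← sub_add_sub_cancel (r a x) (r b x) (r (b + 1) x)]
      refine add_mem ih ?_
      rw [← neg_sub]
      exact neg_mem (Ideal.pow_le_pow_right (Nat.succ_le_succ hab) (hcompat b x))
  have hlim : ∀ x, ∃ L : A, ∀ n, r n x - L ∈ J ^ (n + 1) := fun x => by
    let s : ℕ → A := fun n => Nat.rec (motive := fun _ => A) 0 (fun k _ => r k x) n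
    obtain ⟨L, hL⟩ := IsPrecomplete.prec (I := J) (inferInstance : IsPrecomplete J A) (f := s) fun {a b} hab => by
      rw [SModEq.sub_mem, smul_eq_mul, Ideal.mul_top]
      cases a with
      | zero => rw [pow_zero, Ideal.one_eq_top]; trivial
      | succ a =>
        cases b with
        | zero => omega
        | succ b => exact hmono x (Nat.le_of_succ_le_succ hab)
    refine ⟨L, fun n => ?_⟩
    have := SModEq.sub_mem.1 (hL (n + 1))
    rwa [smul_eq_mul, Ideal.mul_top] at this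
  choose L hL using hlim
  have huniq : ∀ x L', (∀ n, r n x - L' ∈ J ^ (n + 1)) → L x = L' := fun x L' h => by
    refine sub_eq_zero.1 (IsHausdorff.haus (I := J) inferInstance _ fun n => ?_)
    rw [SModEq.zero, smul_eq_mul, Ideal.mul_top]
    refine Ideal.pow_le_pow_right (Nat.le_succ n) ?_
    rw [← sub_sub_sub_cancel_left L' (L x) (r n x)]
    exact sub_mem (h n) (hL x n)
  refine ⟨{ toFun := L, map_add' := fun x y => huniq _ _ fun n => ?_, map_smul' := fun a x => huniq _ _ fun n => ?_ },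
    fun x => ?_⟩
  · rw [← Submodule.Quotient.eq (J ^ (n + 1) : Ideal A), hr, map_add, Submodule.Quotient.mk_add, ← hr n x, ← hr n y,
      (Submodule.Quotient.eq _).2 (hL x n), (Submodule.Quotient.eq _).2 (hL y n)]
  · rw [← Submodule.Quotient.eq (J ^ (n + 1) : Ideal A), hr, map_smul, RingHom.id_apply, smul_eq_mul, ← hr n x,
      (Submodule.Quotient.eq _).2 (hL x n), ← Submodule.Quotient.mk_smul, smul_eq_mul]
  · show Ideal.Quotient.mk J (L x) = φ x
    obtain ⟨a, ha⟩ := Ideal.Quotient.mk_surjective (φ x)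
    rw [← ha, Ideal.Quotient.eq]
    have h0 : Submodule.Quotient.mk (r 0 x) = e₀ (φ x) := hr 0 x
    rw [← ha] at h0
    have h1 := (Submodule.Quotient.eq _).1 h0
    rw [zero_add, pow_one] at h1
    have h2 := hL x 0
    rw [zero_add, pow_one] at h2
    rw [← sub_sub_sub_cancel_left a (L x) (r 0 x)]
    exact sub_mem h1 h2

/-- A functional without zeros on the punctured spectrum. -/
theorem exists_nowhere_zero (hb : (3 : ℕ∞) ≤ LocCoh.depth (A ⧸ J) (A ⧸ J))
    (hfree : ∀ n, Module.Free (A ⧸ J) (grP J n)) (hφ : Good φ) :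
    ∃ ψ : M →ₗ[A] A, ∀ P : Ideal A, P.IsPrime → P ≠ maximalIdeal A → ∃ x, ψ x ∉ P := by
  obtain ⟨S⟩ := exists_setup hb hφ
  obtain ⟨ψ, hψ⟩ := exists_lift hb hfree hφ
  have hχJ : ∀ (χ : M →ₗ[A] A) y, φ y = 0 → Ideal.Quotient.mk J (χ y) = 0 := fun χ y hy => by
    refine eq_zero_of_smul S.reg ?_
    rw [Algebra.smul_def, Ideal.Quotient.algebraMap_eq, ← map_mul, Ideal.Quotient.eq_zero_iff_mem]
    have h := Submodule.mem_map_of_mem (f := χ) (S.kill 0 y hy)
    rw [Submodule.map_smul'', map_smul, smul_eq_mul] at h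
    exact (Submodule.smul_le.2 fun a ha b _ => Ideal.mul_mem_right b J ha) h
  have hcompat : ∀ (χ : M →ₗ[A] A) (x : M) (a : A), Ideal.Quotient.mk J a = φ x → ∀ i,
      Ideal.Quotient.mk J (S.t i * χ x) = Ideal.Quotient.mk J (a * χ (S.pre i)) := fun χ x a ha i => by
    have h := hχJ χ (S.t i • x - a • S.pre i) (by
      rw [map_sub, map_smul, map_smul, S.hpre, ← ha]
      simp only [Algebra.smul_def, Ideal.Quotient.algebraMap_eq, mul_comm, sub_self])
    rwa [map_sub, map_smul, map_smul, map_sub, sub_eq_zero, smul_eq_mul, smul_eq_mul] at h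
  have hex : ∀ χ : M →ₗ[A] A, ∃ b : A ⧸ J, S.t 0 • b = Ideal.Quotient.mk J (χ (S.pre 0)) ∧
      S.t 1 • b = Ideal.Quotient.mk J (χ (S.pre 1)) := fun χ => by
    refine exists_two S.reg ?_
    have h := hcompat χ (S.pre 0) (S.t 0) (S.hpre 0).symm 1
    rw [map_mul, map_mul] at h
    rw [Algebra.smul_def, Algebra.smul_def]
    exact h
  choose β hβ₀ hβ₁ using hex
  have hu : ∀ χ b, S.t 0 • b = Ideal.Quotient.mk J (χ (S.pre 0)) → β χ = b := fun χ b hb =>
    sub_eq_zero.1 (eq_zero_of_smul S.reg (by rw [smul_sub, hβ₀, hb, sub_self]))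
  let φ' : (M →ₗ[A] A) →ₗ[A] A ⧸ J :=
    { toFun := β
      map_add' := fun χ χ' => hu _ _ (by rw [smul_add, hβ₀, hβ₀, LinearMap.add_apply, map_add])
      map_smul' := fun a χ => hu _ _ (by
        rw [RingHom.id_apply, smul_comm, hβ₀, LinearMap.smul_apply, smul_eq_mul, map_mul]
        rfl) }
  have hdual : ∀ (P : Ideal A) [P.IsPrime], P ≠ maximalIdeal A → ∃ (e : M) (r : A) (χ₀ : M →ₗ[A] A),
      r ∉ P ∧ χ₀ e = r * r ∧ ∀ χ : M →ₗ[A] A, (r * r) • χ = χ e • χ₀ := fun P _ hPm => by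
    obtain ⟨e, r, hr, hgen, hann⟩ := exists_gen (hφ.rank P inferInstance hPm)
    choose c hc using hgen
    have hcu : ∀ x a, r • x = a • e → r * c x = r * a := fun x a ha => by
      rw [← sub_eq_zero, ← mul_sub]
      exact hann _ (by rw [sub_smul, ← hc x, ← ha, sub_self])
    let χ₀ : M →ₗ[A] A :=
      { toFun := fun x => r * c x
        map_add' := fun x y => by
          rw [← mul_add]
          exact hcu _ _ (by rw [smul_add, hc, hc, add_smul])
        map_smul' := fun a x => by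
          rw [RingHom.id_apply, smul_eq_mul, mul_left_comm]
          exact hcu _ _ (by rw [smul_comm, hc, mul_smul]) }
    refine ⟨e, r, χ₀, hr, hcu e r rfl, fun χ => LinearMap.ext fun x => ?_⟩
    show (r * r) * χ x = χ e * (r * c x)
    have h1 : r * χ x = c x * χ e := by rw [← smul_eq_mul, ← map_smul, hc, map_smul, smul_eq_mul]
    linear_combination r * h1
  haveI : Module.Finite A (M →ₗ[A] A) := inferInstance
  have hφ' : Good φ' := by
    refine ⟨fun P hP hPm => ?_, fun P hP hPm hJP => ?_⟩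
    · haveI := hP
      obtain ⟨e, r, χ₀, hr, he, hχ⟩ := hdual P hPm
      refine ⟨χ₀, fun χ => ⟨r * r, fun h => hr ((hP.mem_or_mem h).elim id id), χ e, hχ χ⟩, fun b hb => ?_⟩
      refine ⟨r * r, fun h => hr ((hP.mem_or_mem h).elim id id), ?_⟩
      have := LinearMap.congr_fun hb e
      rw [LinearMap.smul_apply, he, smul_eq_mul, LinearMap.zero_apply] at this
      rwa [mul_comm]
    · haveI := hP
      obtain ⟨e, r, χ₀, hr, he, hχ⟩ := hdual P hPm
      obtain ⟨a, ha⟩ := Ideal.Quotient.mk_surjective (φ e)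
      obtain ⟨b, hb⟩ := Ideal.Quotient.mk_surjective (φ' χ₀)
      refine ⟨χ₀, b, hb, fun hbP => hr ((hP.mem_or_mem ?_).elim id id)⟩
      have h0 : Ideal.Quotient.mk J (r * r) = Ideal.Quotient.mk J (a * b) := by
        refine sub_eq_zero.1 (eq_zero_of_smul S.reg ?_)
        have h1 := hcompat χ₀ e a ha 0
        rw [he] at h1
        rw [map_mul] at h1
        rw [smul_sub, Algebra.smul_def, Algebra.smul_def, Ideal.Quotient.algebraMap_eq, h1, map_mul, map_mul,
          mul_left_comm (Ideal.Quotient.mk J (S.t 0)), hb, sub_eq_zero]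
        congr 1
        exact (Algebra.smul_def (S.t 0) (β χ₀)).symm.trans (hβ₀ χ₀) |>.symm
      have h2 := hJP (Ideal.Quotient.eq.1 h0)
      rw [← sub_add_cancel (r * r) (a * b)]
      exact add_mem h2 (P.mul_mem_left a hbP)
  obtain ⟨ψ', hψ'⟩ := exists_lift hb hfree hφ'
  have ha1 : Ideal.Quotient.mk J (ψ' ψ) = 1 := by
    rw [hψ']
    refine hu ψ 1 ?_
    rw [hψ, S.hpre]
    exact (Algebra.smul_def _ _).trans (mul_one _)
  refine ⟨ψ, fun P hP hPm => ?_⟩
  haveI := hP
  by_contra hall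
  push Not at hall
  obtain ⟨e, r, χ₀, hr, he, hχ⟩ := hdual P hPm
  have h := congrArg ψ' (hχ ψ)
  rw [map_smul, map_smul, smul_eq_mul, smul_eq_mul] at h
  have hu1 : IsUnit (ψ' ψ) := by
    by_contra hnu
    have hJm : J ≤ maximalIdeal A := le_maximalIdeal fun h => by
      haveI : Subsingleton (A ⧸ J) := Ideal.Quotient.subsingleton_iff.2 h
      exact false_of_nontrivial_of_subsingleton (A ⧸ J)
    have h2 := hJm (Ideal.Quotient.eq.1 (ha1.trans (map_one _).symm))
    have h3 : (1 : A) ∈ maximalIdeal A := by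
      rw [← sub_sub_cancel (ψ' ψ) 1]
      exact sub_mem hnu h2
    exact h3 isUnit_one
  refine hr ((hP.mem_or_mem (?_ : r * r ∈ P)).elim id id)
  refine (hP.mem_or_mem (show r * r * ψ' ψ ∈ P from h ▸ P.mul_mem_right _ (hall e))).resolve_right fun hm => ?_
  exact hP.ne_top (Ideal.eq_top_of_isUnit_mem _ hm hu1)

end Groth.Agent.LefAlgz.NFLift
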