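import Groth.Agent.LefAlgz.NFLift
import Groth.Agent.LefAlgz.GrLef
import Groth.Agent.LefAlgz.ModLocal
import Groth.Agent.CILift.InjMain
import Groth.Agent.LefFEt.FromHom
import Groth.Agent.LC.PuncturedConn

/-!
# Picard groups and coverings along a normally flat closed subscheme of a punctured spectrum
-/

set_option autoImplicit false
set_option linter.style.haveILetI false
set_option backward.isDefEq.respectTransparency false
set_option backward.isDefEq.respectTransparency.types false

universe u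

open CategoryTheory CategoryTheory.Limits AlgebraicGeometry TopologicalSpace Opposite

namespace Groth.Agent.LefAlgz.NFLift

open Groth.Agent Groth.Agent.RamSam Groth.Agent.CILift
open Groth.Agent.LefAlgz.GrGeom (grP)

noncomputable section

set_option maxHeartbeats 800000 in
/-- A module trivial on the closed subscheme gives a functional to the quotient without zeros there. -/
theorem functional_of_trivial_pullback_ideal (A : Type u) [CommRing A] [IsLocalRing A] [IsNoetherianRing A] (J : Ideal A)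
    [IsLocalRing (A ⧸ J)]
    (hd : (2 : ℕ∞) ≤ LocCoh.depth (A ⧸ J) (A ⧸ J))
    {L : (FEt.puncturedSpec A : Scheme.{u}).Modules} {E : (Spec (CommRingCat.of A)).Modules} (hEq : Coh.IsQCoh E)
    (eE : E.restrict (FEt.puncturedSpec A).ι ≅ L)
    (htriv : Nonempty ((Scheme.Modules.pullback
      (((Spec.map (CommRingCat.ofHom (Ideal.Quotient.mk (J)))).ker.comap
        (FEt.puncturedSpec A).ι)).subschemeι).obj L ≅
      Coh.structureModule ((Spec.map (CommRingCat.ofHom (Ideal.Quotient.mk (J)))).ker.comap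
        (FEt.puncturedSpec A).ι).subscheme)) :
    ∃ φ₀ : (moduleSpecΓFunctor (R := CommRingCat.of A)).obj E →ₗ[A] A ⧸ J,
      ∀ P : Ideal A, P.IsPrime → P ≠ IsLocalRing.maximalIdeal A → J ≤ P →
        ∃ x a, Ideal.Quotient.mk (J) a = φ₀ x ∧ a ∉ P := by
  let R := CommRingCat.of A
  let I := J
  let S := CommRingCat.of (A ⧸ I)
  let g : R ⟶ S := CommRingCat.ofHom (Ideal.Quotient.mk I)
  let f := Spec.map g
  let U := FEt.puncturedSpec A
  let V := f ⁻¹ᵁ U
  let M := (moduleSpecΓFunctor (R := R)).obj E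
  haveI : IsIso (Scheme.Modules.fromTildeΓ (R := R) E) :=
    (isQuasicoherent_iff_isIso_fromTildeΓ (R := R) E).1 hEq
  obtain ⟨tr⟩ := htriv
  obtain ⟨e, he⟩ := exists_puncturedIso A I
  obtain ⟨tO⟩ := Groth.Agent.PicClLib.nonempty_pullback_structureModule e.hom
  let N : ModuleCat.{u} S := (ModuleCat.extendScalars.{u, u, u} g.hom).obj M
  let i₁ : (tilde (R := S) N).restrict V.ι ≅ Coh.structureModule (V : Scheme.{u}) :=
    (Scheme.Modules.restrictFunctor V.ι).mapIso
      (((QCoh.tildePullbackIso g).app M).symm ≪≫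
        (Scheme.Modules.pullback f).mapIso (asIso (Scheme.Modules.fromTildeΓ (R := R) E))) ≪≫
    (Scheme.Modules.restrictFunctorIsoPullback V.ι).app _ ≪≫
    (Scheme.Modules.pullbackComp V.ι f).app E ≪≫
    (Scheme.Modules.pullbackCongr (morphismRestrict_ι f U).symm).app E ≪≫
    ((Scheme.Modules.pullbackComp (f ∣_ U) U.ι).app E).symm ≪≫
    (Scheme.Modules.pullback (f ∣_ U)).mapIso
      (((Scheme.Modules.restrictFunctorIsoPullback U.ι).app E).symm ≪≫ eE) ≪≫
    (Scheme.Modules.pullbackCongr he.symm).app L ≪≫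
    ((Scheme.Modules.pullbackComp e.hom _).app L).symm ≪≫
    (Scheme.Modules.pullback e.hom).mapIso tr ≪≫ tO
  obtain ⟨ψ, hψ⟩ := functional_of_trivial (A ⧸ I) hd V (preimage_punctured A I) N ⟨i₁⟩
  let η : M ⟶ (ModuleCat.restrictScalars.{u} g.hom).obj N :=
    (ModuleCat.extendRestrictScalarsAdj.{u, u, u} g.hom).unit.app M
  let φ₀ : M →ₗ[A] A ⧸ I :=
    { toFun := fun x => ψ (η x : N)
      map_add' := fun x y => by rw [map_add η.hom]; exact map_add ψ _ _
      map_smul' := fun a x => by
        rw [η.hom.map_smul]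
        show ψ (Ideal.Quotient.mk I a • (η x : N)) = _
        rw [map_smul, RingHom.id_apply, smul_eq_mul, Algebra.smul_def]
        rfl }
  refine ⟨φ₀, fun P hP hPm hJP => ?_⟩
  haveI := hP
  have hIP : RingHom.ker (Ideal.Quotient.mk I) ≤ P := by
    rw [Ideal.mk_ker]; exact hJP
  haveI : (P.map (Ideal.Quotient.mk I)).IsPrime := Ideal.map_isPrime_of_surjective Ideal.Quotient.mk_surjective hIP
  have hback : (P.map (Ideal.Quotient.mk I)).comap (Ideal.Quotient.mk I) = P := by
    rw [Ideal.comap_map_of_surjective _ Ideal.Quotient.mk_surjective, ← RingHom.ker_eq_comap_bot, sup_eq_left.mpr hIP]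
  haveI : IsLocalHom (Ideal.Quotient.mk I) := IsLocalHom.of_surjective _ Ideal.Quotient.mk_surjective
  obtain ⟨z, hz⟩ := hψ (P.map (Ideal.Quotient.mk I)) inferInstance fun h => hPm (by
    rw [← hback, h]; exact IsLocalRing.maximalIdeal_comap _)
  by_contra hall
  push Not at hall
  let p := P.map (Ideal.Quotient.mk I)
  let α : N ⟶ ModuleCat.of S ((A ⧸ I) ⧸ p) := ModuleCat.ofHom ((Submodule.mkQ p).comp ψ)
  have hα : α = 0 := ModuleCat.ExtendScalars.hom_ext fun m => by
    show Submodule.Quotient.mk (ψ (η m : N)) = 0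
    rw [Submodule.Quotient.mk_eq_zero]
    obtain ⟨a, ha⟩ := Ideal.Quotient.mk_surjective (φ₀ m)
    show φ₀ m ∈ p
    rw [← ha]
    exact Ideal.mem_map_of_mem _ (hall m a ha)
  have := ConcreteCategory.congr_hom hα z
  exact hz ((Submodule.Quotient.mk_eq_zero _).1 this)


variable {A : Type u} [CommRing A] [IsLocalRing A] [IsNoetherianRing A] {J : Ideal A} [IsLocalRing (A ⧸ J)]
  [IsAdicComplete J A]

/-- An invertible module trivial on the closed subscheme is trivial. -/
theorem picPullbackInjective (hb : (3 : ℕ∞) ≤ LocCoh.depth (A ⧸ J) (A ⧸ J))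
    (hfree : ∀ n, Module.Free (A ⧸ J) (grP J n)) :
    Formal2.PicPullbackInjective
      ((Spec.map (CommRingCat.ofHom (Ideal.Quotient.mk J))).ker.comap (FEt.puncturedSpec A).ι).subschemeι := by
  intro L hL htriv
  let R := CommRingCat.of A
  haveI : IsNoetherianRing R := inferInstanceAs (IsNoetherianRing A)
  let U : (Spec R).Opens := FEt.puncturedSpec A
  haveI : IsNoetherian (Spec R) := inferInstance
  have hLc := ParaFX.StalkPair.isCoh_of_invertible hL
  obtain ⟨E, hEq, hEft, ⟨eE⟩⟩ := QCoh.exists_extension_abs (KZ.extStep U) L hLc.1 hLc.2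
  have hEfp : CohB1.IsFP E := QCoh.isCoh_iff_isFP.1 ⟨hEq, hEft⟩
  let M := (moduleSpecΓFunctor (R := R)).obj E
  haveI : Module.FinitePresentation A M := (QCoh.isFP_iff_finitePresentation E hEq).1 hEfp
  have hpt : ∀ (P : Ideal A) (hP : P.IsPrime), P ≠ IsLocalRing.maximalIdeal A →
      (⟨P, hP⟩ : PrimeSpectrum A) ∈ (U : Set (Spec R)) := fun P hP hne he => hne (congrArg PrimeSpectrum.asIdeal he)
  obtain ⟨φ₀, hφ₀⟩ := functional_of_trivial_pullback_ideal A J (le_trans (by norm_num) hb) hEq eE htriv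
  have hgood : Good φ₀ := ⟨fun P hP hne => rankOne_of_invertible (R := R) U hL hEq eE P (hP := hP) (hpt P hP hne), hφ₀⟩
  obtain ⟨ψ, hψ⟩ := exists_nowhere_zero hb hfree hgood
  exact iso_of_functional (R := R) U hL hEq eE ψ fun q hq =>
    hψ (q : PrimeSpectrum A).asIdeal (q : PrimeSpectrum A).isPrime fun he => hq (PrimeSpectrum.ext he)

omit [IsAdicComplete J A] in
theorem idealDepth_quot {r : ℕ} (hb : (r : ℕ∞) ≤ LocCoh.depth (A ⧸ J) (A ⧸ J)) :
    (r : ℕ∞) ≤ LocCoh.idealDepth (IsLocalRing.maximalIdeal A) (A ⧸ J) := by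
  obtain ⟨s₀, hs₀, hs₀'⟩ := CILift.exists_regular_fn hb
  choose s hs using fun i => Ideal.Quotient.mk_surjective (s₀ i)
  have h : RingTheory.Sequence.IsWeaklyRegular (A ⧸ J) (List.ofFn s) := by
    rw [← RingTheory.Sequence.isWeaklyRegular_map_algebraMap_iff (A ⧸ J), List.map_ofFn,
      show (algebraMap A (A ⧸ J) ∘ s) = s₀ from funext hs]
    exact hs₀'
  have := Alg6.length_le_idealDepth (I := IsLocalRing.maximalIdeal A) h fun x hx => by
    obtain ⟨i, rfl⟩ := List.mem_ofFn.mp hx
    exact fun hu => hs₀ i (hs i ▸ hu.map _)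
  rwa [List.length_ofFn] at this

theorem connected_punctured {B : Type u} [CommRing B] [IsLocalRing B] [IsNoetherianRing B]
    (h : (2 : ℕ∞) ≤ LocCoh.depth B B) : ConnectedSpace ↥(FEt.puncturedSpec B : Scheme.{u}) := by
  show ConnectedSpace ↥((FEt.puncturedSpec B).carrier)
  refine isConnected_iff_connectedSpace.1 ?_
  have e : (FEt.puncturedSpec B).carrier =
      {x : PrimeSpectrum B | x.asIdeal ≠ IsLocalRing.maximalIdeal B} := Set.ext fun x : PrimeSpectrum B =>
    not_congr ⟨fun h => congrArg PrimeSpectrum.asIdeal h, fun h => PrimeSpectrum.ext h⟩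
  exact (e ▸ LC.isConnected_punctured h :)

/-- The closed subscheme is connected. -/
theorem connected_subscheme (hb : (2 : ℕ∞) ≤ LocCoh.depth (A ⧸ J) (A ⧸ J)) :
    ConnectedSpace
      ↥((Spec.map (CommRingCat.ofHom (Ideal.Quotient.mk J))).ker.comap (FEt.puncturedSpec A).ι).subscheme := by
  obtain ⟨e, -⟩ := CILift.exists_puncturedIso A J
  haveI : ConnectedSpace ↥((Spec.map (CommRingCat.ofHom (Ideal.Quotient.mk J)) ⁻¹ᵁ FEt.puncturedSpec A :
      (Spec (CommRingCat.of (A ⧸ J))).Opens) : Scheme.{u}) := by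
    rw [CILift.preimage_punctured A J]
    exact connected_punctured hb
  exact (Scheme.homeoOfIso e).surjective.connectedSpace (Scheme.homeoOfIso e).continuous

/-- The punctured spectrum is connected. -/
theorem connected_whole (hb : (2 : ℕ∞) ≤ LocCoh.depth (A ⧸ J) (A ⧸ J))
    (hfree : ∀ n, Module.Free (A ⧸ J) (grP J n)) : ConnectedSpace ↥(FEt.puncturedSpec A : Scheme.{u}) := by
  have hfl : ∀ n, Module.Flat (A ⧸ J) (grP J n) := fun n => haveI := hfree n; inferInstance
  exact connected_punctured (le_idealDepth_self (IsLocalRing.maximalIdeal A) hfl (n := 2) (idealDepth_quot hb))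

/-- The Lefschetz condition for the whole punctured spectrum. -/
theorem homToFormalBijective (hb : (2 : ℕ∞) ≤ LocCoh.depth (A ⧸ J) (A ⧸ J))
    (hfree : ∀ n, Module.Free (A ⧸ J) (grP J n)) (D : (↑(FEt.puncturedSpec A) : Scheme.{u}).Modules)
    (hD : FlatMod.IsFinLocFree D) :
    Lef.HomToFormalBijective
      ((Spec.map (CommRingCat.ofHom (Ideal.Quotient.mk J))).ker.comap (FEt.puncturedSpec A).ι) D := by
  have hfl : ∀ n, Module.Flat (A ⧸ J) (grP J n) := fun n => haveI := hfree n; inferInstance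
  have hQ : (2 : ℕ∞) ≤ LocCoh.idealDepth (IsLocalRing.maximalIdeal A) (A ⧸ J) := idealDepth_quot hb
  revert D
  rw [puncturedSpec_eq]
  intro D hD
  exact homToFormalBijective_of_normallyFlat (IsLocalRing.maximalIdeal A) hfl hQ D hD

end

end Groth.Agent.LefAlgz.NFLift
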