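import Groth.Agent.LefAlgz.AlgMain
import Groth.Agent.LefAlgz.EtLocal
import Groth.Agent.H9Lef.SecScheme
import Groth.Agent.S0238

/-!
# Extending covers from a hypersurface of the punctured spectrum to a neighbourhood
-/

noncomputable section

set_option autoImplicit false
set_option linter.style.haveILetI false
set_option backward.isDefEq.respectTransparency false
set_option backward.isDefEq.respectTransparency.types false

universe u

open CategoryTheory CategoryTheory.Limits AlgebraicGeometry IsLocalRing TensorProduct Groth.Agent.Pi1Ext.RegPurity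
  Groth.Agent.Pi1Ext.PuritySch Groth.Agent.H9Lef

attribute [-instance] CategoryTheory.catToReflQuiver

namespace Groth.Agent.LefAlgz

open Groth.Agent

variable {A : Type u} [CommRing A]

/-- The open on which a finite algebra is étale. -/
def etW (M : Type u) [CommRing M] [Algebra A M] : (Spec (CommRingCat.of A)).Opens :=
  ⨆ h : {h : A // EtAway A M h}, PrimeSpectrum.basicOpen h.1

theorem prop_restrict {M : Type u} [CommRing M] [Algebra A M] [Module.Finite A M]
    (U : (Spec (CommRingCat.of A)).Opens) (hU : U ≤ etW M) : FEt.prop (pullback.snd (sp A M) U.ι) := by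
  haveI : IsFinite (sp A M) := (IsFinite.SpecMap_iff _).2 (RingHom.finite_algebraMap.2 inferInstance)
  refine ⟨MorphismProperty.pullback_snd _ _ inferInstance, ?_⟩
  let ι := (Spec (CommRingCat.of A)).homOfLE hU
  have hW : Etale (pullback.snd (sp A M) (etW (A := A) M).ι) := by
    have ρE : ∀ h : {h : A // EtAway A M h}, Set.range (sp A (Localization.Away h.1)) ⊆ Set.range (etW (A := A) M).ι := by
      intro h
      rw [Scheme.Opens.range_ι]
      rintro _ ⟨q, rfl⟩
      refine TopologicalSpace.Opens.mem_iSup.2 ⟨h, fun hq => ?_⟩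
      exact q.2.ne_top (Ideal.eq_top_of_isUnit_mem _ hq (IsLocalization.Away.algebraMap_isUnit h.1))
    let C : Scheme.OpenCover.{u} (etW (A := A) M : Scheme.{u}) :=
      Scheme.Cover.mkOfCovers {h : A // EtAway A M h} (fun h => Spec (CommRingCat.of (Localization.Away h.1)))
        (fun h => IsOpenImmersion.lift (etW (A := A) M).ι (sp A (Localization.Away h.1)) (ρE h))
        (fun y => by
          obtain ⟨h, hh⟩ := TopologicalSpace.Opens.mem_iSup.1 y.2
          have hy : ((etW (A := A) M).ι y : PrimeSpectrum A) ∈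
              Set.range (PrimeSpectrum.comap (algebraMap A (Localization.Away h.1))) := by
            rw [PrimeSpectrum.localization_away_comap_range (Localization.Away h.1) h.1]
            exact hh
          obtain ⟨q, hq⟩ := hy
          refine ⟨h, q, (etW (A := A) M).ι.isOpenEmbedding.injective ?_⟩
          rw [← Scheme.Hom.comp_apply, IsOpenImmersion.lift_fac]
          exact hq)
        (fun h => by
          haveI : IsOpenImmersion (sp A (Localization.Away h.1)) := IsOpenImmersion.of_isLocalization h.1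
          haveI : IsOpenImmersion (IsOpenImmersion.lift (etW (A := A) M).ι (sp A (Localization.Away h.1)) (ρE h) ≫
              (etW (A := A) M).ι) := by rw [IsOpenImmersion.lift_fac]; infer_instance
          exact IsOpenImmersion.of_comp _ (etW (A := A) M).ι)
    refine IsZariskiLocalAtTarget.of_openCover (P := @Etale) C fun h => ?_
    let Ah := Localization.Away h.1
    let l := IsOpenImmersion.lift (etW (A := A) M).ι (sp A Ah) (ρE h)
    have e1 : IsPullback (pullback.fst (pullback.snd (sp A M) (etW (A := A) M).ι) l ≫ pullback.fst (sp A M) (etW (A := A) M).ι)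
        (pullback.snd (pullback.snd (sp A M) (etW (A := A) M).ι) l) (sp A M) (sp A Ah) := by
      have := (IsPullback.of_hasPullback (pullback.snd (sp A M) (etW (A := A) M).ι) l).paste_horiz
        (IsPullback.of_hasPullback (sp A M) (etW (A := A) M).ι)
      rwa [IsOpenImmersion.lift_fac] at this
    show Etale (pullback.snd (pullback.snd (sp A M) (etW (A := A) M).ι) l)
    rw [← e1.flip.isoPullback_hom_fst, ← pullbackSpecIso_hom_fst' A Ah M,
      MorphismProperty.cancel_left_of_respectsIso (P := @Etale),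
      MorphismProperty.cancel_left_of_respectsIso (P := @Etale)]
    exact (HasRingHomProperty.Spec_iff (P := @Etale)).2 (RingHom.etale_algebraMap.2
      (etale_tensor_of_etAway h.2 Ah (IsLocalization.Away.algebraMap_isUnit h.1)))
  have e2 : IsPullback (pullback.map (sp A M) U.ι (sp A M) (etW (A := A) M).ι (𝟙 _) ι (𝟙 _) (by simp)
      (by simp [ι])) (pullback.snd (sp A M) U.ι) (pullback.snd (sp A M) (etW (A := A) M).ι) ι := by
    refine IsPullback.of_right ?_ (by rw [pullback.lift_snd]) (IsPullback.of_hasPullback (sp A M) (etW (A := A) M).ι)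
    rw [pullback.lift_fst, Category.comp_id, show ι ≫ (etW (A := A) M).ι = U.ι from Scheme.homOfLE_ι _ hU]
    exact IsPullback.of_hasPullback _ _
  exact MorphismProperty.of_isPullback (P := @Etale) e2 hW

variable [IsNoetherianRing A] [IsLocalRing A] {f : A}

/-- Covers of the punctured spectrum modulo `f` extend to a neighbourhood. -/
theorem exists_extension (hf : f ∈ maximalIdeal A) (hnz : f ∈ nonZeroDivisors A)
    [IsAdicComplete (Ideal.span {f}) A] (h1 : FinH (maximalIdeal A) 1 (A ⧸ Ideal.span {f}))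
    (h2 : FinH (maximalIdeal A) 2 (A ⧸ Ideal.span {f}))
    (V₀ : FEt.Cat (pullback (FEt.puncturedSpec A).ι (qSpec (Ideal.span {f})))) :
    ∃ (U' : (Spec (CommRingCat.of A)).Opens) (_ : U' ≤ FEt.puncturedSpec A)
      (u' : pullback (FEt.puncturedSpec A).ι (qSpec (Ideal.span {f})) ⟶ (U' : Scheme.{u}))
      (_ : u' ≫ U'.ι = pullback.fst _ _ ≫ (FEt.puncturedSpec A).ι) (V' : FEt.Cat (U' : Scheme.{u})),
      Nonempty ((FEt.restrict u').obj V' ≅ V₀) := by
  let J : Ideal A := Ideal.span {f}
  let B := A ⧸ J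
  haveI : Nontrivial B := Ideal.Quotient.nontrivial_iff.2 fun h => (maximalIdeal.isMaximal A).ne_top
    (top_le_iff.1 (h ▸ (Ideal.span_singleton_le_iff_mem _).2 hf : (⊤ : Ideal A) ≤ maximalIdeal A))
  haveI : IsLocalRing B := IsLocalRing.of_surjective' (Ideal.Quotient.mk J) Ideal.Quotient.mk_surjective
  let e := (isPullback_jP J).isoPullback
  obtain ⟨C, _, algBC, hCfin, hC, ⟨eC⟩⟩ := exists_finite_model ((FEt.restrict e.hom).obj V₀)
  letI : Algebra A C := ((algebraMap B C).comp (algebraMap A B)).toAlgebra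
  haveI : IsScalarTower A B C := IsScalarTower.of_algebraMap_eq fun _ => rfl
  haveI : Module.Finite A B := inferInstance
  haveI : Module.Finite A C := Module.Finite.trans B C
  have hmem : ∀ a : A, a ∈ maximalIdeal A → algebraMap A B a ∈ maximalIdeal B := fun a ha => by
    rw [IsLocalRing.mem_maximalIdeal, mem_nonunits_iff]
    intro hu
    haveI : IsLocalHom (Ideal.Quotient.mk J) := IsLocalHom.of_surjective _ Ideal.Quotient.mk_surjective
    exact (IsLocalRing.mem_maximalIdeal a).1 ha (IsUnit.of_map (Ideal.Quotient.mk J) a hu)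
  have hEt : ∀ a ∈ maximalIdeal A, Algebra.Etale B (H9Pur.L C a) := fun a ha => by
    show Algebra.Etale B (Localization.Away (algebraMap A C a))
    rw [IsScalarTower.algebraMap_apply A B C]
    exact hC _ (hmem a ha)
  obtain ⟨M, S, _, _, _, _, _, _, ρ, κ, hinj, hρf, hρker, hloc⟩ :=
    exists_algebraization (C := C) hnz h1 h2 hEt
  have hfS : algebraMap A S f = 0 := by
    rw [Algebra.algebraMap_eq_smul_one, ← map_one ρ, ← map_smul, hρf]
  letI : Algebra B S := (Ideal.Quotient.lift J (algebraMap A S) fun z hz => by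
    obtain ⟨w, rfl⟩ := Ideal.mem_span_singleton'.1 hz
    rw [map_mul, hfS, mul_zero]).toAlgebra
  haveI : IsScalarTower A B S := IsScalarTower.of_algebraMap_eq fun _ => rfl
  haveI : Module.Finite B S := Module.Finite.of_restrictScalars_finite A B S
  let κB : C →ₐ[B] S := { κ.toRingHom with
    commutes' := fun b => by
      obtain ⟨a, rfl⟩ := Ideal.Quotient.mk_surjective b
      exact κ.commutes a }
  let ρB : B ⊗[A] M →ₐ[B] S := Algebra.TensorProduct.lift (Algebra.ofId B S) ρ fun _ _ => Commute.all _ _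
  have hsmul : ∀ (N : Type u) [AddCommGroup N] [Module A N] [Module B N] [IsScalarTower A B N] (a : A) (n : ℕ) (x : N),
      (algebraMap A B a) ^ n • x = a ^ n • x := fun N _ _ _ _ a n x => by
    rw [← map_pow, algebraMap_smul]
  have hlift : ∀ b ∈ maximalIdeal B, ∃ a ∈ maximalIdeal A, algebraMap A B a = b := fun b hb => by
    obtain ⟨a, rfl⟩ := Ideal.Quotient.mk_surjective b
    refine ⟨a, ?_, rfl⟩
    rw [IsLocalRing.mem_maximalIdeal, mem_nonunits_iff] at hb ⊢
    exact fun h => hb (h.map _)
  have hκ : ∀ b ∈ maximalIdeal B, IsoAway κB b := fun b hb => by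
    obtain ⟨a, ha, rfl⟩ := hlift b hb
    refine ⟨fun s => ?_, fun c hc => ?_⟩
    · obtain ⟨K, c, h⟩ := (hloc a ha).2.1 s
      exact ⟨K, c, (hsmul S a K s).trans h⟩
    · obtain ⟨K, h⟩ := (hloc a ha).2.2 c hc
      exact ⟨K, (hsmul C a K c).trans h⟩
  have hsurj : ∀ z : B ⊗[A] M, ∃ m : M, (1 : B) ⊗ₜ[A] m = z := fun z => by
    induction z using TensorProduct.induction_on with
    | zero => exact ⟨0, tmul_zero _ _⟩
    | tmul b m =>
      obtain ⟨a, rfl⟩ := Ideal.Quotient.mk_surjective b
      refine ⟨a • m, ?_⟩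
      rw [tmul_smul, smul_tmul', Algebra.smul_def, mul_one]
      rfl
    | add x y hx hy =>
      obtain ⟨a, rfl⟩ := hx
      obtain ⟨b, rfl⟩ := hy
      exact ⟨a + b, tmul_add _ _ _⟩
  have hρB : ∀ m : M, ρB ((1 : B) ⊗ₜ[A] m) = ρ m := fun m => by
    simp [ρB, Algebra.TensorProduct.lift_tmul]
  have hρ : ∀ b ∈ maximalIdeal B, IsoAway ρB b := fun b hb => by
    obtain ⟨a, ha, rfl⟩ := hlift b hb
    refine ⟨fun s => ?_, fun z hz => ?_⟩
    · obtain ⟨K, m, h⟩ := (hloc a ha).1 s
      exact ⟨K, _, (hsmul S a K s).trans (h.trans (hρB m).symm)⟩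
    · obtain ⟨m, rfl⟩ := hsurj z
      obtain ⟨y, rfl⟩ := hρker m ((hρB m).symm.trans hz)
      refine ⟨0, ?_⟩
      rw [pow_zero, one_smul, tmul_smul, smul_tmul', Algebra.smul_def, mul_one,
        show algebraMap A B f = 0 from Ideal.Quotient.eq_zero_iff_mem.2 (Ideal.mem_span_singleton_self f), zero_tmul]
  have hS : EtOff B S := fun b hb => (hκ b hb).etale (hC b hb)
  have hM : EtOff B (B ⊗[A] M) := fun b hb => etAway_of_isoAway (hρ b hb) (hS b hb)
  obtain ⟨iκ⟩ := nonempty_iso κB hκ (prop_rest C hC) (prop_rest S hS)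
  obtain ⟨iρ⟩ := nonempty_iso ρB hρ (prop_rest (B ⊗[A] M) hM) (prop_rest S hS)
  -- the neighbourhood
  let U' := FEt.puncturedSpec A ⊓ etW (A := A) M
  have hrange : Set.range (pullback.fst (FEt.puncturedSpec A).ι (qSpec J) ≫ (FEt.puncturedSpec A).ι) ⊆
      Set.range U'.ι := by
    rw [Scheme.Opens.range_ι]
    rintro _ ⟨z, rfl⟩
    let y := pullback.fst (FEt.puncturedSpec A).ι (qSpec J) z
    let p : PrimeSpectrum A := (FEt.puncturedSpec A).ι y
    have hp : (pullback.fst (FEt.puncturedSpec A).ι (qSpec J) ≫ (FEt.puncturedSpec A).ι) z = p :=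
      Scheme.Hom.comp_apply _ _ z
    have hfp : f ∈ p.asIdeal := by
      have h : p = PrimeSpectrum.comap (Ideal.Quotient.mk J) (pullback.snd (FEt.puncturedSpec A).ι (qSpec J) z) := by
        rw [← hp, pullback.condition]
        rfl
      rw [h]
      show Ideal.Quotient.mk J f ∈ (pullback.snd (FEt.puncturedSpec A).ι (qSpec J) z : PrimeSpectrum B).asIdeal
      rw [Ideal.Quotient.eq_zero_iff_mem.2 (Ideal.mem_span_singleton_self f)]
      exact zero_mem _
    obtain ⟨a, ha, hap⟩ := exists_mem_max y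
    obtain ⟨h, hhp, hh⟩ := exists_etAway_nbhd hinj p.asIdeal hfp hap (hM _ (hmem a ha))
    rw [hp]
    exact ⟨y.2, TopologicalSpace.Opens.mem_iSup.2 ⟨⟨h, hh⟩, hhp⟩⟩
  let u' := IsOpenImmersion.lift U'.ι _ hrange
  have hu' : u' ≫ U'.ι = pullback.fst _ _ ≫ (FEt.puncturedSpec A).ι := IsOpenImmersion.lift_fac _ _ _
  let V' : FEt.Cat (U' : Scheme.{u}) :=
    MorphismProperty.Over.mk ⊤ (pullback.snd (sp A M) U'.ι) (prop_restrict U' inf_le_right)
  let v := e.hom ≫ u'
  have hv : v ≫ U'.ι = (FEt.puncturedSpec B).ι ≫ sp A B := by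
    show (e.hom ≫ u') ≫ U'.ι = _
    rw [Category.assoc, hu', ← Category.assoc, IsPullback.isoPullback_hom_fst, jP_ι]
    rfl
  have p1 : IsPullback (pullback.fst (sp B (B ⊗[A] M)) (FEt.puncturedSpec B).ι ≫
      Spec.map (CommRingCat.ofHom (Algebra.TensorProduct.includeRight (R := A) (A := B) (B := M)).toRingHom))
      (rest B (B ⊗[A] M)) (sp A M) ((FEt.puncturedSpec B).ι ≫ sp A B) :=
    (IsPullback.of_hasPullback (sp B (B ⊗[A] M)) (FEt.puncturedSpec B).ι).paste_horiz
      (isPullback_SpecMap_of_isPushout _ _ _ _ (CommRingCat.isPushout_tensorProduct A B M).flip)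
  have p2 : IsPullback (pullback.fst (pullback.snd (sp A M) U'.ι) v ≫ pullback.fst (sp A M) U'.ι)
      (pullback.snd (pullback.snd (sp A M) U'.ι) v) (sp A M) ((FEt.puncturedSpec B).ι ≫ sp A B) := by
    rw [← hv]
    exact (IsPullback.of_hasPullback (pullback.snd (sp A M) U'.ι) v).paste_horiz
      (IsPullback.of_hasPullback (sp A M) U'.ι)
  let i1 : (FEt.restrict v).obj V' ≅ obj (B ⊗[A] M) (prop_rest (B ⊗[A] M) hM) :=
    MorphismProperty.Over.isoMk (p2.isoIsPullback _ _ p1) (IsPullback.isoIsPullback_hom_snd _ _ _ _)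
  haveI : (FEt.restrict e.hom).IsEquivalence := S0238.result e.hom
  refine ⟨U', inf_le_left, u', hu', V', ⟨(FEt.restrict e.hom).preimageIso ?_⟩⟩
  exact ((MorphismProperty.Over.pullbackComp (P := FEt.prop) (Q := ⊤) e.hom u').symm.app V') ≪≫ i1 ≪≫
    iρ.symm ≪≫ iκ ≪≫ eC

end Groth.Agent.LefAlgz
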