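import Groth.Agent.LefAlgz.CechFin

/-!
# Exactness of the beginning of a Čech complex in degree two when third cohomology vanishes
-/

noncomputable section

set_option autoImplicit false
set_option linter.style.haveILetI false
set_option backward.isDefEq.respectTransparency false
set_option backward.isDefEq.respectTransparency.types false

universe u

open CategoryTheory Limits

namespace Groth.Agent.LefAlgz

open Groth.Agent

variable {A : Type u} [CommRing A] [IsNoetherianRing A] {I : Ideal A} {r : ℕ} {g : Fin r → A}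

/-- Cycles in degree two are boundaries when the third cohomology of the sections vanishes. -/
theorem mem_range_of_subsingleton_three (hg : Ideal.span (Set.range g) = I) {X₀ X₁ X₂ : Type u}
    [AddCommGroup X₀] [Module A X₀] [AddCommGroup X₁] [Module A X₁] [AddCommGroup X₂] [Module A X₂]
    (d₀ : X₀ →ₗ[A] X₁) (d₁ : X₁ →ₗ[A] X₂) (Z : Submodule A X₂) (hdd : ∀ x, d₁ (d₀ x) = 0)
    (hdZ : LinearMap.range d₁ ≤ Z)
    (hX0 : Subsingleton (LocCoh.H I 2 X₀)) (hX1 : Subsingleton (LocCoh.H I 1 X₁))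
    (hX2 : DRing.torsionSub I X₂ = ⊥)
    (h01 : ∀ z, d₁ z = 0 → ∀ l, ∃ K : ℕ, g l ^ K • z ∈ LinearMap.range d₀)
    (h12 : ∀ z ∈ Z, ∀ l, ∃ K : ℕ, g l ^ K • z ∈ LinearMap.range d₁)
    {M : Type u} [AddCommGroup M] [Module A M] (φ : M →ₗ[A] LinearMap.ker d₀)
    (hk : ∀ m, φ m = 0 → ∀ l, ∃ K : ℕ, g l ^ K • m = 0)
    (hc : ∀ x, ∀ l, ∃ K : ℕ, g l ^ K • x ∈ LinearMap.range φ)
    (h3 : Subsingleton (LocCoh.H I 3 M)) : Z ≤ LinearMap.range d₁ := by
  haveI := hX0
  haveI := hX1
  haveI := h3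
  have hS := H9Lef.surjSeq_shortExact (M := M) (N := ↥(LinearMap.range φ)) φ.rangeRestrict
    φ.surjective_rangeRestrict
  have hker : LocCoh.IsPowerTorsion I (LinearMap.ker φ.rangeRestrict) := by
    rw [LinearMap.ker_rangeRestrict]
    exact isPowerTorsion_of_forall hg fun z l =>
      (hk z.1 z.2 l).imp fun K hK => Subtype.ext (by simpa using hK)
  haveI : Subsingleton (LocCoh.H I 3 (LinearMap.range φ)) := subsingleton_of_forall_eq 0 fun z => by
    haveI := LC.subsingleton_of_torsion I 3 (ModuleCat.of A (LinearMap.ker φ.rangeRestrict)) hker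
    obtain ⟨w, rfl⟩ := (LC.exact₃ I 3 hS 4 rfl z).1 (Subsingleton.elim _ _)
    rw [Subsingleton.elim (α := LocCoh.H I 3 M) w 0, map_zero]
  have hT := H9Lef.injSeq_shortExact (M := ↥(LinearMap.range φ)) (N := ↥(LinearMap.ker d₀))
    (LinearMap.range φ).subtype Subtype.val_injective
  have hQ : LocCoh.IsPowerTorsion I (LinearMap.ker d₀ ⧸ LinearMap.range (LinearMap.range φ).subtype) := by
    refine isPowerTorsion_of_forall hg fun z l => ?_
    obtain ⟨x, rfl⟩ := Submodule.mkQ_surjective _ z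
    obtain ⟨K, hK⟩ := hc x l
    refine ⟨K, ?_⟩
    rw [← map_smul, Submodule.mkQ_apply, Submodule.Quotient.mk_eq_zero, Submodule.range_subtype]
    exact hK
  haveI hK3 : Subsingleton (LocCoh.H I 3 (LinearMap.ker d₀)) := subsingleton_of_forall_eq 0 fun z => by
    haveI := LC.subsingleton_of_torsion I 2
      (ModuleCat.of A (LinearMap.ker d₀ ⧸ LinearMap.range (LinearMap.range φ).subtype)) hQ
    obtain ⟨w, rfl⟩ := (LC.exact₂ I 3 hT z).1 (Subsingleton.elim _ _)
    rw [Subsingleton.elim (α := LocCoh.H I 3 (LinearMap.range φ)) w 0, map_zero]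
  have hB := H9Lef.surjSeq_shortExact (M := X₀) (N := ↥(LinearMap.range d₀)) d₀.rangeRestrict
    d₀.surjective_rangeRestrict
  haveI hB2 : Subsingleton (LocCoh.H I 2 (LinearMap.range d₀)) := subsingleton_of_forall_eq 0 fun z => by
    haveI : Subsingleton (LocCoh.H I 3 (LinearMap.ker d₀.rangeRestrict)) := by
      rw [LinearMap.ker_rangeRestrict]; exact hK3
    obtain ⟨w, rfl⟩ := (LC.exact₃ I 2 hB 3 rfl z).1 (Subsingleton.elim _ _)
    rw [Subsingleton.elim (α := LocCoh.H I 2 X₀) w 0, map_zero]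
  have hle : LinearMap.range d₀ ≤ LinearMap.ker d₁ := by
    rintro _ ⟨x, rfl⟩
    exact hdd x
  have hU := H9Lef.injSeq_shortExact (M := ↥(LinearMap.range d₀)) (N := ↥(LinearMap.ker d₁))
    (Submodule.inclusion hle) (Submodule.inclusion_injective hle)
  have hH : LocCoh.IsPowerTorsion I (LinearMap.ker d₁ ⧸ LinearMap.range (Submodule.inclusion hle)) := by
    refine isPowerTorsion_of_forall hg fun z l => ?_
    obtain ⟨x, rfl⟩ := Submodule.mkQ_surjective _ z
    obtain ⟨K, hK⟩ := h01 x.1 x.2 l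
    refine ⟨K, ?_⟩
    rw [← map_smul, Submodule.mkQ_apply, Submodule.Quotient.mk_eq_zero]
    exact ⟨⟨_, hK⟩, Subtype.ext rfl⟩
  haveI hZ1 : Subsingleton (LocCoh.H I 2 (LinearMap.ker d₁)) := subsingleton_of_forall_eq 0 fun z => by
    haveI := LC.subsingleton_of_torsion I 1
      (ModuleCat.of A (LinearMap.ker d₁ ⧸ LinearMap.range (Submodule.inclusion hle))) hH
    obtain ⟨w, rfl⟩ := (LC.exact₂ I 2 hU z).1 (Subsingleton.elim _ _)
    rw [Subsingleton.elim (α := LocCoh.H I 2 (LinearMap.range d₀)) w 0, map_zero]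
  have hB' := H9Lef.surjSeq_shortExact (M := X₁) (N := ↥(LinearMap.range d₁)) d₁.rangeRestrict
    d₁.surjective_rangeRestrict
  haveI hB1 : Subsingleton (LocCoh.H I 1 (LinearMap.range d₁)) := subsingleton_of_forall_eq 0 fun z => by
    haveI : Subsingleton (LocCoh.H I 2 (LinearMap.ker d₁.rangeRestrict)) := by
      rw [LinearMap.ker_rangeRestrict]; exact hZ1
    obtain ⟨w, rfl⟩ := (LC.exact₃ I 1 hB' 2 rfl z).1 (Subsingleton.elim _ _)
    rw [Subsingleton.elim (α := LocCoh.H I 1 X₁) w 0, map_zero]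
  have hV := H9Lef.injSeq_shortExact (M := ↥(LinearMap.range d₁)) (N := ↥Z) (Submodule.inclusion hdZ)
    (Submodule.inclusion_injective hdZ)
  have htZ : DRing.torsionSub I Z = ⊥ := by
    refine (Submodule.eq_bot_iff _).2 fun x hx => Subtype.ext ?_
    have : (x : X₂) ∈ DRing.torsionSub I X₂ := hx.imp fun n h a ha => congrArg Subtype.val (h a ha)
    rwa [hX2, Submodule.mem_bot] at this
  intro z hz
  let Q := Z ⧸ LinearMap.range (Submodule.inclusion hdZ)
  have htor : (Submodule.Quotient.mk ⟨z, hz⟩ : Q) ∈ DRing.torsionSub I Q :=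
    isPowerTorsion_of_forall hg (M := Q) (fun w l => by
      obtain ⟨v, rfl⟩ := Submodule.mkQ_surjective _ w
      obtain ⟨K, hK⟩ := h12 v.1 v.2 l
      refine ⟨K, ?_⟩
      rw [← map_smul, Submodule.mkQ_apply, Submodule.Quotient.mk_eq_zero]
      exact ⟨⟨_, hK⟩, Subtype.ext rfl⟩) _
  let e := LC.H0Equiv I (ModuleCat.of A Q)
  have h0 : e.symm ⟨_, htor⟩ = 0 := H9Lef.δH_zero_injective hV htZ (Subsingleton.elim (α := LocCoh.H I 1 (LinearMap.range d₁)) _ _)
  have h1 := congrArg e h0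
  rw [e.apply_symm_apply, map_zero] at h1
  obtain ⟨w, hw⟩ := (Submodule.Quotient.mk_eq_zero _).1 (congrArg Subtype.val h1)
  have : w.1 = z := congrArg Subtype.val hw
  exact this ▸ w.2

end Groth.Agent.LefAlgz
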