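import Groth.Agent.LefAlgz.PicRing
import Groth.Agent.LefAlgz.PicH3

/-!
# The twisted Čech complex of a compatible system of line bundle cocycles
-/

noncomputable section

set_option autoImplicit false
set_option linter.style.haveILetI false
set_option backward.isDefEq.respectTransparency false
set_option backward.isDefEq.respectTransparency.types false

universe u

namespace Groth.Agent.LefAlgz.PicR

open Groth.Agent

variable {A : Type u} [CommRing A] {f : A} {r : ℕ} {g : Fin r → A}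

/-- The cocycle condition. -/
def IsCoc (n : ℕ) (c : ∀ p : Fin r × Fin r, B f n (a2 g p)) : Prop :=
  ∀ t : Fin r × Fin r × Fin r, resC (Qn f n) (dvd_a3₀ g t) (c (t.2.1, t.2.2)) *
    resC (Qn f n) (dvd_a3₁ g t) (c (t.1, t.2.1)) = resC (Qn f n) (dvd_a3₂ g t) (c (t.1, t.2.2))

/-- Compatible cocycles at all levels. -/
structure CocSys (f : A) {r : ℕ} (g : Fin r → A) where
  c : ∀ (n : ℕ) (p : Fin r × Fin r), B f n (a2 g p)
  coc : ∀ n, IsCoc n (c n)
  red : ∀ n p, rd f n (a2 g p) (c (n + 1) p) = c n p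

variable (f g) in
/-- The trivial system. -/
def CocSys.one : CocSys f g where
  c _ _ := 1
  coc _ t := by rw [map_one, map_one, map_one, one_mul]
  red _ _ := map_one _

variable (S : CocSys f g) (hnz : f ∈ nonZeroDivisors A)

namespace CocSys

theorem d_comm (n : ℕ) (p : Fin r × Fin r) (u : B f (n + 1) (g p.2)) (v : B f (n + 1) (g p.1)) :
    resC (Qn f n) (a := g p.2) (b := a2 g p) (dvd_mul_left _ _) (rd f n (g p.2) u) -
        S.c n p * resC (Qn f n) (a := g p.1) (b := a2 g p) (dvd_mul_right _ _) (rd f n (g p.1) v) =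
      rd f n (a2 g p) (resC (Qn f (n + 1)) (a := g p.2) (b := a2 g p) (dvd_mul_left _ _) u -
        S.c (n + 1) p * resC (Qn f (n + 1)) (a := g p.1) (b := a2 g p) (dvd_mul_right _ _) v) := by
  simp only [map_sub, map_mul, S.red, resC_rd]

theorem e_comm (n : ℕ) (t : Fin r × Fin r × Fin r) (u : B f (n + 1) (a2 g (t.2.1, t.2.2)))
    (v : B f (n + 1) (a2 g (t.1, t.2.1))) (w : B f (n + 1) (a2 g (t.1, t.2.2))) :
    resC (Qn f n) (dvd_a3₀ g t) (rd f n _ u) +
        resC (Qn f n) (dvd_a3₀ g t) (S.c n (t.2.1, t.2.2)) * resC (Qn f n) (dvd_a3₁ g t) (rd f n _ v) -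
        resC (Qn f n) (dvd_a3₂ g t) (rd f n _ w) =
      rd f n (a3 g t) (resC (Qn f (n + 1)) (dvd_a3₀ g t) u +
        resC (Qn f (n + 1)) (dvd_a3₀ g t) (S.c (n + 1) (t.2.1, t.2.2)) * resC (Qn f (n + 1)) (dvd_a3₁ g t) v -
        resC (Qn f (n + 1)) (dvd_a3₂ g t) w) := by
  simp only [map_sub, map_add, map_mul, ← resC_rd, S.red]

theorem ed_elem (n : ℕ) (t : Fin r × Fin r × Fin r) (u : B f n (g t.1)) (v : B f n (g t.2.1))
    (w : B f n (g t.2.2)) :
    resC (Qn f n) (dvd_a3₀ g t)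
          (resC (Qn f n) (a := g t.2.2) (b := a2 g (t.2.1, t.2.2)) (dvd_mul_left _ _) w -
            S.c n (t.2.1, t.2.2) * resC (Qn f n) (a := g t.2.1) (b := a2 g (t.2.1, t.2.2)) (dvd_mul_right _ _) v) +
        resC (Qn f n) (dvd_a3₀ g t) (S.c n (t.2.1, t.2.2)) * resC (Qn f n) (dvd_a3₁ g t)
          (resC (Qn f n) (a := g t.2.1) (b := a2 g (t.1, t.2.1)) (dvd_mul_left _ _) v -
            S.c n (t.1, t.2.1) * resC (Qn f n) (a := g t.1) (b := a2 g (t.1, t.2.1)) (dvd_mul_right _ _) u) -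
        resC (Qn f n) (dvd_a3₂ g t)
          (resC (Qn f n) (a := g t.2.2) (b := a2 g (t.1, t.2.2)) (dvd_mul_left _ _) w -
            S.c n (t.1, t.2.2) * resC (Qn f n) (a := g t.1) (b := a2 g (t.1, t.2.2)) (dvd_mul_right _ _) u) = 0 := by
  simp only [map_sub, map_mul, resC_resC]
  rw [← S.coc n t]
  ring

set_option maxHeartbeats 1600000 in
/-- The twisted Čech complex. -/
def cx : Cx A f where
  C0 := FTower.pi fun i => tw f hnz (g i)
  C1 := FTower.pi fun p => tw f hnz (a2 g p)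
  C2 := FTower.pi fun t => tw f hnz (a3 g t)
  d :=
    { app := fun n => LinearMap.pi fun p : Fin r × Fin r =>
        (resC (Qn f n) (a := g p.2) (b := a2 g p) (dvd_mul_left _ _)).toLinearMap ∘ₗ LinearMap.proj p.2 -
          LinearMap.mulLeft A (S.c n p) ∘ₗ
            (resC (Qn f n) (a := g p.1) (b := a2 g p) (dvd_mul_right _ _)).toLinearMap ∘ₗ LinearMap.proj p.1
      comm := fun n x => funext fun p => by
        show resC (Qn f n) (a := g p.2) (b := a2 g p) (dvd_mul_left _ _) (rd f n (g p.2) (x p.2)) -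
            S.c n p * resC (Qn f n) (a := g p.1) (b := a2 g p) (dvd_mul_right _ _) (rd f n (g p.1) (x p.1)) =
          rd f n (a2 g p) (resC (Qn f (n + 1)) (a := g p.2) (b := a2 g p) (dvd_mul_left _ _) (x p.2) -
            S.c (n + 1) p * resC (Qn f (n + 1)) (a := g p.1) (b := a2 g p) (dvd_mul_right _ _) (x p.1))
        exact S.d_comm n p (x p.2) (x p.1) }
  e :=
    { app := fun n => LinearMap.pi fun t : Fin r × Fin r × Fin r =>
        (resC (Qn f n) (dvd_a3₀ g t)).toLinearMap ∘ₗ LinearMap.proj (t.2.1, t.2.2) +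
          LinearMap.mulLeft A (resC (Qn f n) (dvd_a3₀ g t) (S.c n (t.2.1, t.2.2))) ∘ₗ
            (resC (Qn f n) (dvd_a3₁ g t)).toLinearMap ∘ₗ LinearMap.proj (t.1, t.2.1) -
          (resC (Qn f n) (dvd_a3₂ g t)).toLinearMap ∘ₗ LinearMap.proj (t.1, t.2.2)
      comm := fun n x => funext fun t => by
        show resC (Qn f n) (dvd_a3₀ g t) (rd f n _ (x (t.2.1, t.2.2))) +
            resC (Qn f n) (dvd_a3₀ g t) (S.c n (t.2.1, t.2.2)) *
              resC (Qn f n) (dvd_a3₁ g t) (rd f n _ (x (t.1, t.2.1))) -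
            resC (Qn f n) (dvd_a3₂ g t) (rd f n _ (x (t.1, t.2.2))) =
          rd f n (a3 g t) (resC (Qn f (n + 1)) (dvd_a3₀ g t) (x (t.2.1, t.2.2)) +
            resC (Qn f (n + 1)) (dvd_a3₀ g t) (S.c (n + 1) (t.2.1, t.2.2)) *
              resC (Qn f (n + 1)) (dvd_a3₁ g t) (x (t.1, t.2.1)) -
            resC (Qn f (n + 1)) (dvd_a3₂ g t) (x (t.1, t.2.2)))
        exact S.e_comm n t (x (t.2.1, t.2.2)) (x (t.1, t.2.1)) (x (t.1, t.2.2)) }
  ed n x := funext fun t => S.ed_elem n t (x t.1) (x t.2.1) (x t.2.2)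

theorem mem_N_iff {n : ℕ} {x : ∀ i, B f n (g i)} : x ∈ (S.cx hnz).N n ↔ ∀ p : Fin r × Fin r,
    resC (Qn f n) (a := g p.2) (b := a2 g p) (dvd_mul_left _ _) (x p.2) =
      S.c n p * resC (Qn f n) (a := g p.1) (b := a2 g p) (dvd_mul_right _ _) (x p.1) :=
  funext_iff.trans (forall_congr' fun _ => sub_eq_zero)

theorem exists_coboundary {z : ∀ p : Fin r × Fin r, B f 0 (a2 g p)} (hz : (S.cx hnz).e.app 0 z = 0) (l : Fin r) :
    ∃ K : ℕ, g l ^ K • z ∈ LinearMap.range ((S.cx hnz).d.app 0) := by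
  choose K hK using fun i : Fin r =>
    exists_resC_eq (C := Qn f 0) (u := g l) (b := g i) (a := a2 g (l, i)) rfl (dvd_mul_left _ _) (z (l, i))
  choose y hy using fun i => hK i (Finset.univ.sup K) (Finset.le_sup (f := K) (Finset.mem_univ i))
  let K₀ := Finset.univ.sup K
  have key : ∀ p : Fin r × Fin r, ∃ M : ℕ, g l ^ M • (g l ^ K₀ • z p -
      (resC (Qn f 0) (a := g p.2) (b := a2 g p) (dvd_mul_left _ _) (y p.2) -
        S.c 0 p * resC (Qn f 0) (a := g p.1) (b := a2 g p) (dvd_mul_right _ _) (y p.1))) = 0 := fun p => by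
    have hc := congrFun hz (l, p.1, p.2)
    change resC (Qn f 0) (dvd_a3₀ g (l, p.1, p.2)) (z (p.1, p.2)) +
        resC (Qn f 0) (dvd_a3₀ g (l, p.1, p.2)) (S.c 0 (p.1, p.2)) *
          resC (Qn f 0) (dvd_a3₁ g (l, p.1, p.2)) (z (l, p.1)) -
        resC (Qn f 0) (dvd_a3₂ g (l, p.1, p.2)) (z (l, p.2)) = 0 at hc
    refine exists_kill_resC (C := Qn f 0) (u := g l) (a := a3 g (l, p.1, p.2)) (b := a2 g p)
      (by simp only [a2, a3]; ring) (dvd_a3₀ g (l, p.1, p.2)) ?_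
    have e1 := congrArg (resC (Qn f 0) (dvd_a3₁ g (l, p.1, p.2))) (hy p.1)
    have e2 := congrArg (resC (Qn f 0) (dvd_a3₂ g (l, p.1, p.2))) (hy p.2)
    rw [resC_resC, map_smul] at e1
    rw [resC_resC, map_smul] at e2
    simp only [map_sub, map_mul, map_smul, resC_resC]
    rw [e1, e2, mul_smul_comm]
    have h3 := congrArg (g l ^ K₀ • ·) hc
    simp only [smul_add, smul_sub, smul_zero] at h3
    rw [← h3]
    abel
  choose M hM using key
  refine ⟨Finset.univ.sup M + K₀, g l ^ Finset.univ.sup M • (fun i => y i), funext fun p => ?_⟩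
  obtain ⟨e, he⟩ := Nat.exists_eq_add_of_le (Finset.le_sup (f := M) (Finset.mem_univ p))
  show resC (Qn f 0) (a := g p.2) (b := a2 g p) (dvd_mul_left _ _) (g l ^ Finset.univ.sup M • y p.2) -
      S.c 0 p * resC (Qn f 0) (a := g p.1) (b := a2 g p) (dvd_mul_right _ _) (g l ^ Finset.univ.sup M • y p.1) =
    g l ^ (Finset.univ.sup M + K₀) • z p
  symm
  rw [← sub_eq_zero, map_smul, map_smul, mul_smul_comm, ← smul_sub, pow_add (g l), mul_smul, ← smul_sub, he, add_comm (M p) e,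
    pow_add (g l), mul_smul, hM, smul_zero]

theorem exists_lift_pow (l : Fin r) (m : ℕ) (s : (S.cx hnz).C0.B m) (hs : s ∈ (S.cx hnz).N m) :
    ∃ (K : ℕ), ∃ s' ∈ (S.cx hnz).N (m + 1), (S.cx hnz).C0.red m s' = g l ^ K • s := by
  obtain ⟨z, hz⟩ := Submodule.mkQ_surjective _ ((S.cx hnz).delta m ⟨s, hs⟩)
  obtain ⟨K, hK⟩ := S.exists_coboundary hnz z.2 l
  refine ⟨K, (S.cx hnz).exists_lift_of_delta (g l ^ K • (⟨s, hs⟩ : (S.cx hnz).N m)) ?_⟩
  rw [map_smul, ← hz, ← map_smul, Submodule.mkQ_apply, Submodule.Quotient.mk_eq_zero]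
  exact hK

include hnz in
theorem torsionSub_level [IsNoetherianRing A] {I : Ideal A} {ι : Type} (a : ι → A) (b : ι → A)
    (hb : ∀ i, b i ∈ I) (hd : ∀ i, b i ∣ a i) : DRing.torsionSub I (∀ i, B f 0 (a i)) = ⊥ := by
  refine (Submodule.eq_bot_iff _).2 fun x hx => funext fun i => ?_
  obtain ⟨n, hn⟩ := hx
  refine (smul_bijective_L (C := Qn f 0) (hd i) n).1 ?_
  show b i ^ n • x i = b i ^ n • 0
  rw [smul_zero]
  exact congrFun (hn _ (Ideal.pow_mem_pow (hb i) n)) i

end CocSys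

end Groth.Agent.LefAlgz.PicR
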