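import Groth.Agent.LefAlgz.PicCx
import Groth.Agent.LefAlgz.ModStab

/-!
# Coordinates of a module with local generators, and its cocycle
-/

noncomputable section

set_option autoImplicit false
set_option linter.style.haveILetI false
set_option backward.isDefEq.respectTransparency false
set_option backward.isDefEq.respectTransparency.types false

universe u

namespace Groth.Agent.LefAlgz.PicR

open Groth.Agent

variable {A : Type u} [CommRing A] {f : A} {r : ℕ} {g : Fin r → A} {P : Type u} [AddCommGroup P] [Module A P]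

variable (f g P) in
/-- A module killed by `f` with a free generator on every `D(g i)` modulo `f`. -/
structure Gens where
  e : Fin r → P
  killed : ∀ v : P, f • v = 0
  span : ∀ i (v : P), ∃ (K : ℕ) (a : A), g i ^ K • v = a • e i
  ann : ∀ i (a : A), a • e i = 0 → ∃ K : ℕ, f ∣ g i ^ K * a

variable (f g) in
/-- The constant generators of the truncation. -/
def Gens.one : Gens f g (Qn f 0) where
  e _ := 1
  killed v := by
    obtain ⟨c, rfl⟩ := Ideal.Quotient.mk_surjective v
    rw [smul_mk, Ideal.Quotient.eq_zero_iff_mem, Ideal.mem_span_singleton, zero_add, pow_one]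
    exact dvd_mul_right f c
  span i v := by
    obtain ⟨c, rfl⟩ := Ideal.Quotient.mk_surjective v
    refine ⟨0, c, ?_⟩
    rw [pow_zero, one_smul, ← map_one (Ideal.Quotient.mk _), smul_mk, mul_one]
  ann i a ha := by
    rw [← map_one (Ideal.Quotient.mk _), smul_mk, Ideal.Quotient.eq_zero_iff_mem, Ideal.mem_span_singleton,
      zero_add, pow_one, mul_one] at ha
    exact ⟨0, by rwa [pow_zero, one_mul]⟩

namespace Gens

variable (G : Gens f g P)

/-- Multiples of a generator. -/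
def φ (i : Fin r) : Qn f 0 →ₗ[A] P :=
  Submodule.liftQ _ (LinearMap.toSpanSingleton A P (G.e i)) (by
    rw [Ideal.span, Submodule.span_le]
    rintro _ rfl
    show f ^ (0 + 1) • G.e i = 0
    rw [zero_add, pow_one, G.killed])

theorem φ_mk (i : Fin r) (a : A) : G.φ i (Ideal.Quotient.mk _ a) = a • G.e i := rfl

theorem exists_kill_φ (i : Fin r) (v : Qn f 0) (hv : G.φ i v = 0) : ∃ K : ℕ, g i ^ K • v = 0 := by
  obtain ⟨a, rfl⟩ := Ideal.Quotient.mk_surjective v
  rw [φ_mk] at hv
  obtain ⟨K, hK⟩ := G.ann i a hv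
  refine ⟨K, ?_⟩
  rw [smul_mk, Ideal.Quotient.eq_zero_iff_mem, Ideal.mem_span_singleton, zero_add, pow_one]
  exact hK

theorem exists_mem_φ (i : Fin r) (v : P) : ∃ K : ℕ, g i ^ K • v ∈ LinearMap.range (G.φ i) := by
  obtain ⟨K, a, ha⟩ := G.span i v
  exact ⟨K, Ideal.Quotient.mk _ a, (G.φ_mk i a).trans ha.symm⟩

variable [IsNoetherianRing A] [Module.Finite A P]

theorem exists_sec (i : Fin r) : ∃ (k : ℕ) (σ : P →ₗ[A] Qn f 0), ∀ v, G.φ i (σ v) = g i ^ k • v :=
  exists_pow_section (G.φ i) (g i) (G.exists_kill_φ i) (G.exists_mem_φ i)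

/-- The coordinate with respect to a generator. -/
def X (i : Fin r) : P →ₗ[A] B f 0 (g i) :=
  (LinearEquiv.ofBijective ((g i) ^ (G.exists_sec i).choose • LinearMap.id : B f 0 (g i) →ₗ[A] B f 0 (g i))
      (smul_bijective_L (C := Qn f 0) dvd_rfl _)).symm.toLinearMap ∘ₗ
    H9Lef.lC (Qn f 0) (g i) ∘ₗ (G.exists_sec i).choose_spec.choose

theorem X_spec (i : Fin r) {v : P} {K : ℕ} {a : A} (h : g i ^ K • v = a • G.e i) :
    g i ^ K • G.X i v = algebraMap A (B f 0 (g i)) a := by
  have hσ := (G.exists_sec i).choose_spec.choose_spec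
  let k := (G.exists_sec i).choose
  let σ := (G.exists_sec i).choose_spec.choose
  have hX : g i ^ k • G.X i v = algebraMap (Qn f 0) (B f 0 (g i)) (σ v) :=
    LinearEquiv.apply_ofBijective_symm_apply
      (f := ((g i) ^ k • LinearMap.id : B f 0 (g i) →ₗ[A] B f 0 (g i)))
      (h := smul_bijective_L (C := Qn f 0) dvd_rfl _) (algebraMap (Qn f 0) (B f 0 (g i)) (σ v))
  obtain ⟨L, hL⟩ := G.exists_kill_φ i (g i ^ K • σ v - g i ^ k • Ideal.Quotient.mk _ a) (by
    rw [map_sub, map_smul, map_smul, hσ, φ_mk, ← h, smul_comm, sub_self])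
  have h1 : g i ^ L • (g i ^ K • (g i ^ k • G.X i v) - g i ^ k • algebraMap A (B f 0 (g i)) a) = 0 := by
    rw [hX, ← algebraMap_mk]
    show g i ^ L • (g i ^ K • H9Lef.lC (Qn f 0) (g i) (σ v) -
      g i ^ k • H9Lef.lC (Qn f 0) (g i) (Ideal.Quotient.mk _ a)) = 0
    have := congrArg (H9Lef.lC (Qn f 0) (g i)) hL
    simp only [map_smul, map_sub, map_zero] at this
    exact this
  refine (smul_bijective_L (C := Qn f 0) (dvd_refl (g i)) (L + k)).1 ?_
  show g i ^ (L + k) • g i ^ K • G.X i v = g i ^ (L + k) • algebraMap A (B f 0 (g i)) a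
  rw [← sub_eq_zero, pow_add (g i), mul_smul, mul_smul, ← smul_sub, smul_comm (g i ^ k) (g i ^ K)]
  exact h1

theorem X_self (i : Fin r) : G.X i (G.e i) = 1 := by
  have h := G.X_spec i (v := G.e i) (K := 0) (a := 1) (by rw [pow_zero])
  rwa [pow_zero, one_smul, map_one] at h

theorem exists_kill_X {i : Fin r} {v : P} (h : G.X i v = 0) : ∃ K : ℕ, g i ^ K • v = 0 := by
  obtain ⟨K, a, ha⟩ := G.span i v
  have h1 := G.X_spec i ha
  rw [h, smul_zero, ← algebraMap_mk] at h1
  obtain ⟨L, hL⟩ := exists_kill_L h1.symm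
  refine ⟨L + K, ?_⟩
  rw [pow_add (g i), mul_smul, ha, ← φ_mk, ← map_smul, hL, map_zero]

/-- Change of coordinates. -/
theorem X_res (p : Fin r × Fin r) (v : P) :
    resC (Qn f 0) (a := g p.2) (b := a2 g p) (dvd_mul_left _ _) (G.X p.2 v) =
      resC (Qn f 0) (a := g p.2) (b := a2 g p) (dvd_mul_left _ _) (G.X p.2 (G.e p.1)) *
        resC (Qn f 0) (a := g p.1) (b := a2 g p) (dvd_mul_right _ _) (G.X p.1 v) := by
  obtain ⟨K, a, ha⟩ := G.span p.1 v
  refine (smul_bijective_L (C := Qn f 0) (dvd_mul_right (g p.1) (g p.2)) K).1 ?_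
  show g p.1 ^ K • _ = g p.1 ^ K • _
  rw [← mul_smul_comm, ← map_smul, ← map_smul, ← map_smul, ha, G.X_spec p.1 ha, map_smul, map_smul,
    AlgHom.commutes, Algebra.smul_def]
  exact mul_comm _ _

/-- The cocycle of the generators. -/
def c0 (p : Fin r × Fin r) : B f 0 (a2 g p) :=
  resC (Qn f 0) (a := g p.2) (b := a2 g p) (dvd_mul_left _ _) (G.X p.2 (G.e p.1))

theorem isCoc_c0 : IsCoc 0 G.c0 := fun t => by
  have h := congrArg (resC (Qn f 0) (dvd_a3₀ g t)) (G.X_res (t.2.1, t.2.2) (G.e t.1))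
  simp only [map_mul, resC_resC] at h
  simp only [c0, resC_resC]
  exact h.symm

theorem isUnit_c0 (p : Fin r × Fin r) : IsUnit (G.c0 p) := by
  have h := G.X_res p (G.e p.2)
  rw [G.X_self, map_one] at h
  exact IsUnit.of_mul_eq_one _ h.symm

theorem one_c0 (p : Fin r × Fin r) : (Gens.one f g).c0 p = 1 := by
  show resC (Qn f 0) _ ((Gens.one f g).X p.2 ((Gens.one f g).e p.2)) = 1
  rw [X_self, map_one]

variable (S : CocSys f g) (hnz : f ∈ nonZeroDivisors A)

theorem X_mem (hS : ∀ p, S.c 0 p = G.c0 p) (v : P) : (fun i => G.X i v) ∈ (S.cx hnz).N 0 :=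
  (S.mem_N_iff hnz).2 fun p => by rw [hS]; exact G.X_res p v

theorem exists_X_eq (hS : ∀ p, S.c 0 p = G.c0 p) {x : ∀ i, B f 0 (g i)} (hx : x ∈ (S.cx hnz).N 0) (l : Fin r) :
    ∃ (K : ℕ) (v : P), g l ^ K • x = fun i => G.X i v := by
  obtain ⟨k, c, hc⟩ := exists_frac_L (C := Qn f 0) (g l) (x l)
  obtain ⟨a, rfl⟩ := Ideal.Quotient.mk_surjective c
  have hv : G.X l (a • G.e l) = g l ^ k • x l := by
    rw [map_smul, X_self, hc, algebraMap_mk]
    exact (Algebra.algebraMap_eq_smul_one a).symm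
  have key : ∀ i, ∃ M : ℕ, g l ^ M • (g l ^ k • x i - G.X i (a • G.e l)) = 0 := fun i => by
    refine exists_kill_resC (C := Qn f 0) (u := g l) (a := a2 g (l, i)) (b := g i) rfl (dvd_mul_left _ _) ?_
    rw [map_sub, map_smul, (S.mem_N_iff hnz).1 hx (l, i), hS, G.X_res (l, i) (a • G.e l), hv, ← mul_smul_comm,
      ← map_smul]
    exact sub_self _
  choose M hM using key
  refine ⟨Finset.univ.sup M + k, g l ^ Finset.univ.sup M • (a • G.e l), funext fun i => ?_⟩
  obtain ⟨e, he⟩ := Nat.exists_eq_add_of_le (Finset.le_sup (f := M) (Finset.mem_univ i))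
  show g l ^ (Finset.univ.sup M + k) • x i = G.X i (g l ^ Finset.univ.sup M • (a • G.e l))
  rw [LinearMap.map_smul (G.X i) (g l ^ Finset.univ.sup M) (a • G.e l), ← sub_eq_zero, pow_add (g l), mul_smul,
    ← smul_sub, he, add_comm (M i) e, pow_add (g l), mul_smul, hM, smul_zero]

end Gens

end Groth.Agent.LefAlgz.PicR
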