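import Groth.Agent.LefAlgz.PicGens

/-!
# Lifting line bundle cocycles through the powers of `f`
-/

noncomputable section

set_option autoImplicit false
set_option linter.style.haveILetI false
set_option backward.isDefEq.respectTransparency false
set_option backward.isDefEq.respectTransparency.types false

universe u

namespace Groth.Agent.LefAlgz.PicR

open Groth.Agent

variable {A : Type u} [CommRing A] {f : A} {r : ℕ} (g : Fin r → A)

/-- The index of a quadruple intersection. -/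
abbrev a4 (q : Fin r × Fin r × Fin r × Fin r) : A := g q.1 * g q.2.1 * g q.2.2.1 * g q.2.2.2

theorem dvd_a4₀ (q : Fin r × Fin r × Fin r × Fin r) : a3 g (q.2.1, q.2.2.1, q.2.2.2) ∣ a4 g q :=
  ⟨g q.1, by simp only [a3, a4]; ring⟩

theorem dvd_a4₁ (q : Fin r × Fin r × Fin r × Fin r) : a3 g (q.1, q.2.2.1, q.2.2.2) ∣ a4 g q :=
  ⟨g q.2.1, by simp only [a3, a4]; ring⟩

theorem dvd_a4₂ (q : Fin r × Fin r × Fin r × Fin r) : a3 g (q.1, q.2.1, q.2.2.2) ∣ a4 g q :=
  ⟨g q.2.2.1, by simp only [a3, a4]; ring⟩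

theorem dvd_a4₃ (q : Fin r × Fin r × Fin r × Fin r) : a3 g (q.1, q.2.1, q.2.2.1) ∣ a4 g q :=
  dvd_mul_right _ _

variable (f) in
/-- The differential of two-cochains at level zero. -/
def e4 : (∀ t : Fin r × Fin r × Fin r, B f 0 (a3 g t)) →ₗ[A]
    (∀ q : Fin r × Fin r × Fin r × Fin r, B f 0 (a4 g q)) :=
  LinearMap.pi fun q =>
    (resC (Qn f 0) (dvd_a4₀ g q)).toLinearMap ∘ₗ LinearMap.proj (q.2.1, q.2.2.1, q.2.2.2) -
      (resC (Qn f 0) (dvd_a4₁ g q)).toLinearMap ∘ₗ LinearMap.proj (q.1, q.2.2.1, q.2.2.2) +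
      (resC (Qn f 0) (dvd_a4₂ g q)).toLinearMap ∘ₗ LinearMap.proj (q.1, q.2.1, q.2.2.2) -
      (resC (Qn f 0) (dvd_a4₃ g q)).toLinearMap ∘ₗ LinearMap.proj (q.1, q.2.1, q.2.2.1)

theorem e4_apply (z : ∀ t : Fin r × Fin r × Fin r, B f 0 (a3 g t)) (q : Fin r × Fin r × Fin r × Fin r) :
    e4 f g z q = resC (Qn f 0) (dvd_a4₀ g q) (z (q.2.1, q.2.2.1, q.2.2.2)) -
      resC (Qn f 0) (dvd_a4₁ g q) (z (q.1, q.2.2.1, q.2.2.2)) +
      resC (Qn f 0) (dvd_a4₂ g q) (z (q.1, q.2.1, q.2.2.2)) -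
      resC (Qn f 0) (dvd_a4₃ g q) (z (q.1, q.2.1, q.2.2.1)) := rfl

variable {g} (hnz : f ∈ nonZeroDivisors A)

theorem e_one (y : ∀ p : Fin r × Fin r, B f 0 (a2 g p)) (t : Fin r × Fin r × Fin r) :
    (((CocSys.one f g).cx hnz).e.app 0 y : ∀ t, B f 0 (a3 g t)) t =
      resC (Qn f 0) (dvd_a3₀ g t) (y (t.2.1, t.2.2)) + resC (Qn f 0) (dvd_a3₁ g t) (y (t.1, t.2.1)) -
        resC (Qn f 0) (dvd_a3₂ g t) (y (t.1, t.2.2)) := by
  show resC (Qn f 0) (dvd_a3₀ g t) (y (t.2.1, t.2.2)) +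
      resC (Qn f 0) (dvd_a3₀ g t) (1 : B f 0 (a2 g (t.2.1, t.2.2))) * resC (Qn f 0) (dvd_a3₁ g t) (y (t.1, t.2.1)) -
      resC (Qn f 0) (dvd_a3₂ g t) (y (t.1, t.2.2)) = _
  rw [map_one, one_mul]

theorem e4_e (y : ∀ p : Fin r × Fin r, B f 0 (a2 g p)) :
    e4 f g (((CocSys.one f g).cx hnz).e.app 0 y : ∀ t, B f 0 (a3 g t)) = 0 := funext fun q => by
  rw [e4_apply, e_one, e_one, e_one, e_one]
  simp only [map_sub, map_add, resC_resC, Pi.zero_apply]
  abel

variable [IsNoetherianRing A]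

include hnz in
/-- Two-cocycles at level zero are coboundaries. -/
theorem exists_cochain {I : Ideal A} (hg : Ideal.span (Set.range g) = I)
    (h3 : Subsingleton (LocCoh.H I 3 (Qn f 0))) (z : ∀ t : Fin r × Fin r × Fin r, B f 0 (a3 g t))
    (hz : e4 f g z = 0) :
    ∃ y : ∀ p : Fin r × Fin r, B f 0 (a2 g p), ∀ t : Fin r × Fin r × Fin r,
      resC (Qn f 0) (dvd_a3₀ g t) (y (t.2.1, t.2.2)) + resC (Qn f 0) (dvd_a3₁ g t) (y (t.1, t.2.1)) -
        resC (Qn f 0) (dvd_a3₂ g t) (y (t.1, t.2.2)) = z t := by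
  let T := (CocSys.one f g).cx hnz
  have hgI : ∀ i, g i ∈ I := fun i => hg ▸ Ideal.subset_span ⟨i, rfl⟩
  have hS : ∀ p, (CocSys.one f g).c 0 p = (Gens.one f g).c0 p := fun p => (Gens.one_c0 p).symm
  let κ : Qn f 0 →ₗ[A] LinearMap.ker (T.d.app 0) :=
    LinearMap.codRestrict _ (LinearMap.pi fun i => (Gens.one f g).X i)
      (fun v => (Gens.one f g).X_mem (CocSys.one f g) hnz hS v)
  have hle : LinearMap.ker (e4 f g) ≤ LinearMap.range (T.e.app 0) := by
    refine mem_range_of_subsingleton_three (g := g) hg (X₀ := ∀ i, B f 0 (g i))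
      (X₁ := ∀ p : Fin r × Fin r, B f 0 (a2 g p)) (X₂ := ∀ t : Fin r × Fin r × Fin r, B f 0 (a3 g t))
      (T.d.app 0) (T.e.app 0) _ (T.ed 0) ?_ ?_ ?_ ?_ ?_ ?_ κ ?_ ?_ h3
    · rintro _ ⟨y, rfl⟩
      exact e4_e hnz y
    · exact subsingleton_pi (fun i => B f 0 (g i)) g hgI
        (fun i => by simpa using smul_bijective_L (C := Qn f 0) (dvd_refl (g i)) 1) 2
    · exact subsingleton_pi (fun p : Fin r × Fin r => B f 0 (a2 g p)) (fun p => g p.1) (fun p => hgI p.1)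
        (fun p => by simpa using smul_bijective_L (C := Qn f 0) (dvd_mul_right (g p.1) (g p.2)) 1) 1
    · exact CocSys.torsionSub_level hnz (a3 g) (fun t => g t.1) (fun t => hgI t.1)
        (fun t => (dvd_mul_right (g t.1) (g t.2.1)).trans (dvd_a3₁ g t))
    · exact fun w hw l => (CocSys.one f g).exists_coboundary hnz hw l
    · intro w hw l
      choose K hK using fun p : Fin r × Fin r =>
        exists_resC_eq (C := Qn f 0) (u := g l) (b := a2 g p) (a := a3 g (l, p.1, p.2))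
          (by simp only [a2, a3]; ring) (dvd_a3₀ g (l, p.1, p.2)) (w (l, p.1, p.2))
      choose y hy using fun p => hK p (Finset.univ.sup K) (Finset.le_sup (f := K) (Finset.mem_univ p))
      let K₀ := Finset.univ.sup K
      obtain ⟨E, hE⟩ : ∃ E : ∀ t : Fin r × Fin r × Fin r, B f 0 (a3 g t), E = T.e.app 0 y := ⟨_, rfl⟩
      have key : ∀ t : Fin r × Fin r × Fin r, ∃ M : ℕ, g l ^ M • (g l ^ K₀ • w t - E t) = 0 := fun t => by
        have hc := congrFun (LinearMap.mem_ker.1 hw) (l, t.1, t.2.1, t.2.2)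
        rw [e4_apply, Pi.zero_apply] at hc
        refine exists_kill_resC (C := Qn f 0) (u := g l) (a := a4 g (l, t.1, t.2.1, t.2.2)) (b := a3 g t)
          (by simp only [a3, a4]; ring) (dvd_a4₀ g (l, t.1, t.2.1, t.2.2)) ?_
        rw [hE, e_one]
        have e0 := congrArg (resC (Qn f 0) (dvd_a4₁ g (l, t.1, t.2.1, t.2.2))) (hy (t.2.1, t.2.2))
        have e1 := congrArg (resC (Qn f 0) (dvd_a4₃ g (l, t.1, t.2.1, t.2.2))) (hy (t.1, t.2.1))
        have e2 := congrArg (resC (Qn f 0) (dvd_a4₂ g (l, t.1, t.2.1, t.2.2))) (hy (t.1, t.2.2))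
        simp only [resC_resC, map_smul] at e0 e1 e2
        simp only [map_sub, map_add, map_smul, resC_resC]
        rw [e0, e1, e2]
        have h := congrArg (g l ^ K₀ • ·) hc
        simp only [smul_add, smul_sub, smul_zero] at h
        rw [← h]
        abel
      choose M hM using key
      refine ⟨Finset.univ.sup M + K₀, g l ^ Finset.univ.sup M • y, funext fun t => ?_⟩
      obtain ⟨e, he⟩ := Nat.exists_eq_add_of_le (Finset.le_sup (f := M) (Finset.mem_univ t))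
      rw [map_smul]
      refine Eq.trans (b := g l ^ Finset.univ.sup M • E t) (by rw [hE]; rfl) ?_
      show g l ^ Finset.univ.sup M • E t = g l ^ (Finset.univ.sup M + K₀) • w t
      symm
      rw [← sub_eq_zero, pow_add (g l), mul_smul, ← smul_sub, he, add_comm (M t) e, pow_add (g l), mul_smul, hM,
        smul_zero]
    · intro v hv l
      exact (Gens.one f g).exists_kill_X (i := l) (congrFun (congrArg Subtype.val hv) l)
    · intro x l
      obtain ⟨K, v, h⟩ := (Gens.one f g).exists_X_eq (CocSys.one f g) hnz hS x.2 l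
      exact ⟨K, v, Subtype.ext h.symm⟩
  obtain ⟨y, hy⟩ := hle (LinearMap.mem_ker.2 hz)
  exact ⟨y, fun t => (e_one hnz y t).symm.trans (congrFun hy t)⟩

include hnz in
set_option maxHeartbeats 1000000 in
/-- Cocycles lift to the next level. -/
theorem exists_next {I : Ideal A} (hg : Ideal.span (Set.range g) = I)
    (h3 : Subsingleton (LocCoh.H I 3 (Qn f 0))) (n : ℕ) (c : ∀ p : Fin r × Fin r, B f n (a2 g p))
    (hc : IsCoc n c) (hu : ∀ p, IsUnit (pr hnz n (c p))) :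
    ∃ c' : ∀ p : Fin r × Fin r, B f (n + 1) (a2 g p), IsCoc (n + 1) c' ∧
      (∀ p, IsUnit (pr hnz (n + 1) (c' p))) ∧ ∀ p, rd f n (a2 g p) (c' p) = c p := by
  have hs : ∀ p : Fin r × Fin r, ∃ w : B f (n + 1) (a2 g p), rd f n (a2 g p) w = c p :=
    fun p => (tw f hnz (a2 g p)).red_surj n (c p)
  choose w hw using hs
  let U : ∀ p : Fin r × Fin r, B f 0 (a2 g p) := fun p => pr hnz (n + 1) (w p)
  have hU : ∀ p, U p = pr hnz n (c p) := fun p => by rw [← hw p]; exact pr_succ hnz n (w p)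
  have hUu : ∀ p, IsUnit (U p) := fun p => hU p ▸ hu p
  choose V hV using fun p => (hUu p).exists_right_inv
  have hUc : ∀ t, resC (Qn f 0) (dvd_a3₀ g t) (U (t.2.1, t.2.2)) * resC (Qn f 0) (dvd_a3₁ g t) (U (t.1, t.2.1)) =
      resC (Qn f 0) (dvd_a3₂ g t) (U (t.1, t.2.2)) := fun t => by
    rw [hU, hU, hU, resC_pr, resC_pr, resC_pr, ← pr_mul, hc t]
  let D : ∀ t : Fin r × Fin r × Fin r, B f (n + 1) (a3 g t) := fun t =>
    resC (Qn f (n + 1)) (dvd_a3₀ g t) (w (t.2.1, t.2.2)) * resC (Qn f (n + 1)) (dvd_a3₁ g t) (w (t.1, t.2.1)) -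
      resC (Qn f (n + 1)) (dvd_a3₂ g t) (w (t.1, t.2.2))
  have hD : ∀ t, ∃ δ : B f 0 (a3 g t), mu hnz n δ = D t := fun t => by
    refine (tw f hnz (a3 g t)).exists_mu n (D t) ?_
    show rd f n (a3 g t) (D t) = 0
    simp only [D, map_sub, map_mul, ← resC_rd, hw]
    rw [hc t, sub_self]
  choose δ hδ using hD
  let ε : ∀ t : Fin r × Fin r × Fin r, B f 0 (a3 g t) := fun t =>
    resC (Qn f 0) (dvd_a3₂ g t) (V (t.1, t.2.2)) * δ t
  have hε : e4 f g ε = 0 := funext fun q => by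
    obtain ⟨i, j, k, l⟩ := q
    have hjk : a2 g (j, k) ∣ a4 g (i, j, k, l) := ⟨g i * g l, by simp only [a2, a4]; ring⟩
    have hjl : a2 g (j, l) ∣ a4 g (i, j, k, l) := ⟨g i * g k, by simp only [a2, a4]; ring⟩
    have hkl : a2 g (k, l) ∣ a4 g (i, j, k, l) := ⟨g i * g j, by simp only [a2, a4]; ring⟩
    have hij : a2 g (i, j) ∣ a4 g (i, j, k, l) := ⟨g k * g l, by simp only [a2, a4]; ring⟩
    have hik : a2 g (i, k) ∣ a4 g (i, j, k, l) := ⟨g j * g l, by simp only [a2, a4]; ring⟩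
    have hil : a2 g (i, l) ∣ a4 g (i, j, k, l) := ⟨g j * g k, by simp only [a2, a4]; ring⟩
    have h₀ : a3 g (j, k, l) ∣ a4 g (i, j, k, l) := dvd_a4₀ g (i, j, k, l)
    have h₁ : a3 g (i, k, l) ∣ a4 g (i, j, k, l) := dvd_a4₁ g (i, j, k, l)
    have h₂ : a3 g (i, j, l) ∣ a4 g (i, j, k, l) := dvd_a4₂ g (i, j, k, l)
    have h₃ : a3 g (i, j, k) ∣ a4 g (i, j, k, l) := dvd_a4₃ g (i, j, k, l)
    have hmu : mu hnz n (resC (Qn f 0) h₂ (δ (i, j, l)) +
        resC (Qn f 0) hij (U (i, j)) * resC (Qn f 0) h₀ (δ (j, k, l)) -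
        resC (Qn f 0) h₁ (δ (i, k, l)) -
        resC (Qn f 0) hkl (U (k, l)) * resC (Qn f 0) h₃ (δ (i, j, k))) = 0 := by
      simp only [map_sub, map_add, U, resC_pr, ← mul_mu, ← resC_mu, hδ (i, j, l), hδ (j, k, l), hδ (i, k, l),
        hδ (i, j, k)]
      simp only [D, map_sub, map_mul, resC_resC]
      ring
    have h := (tw f hnz (a4 g (i, j, k, l))).mu_injective n (hmu.trans (map_zero _).symm)
    have hj' := congrArg (resC (Qn f 0) h₂) (hUc (i, j, l))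
    have hk' := congrArg (resC (Qn f 0) h₁) (hUc (i, k, l))
    rw [map_mul] at hj' hk'
    simp only [resC_resC] at hj' hk'
    have vil := congrArg (resC (Qn f 0) hil) (hV (i, l))
    have vjl := congrArg (resC (Qn f 0) hjl) (hV (j, l))
    have vik := congrArg (resC (Qn f 0) hik) (hV (i, k))
    simp only [map_mul, map_one] at vil vjl vik
    rw [e4_apply, Pi.zero_apply]
    show resC (Qn f 0) h₀ (ε (j, k, l)) - resC (Qn f 0) h₁ (ε (i, k, l)) + resC (Qn f 0) h₂ (ε (i, j, l)) -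
      resC (Qn f 0) h₃ (ε (i, j, k)) = 0
    simp only [ε, map_mul, resC_resC]
    refine ((hUu (i, l)).map (resC (Qn f 0) hil)).mul_right_eq_zero.1 ?_
    linear_combination h + (resC (Qn f 0) h₂ (δ (i, j, l)) - resC (Qn f 0) h₁ (δ (i, k, l))) * vil +
      resC (Qn f 0) h₀ (δ (j, k, l)) *
        (resC (Qn f 0) hij (U (i, j)) * vjl - resC (Qn f 0) hjl (V (j, l)) * hj') -
      resC (Qn f 0) h₃ (δ (i, j, k)) *
        (resC (Qn f 0) hkl (U (k, l)) * vik - resC (Qn f 0) hik (V (i, k)) * hk')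
  obtain ⟨y, hy⟩ := exists_cochain hnz hg h3 ε hε
  let c' : ∀ p : Fin r × Fin r, B f (n + 1) (a2 g p) := fun p => w p - mu hnz n (U p * y p)
  refine ⟨c', fun t => ?_, fun p => ?_, fun p => ?_⟩
  · have hv := congrArg (resC (Qn f 0) (dvd_a3₂ g t)) (hV (t.1, t.2.2))
    simp only [map_mul, map_one] at hv
    have hyt := hy t
    simp only [ε] at hyt
    have key : mu hnz n (δ t -
        resC (Qn f 0) (dvd_a3₀ g t) (U (t.2.1, t.2.2)) * (resC (Qn f 0) (dvd_a3₁ g t) (U (t.1, t.2.1)) *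
          resC (Qn f 0) (dvd_a3₁ g t) (y (t.1, t.2.1))) -
        resC (Qn f 0) (dvd_a3₁ g t) (U (t.1, t.2.1)) * (resC (Qn f 0) (dvd_a3₀ g t) (U (t.2.1, t.2.2)) *
          resC (Qn f 0) (dvd_a3₀ g t) (y (t.2.1, t.2.2))) +
        resC (Qn f 0) (dvd_a3₂ g t) (U (t.1, t.2.2)) * resC (Qn f 0) (dvd_a3₂ g t) (y (t.1, t.2.2))) = 0 := by
      rw [show δ t - _ - _ + _ = (0 : B f 0 (a3 g t)) from ?_, map_zero]
      linear_combination -(resC (Qn f 0) (dvd_a3₀ g t) (y (t.2.1, t.2.2)) +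
          resC (Qn f 0) (dvd_a3₁ g t) (y (t.1, t.2.1))) * hUc t -
        resC (Qn f 0) (dvd_a3₂ g t) (U (t.1, t.2.2)) * hyt - δ t * hv
    have hmm := mu_mul_mu hnz n
      (resC (Qn f 0) (dvd_a3₀ g t) (U (t.2.1, t.2.2)) * resC (Qn f 0) (dvd_a3₀ g t) (y (t.2.1, t.2.2)))
      (resC (Qn f 0) (dvd_a3₁ g t) (U (t.1, t.2.1)) * resC (Qn f 0) (dvd_a3₁ g t) (y (t.1, t.2.1)))
    simp only [map_sub, map_add, U, resC_pr, ← mul_mu, ← resC_mu, hδ, D] at key
    simp only [U, resC_pr, ← mul_mu, ← resC_mu] at hmm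
    simp only [c', map_sub, resC_mu, map_mul, U, resC_pr]
    simp only [← mul_mu, ← resC_mu]
    linear_combination key + hmm
  · show IsUnit (pr hnz (n + 1) (w p - mu hnz n (U p * y p)))
    rw [pr_sub, pr_mu, sub_zero]
    exact hUu p
  · show rd f n (a2 g p) (w p - mu hnz n (U p * y p)) = c p
    rw [map_sub, hw, show rd f n (a2 g p) (mu hnz n (U p * y p)) = 0 from (tw f hnz _).red_mu n _, sub_zero]

include hnz in
/-- A cocycle of units at level zero extends to all levels. -/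
theorem exists_cocSys {I : Ideal A} (hg : Ideal.span (Set.range g) = I)
    (h3 : Subsingleton (LocCoh.H I 3 (Qn f 0))) (c : ∀ p : Fin r × Fin r, B f 0 (a2 g p))
    (hc : IsCoc 0 c) (hu : ∀ p, IsUnit (c p)) : ∃ S : CocSys f g, ∀ p, S.c 0 p = c p := by
  classical
  let X : ℕ → Type u := fun n =>
    {d : ∀ p : Fin r × Fin r, B f n (a2 g p) // IsCoc n d ∧ ∀ p, IsUnit (pr hnz n (d p))}
  let next : ∀ n, X n → X (n + 1) := fun n d =>
    ⟨(exists_next hnz hg h3 n d.1 d.2.1 d.2.2).choose,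
      (exists_next hnz hg h3 n d.1 d.2.1 d.2.2).choose_spec.1,
      (exists_next hnz hg h3 n d.1 d.2.1 d.2.2).choose_spec.2.1⟩
  let s : ∀ n, X n := fun n => Nat.rec (motive := X) ⟨c, hc, fun p => by rw [pr_zero]; exact hu p⟩ next n
  exact ⟨⟨fun n => (s n).1, fun n => (s n).2.1,
    fun n p => (exists_next hnz hg h3 n (s n).1 (s n).2.1 (s n).2.2).choose_spec.2.2 p⟩, fun _ => rfl⟩

end Groth.Agent.LefAlgz.PicR
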