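import Groth.Agent.RamSam.Core
import Groth.Agent.H9Lef.SecLC
import Groth.Agent.LefAlgz.ModAlg
import Mathlib.RingTheory.Filtration
import Mathlib.LinearAlgebra.Matrix.Charpoly.LinearMap

/-!
# Modules of rank one at primes, and their modification at one prime
-/

noncomputable section

set_option autoImplicit false
set_option linter.style.haveILetI false
set_option backward.isDefEq.respectTransparency false
set_option backward.isDefEq.respectTransparency.types false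

universe u

namespace Groth.Agent.LefAlgz.PicL

open Groth.Agent

variable {A : Type u} [CommRing A] {M N : Type u} [AddCommGroup M] [Module A M] [AddCommGroup N] [Module A N]

/-- A free generator at a prime. -/
def Gen (e : M) (p : Ideal A) : Prop :=
  (∀ x : M, ∃ t ∉ p, ∃ b : A, t • x = b • e) ∧ ∀ b : A, b • e = 0 → ∃ t ∉ p, t * b = 0

theorem Gen.rankOne {e : M} {p : Ideal A} (h : Gen e p) : RamSam.RankOne M p := ⟨e, h.1, h.2⟩

theorem Gen.mono {e : M} {p q : Ideal A} (h : Gen e p) (hqp : q ≤ p) : Gen e q := by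
  refine ⟨fun x => ?_, fun b hb => ?_⟩
  · obtain ⟨t, ht, b, hb⟩ := h.1 x
    exact ⟨t, fun hc => ht (hqp hc), b, hb⟩
  · obtain ⟨t, ht, h0⟩ := h.2 b hb
    exact ⟨t, fun hc => ht (hqp hc), h0⟩

theorem exists_rankOne {p : Ideal A} (h : RamSam.RankOne M p) : ∃ e : M, Gen e p := h

/-- An isomorphism at a prime. -/
def LocIso (φ : M →ₗ[A] N) (p : Ideal A) : Prop :=
  (∀ x, φ x = 0 → ∃ t ∉ p, t • x = 0) ∧ ∀ y, ∃ t ∉ p, t • y ∈ LinearMap.range φ

variable {φ : M →ₗ[A] N} {p : Ideal A} [hp : p.IsPrime]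

theorem rankOne_iff (h : LocIso φ p) : RamSam.RankOne M p ↔ RamSam.RankOne N p := by
  constructor
  · rintro ⟨e, he, ha⟩
    refine ⟨φ e, fun y => ?_, fun b hb => ?_⟩
    · obtain ⟨t, ht, x, hx⟩ := h.2 y
      obtain ⟨t', ht', b, hb⟩ := he x
      exact ⟨t' * t, hp.mul_notMem ht' ht, b, by rw [mul_smul, ← hx, ← map_smul, hb, map_smul]⟩
    · obtain ⟨t, ht, hte⟩ := h.1 (b • e) (by rw [map_smul, hb])
      obtain ⟨t', ht', h0⟩ := ha (t * b) (by rw [mul_smul, hte])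
      exact ⟨t' * t, hp.mul_notMem ht' ht, by rw [mul_assoc, h0]⟩
  · rintro ⟨e, he, ha⟩
    obtain ⟨t₀, ht₀, e', he'⟩ := h.2 e
    refine ⟨e', fun x => ?_, fun b hb => ?_⟩
    · obtain ⟨t, ht, b, hb⟩ := he (φ x)
      obtain ⟨t', ht', h0⟩ := h.1 ((t₀ * t) • x - b • e') (by
        rw [map_sub, map_smul, map_smul, he', mul_smul, hb, smul_comm, sub_self])
      refine ⟨t' * (t₀ * t), hp.mul_notMem ht' (hp.mul_notMem ht₀ ht), t' * b, ?_⟩
      rw [mul_smul, mul_smul t' b, ← sub_eq_zero, ← smul_sub, h0]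
    · obtain ⟨t, ht, h0⟩ := ha (b * t₀) (by rw [mul_smul, ← he', ← map_smul, hb, map_zero])
      exact ⟨t * t₀, hp.mul_notMem ht ht₀, by rw [mul_assoc, mul_comm t₀, h0]⟩

/-- A uniform denominator outside a prime. -/
theorem exists_uniform [Module.Finite A M] (S : Submodule A M) (h : ∀ y : M, ∃ t ∉ p, t • y ∈ S) :
    ∃ t ∉ p, ∀ y : M, t • y ∈ S := by
  classical
  obtain ⟨m, s, hs⟩ := Module.Finite.exists_fin (R := A) (M := M)
  choose t ht hts using fun i => h (s i)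
  refine ⟨∏ i, t i, fun hc => ?_, fun y => ?_⟩
  · obtain ⟨i, -, hi⟩ := hp.prod_mem_iff.1 hc
    exact ht i hi
  · have hle : Submodule.span A (Set.range s) ≤ S.comap ((∏ i, t i) • LinearMap.id) := by
      rw [Submodule.span_le]
      rintro _ ⟨i, rfl⟩
      show (∏ i, t i) • s i ∈ S
      obtain ⟨c, hc⟩ := Finset.dvd_prod_of_mem t (Finset.mem_univ i)
      rw [hc, mul_comm, mul_smul]
      exact S.smul_mem c (hts i)
    exact hle (hs ▸ Submodule.mem_top)

/-- Nakayama at a prime. -/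
theorem exists_kill [Module.Finite A M] {f : A} (hf : f ∈ p) (h : ∀ y : M, ∃ t ∉ p, ∃ z : M, t • y = f • z) :
    ∃ t ∉ p, ∀ y : M, t • y = 0 := by
  obtain ⟨t, ht, hty⟩ := exists_uniform (LinearMap.range (f • LinearMap.id : M →ₗ[A] M)) fun y => by
    obtain ⟨t, ht, z, hz⟩ := h y
    exact ⟨t, ht, z, hz.symm⟩
  obtain ⟨P, hP, -, hcoeff, hroot⟩ := LinearMap.exists_monic_and_coeff_mem_pow_and_aeval_eq_zero_of_range_le_smul
    A (algebraMap A (Module.End A M) t) (Ideal.span {f}) (by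
      rintro _ ⟨y, rfl⟩
      obtain ⟨z, hz⟩ := hty y
      show t • y ∈ _
      rw [← hz]
      exact Submodule.smul_mem_smul (Ideal.mem_span_singleton_self f) Submodule.mem_top)
  rw [Polynomial.aeval_algebraMap_apply, Polynomial.coe_aeval_eq_eval] at hroot
  refine ⟨P.eval t, fun hc => ?_, fun y => LinearMap.congr_fun hroot y⟩
  rw [Polynomial.eval_eq_sum_range, Finset.sum_range_succ, hP.coeff_natDegree, one_mul] at hc
  refine ht (hp.mem_of_pow_mem _ ((p.add_mem_iff_right (p.sum_mem fun k hk => ?_)).1 hc))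
  refine p.mul_mem_right _ ?_
  exact (Ideal.span_singleton_le_iff_mem _).2 hf (Ideal.pow_le_self (by
    have := Finset.mem_range.1 hk
    omega) (hcoeff k))

/-- Rank one spreads out. -/
theorem exists_nhd [IsNoetherianRing A] [Module.Finite A M] (h : RamSam.RankOne M p) :
    ∃ t ∉ p, ∀ q : Ideal A, q.IsPrime → t ∉ q → RamSam.RankOne M q := by
  obtain ⟨e, he, ha⟩ := h
  obtain ⟨t₁, ht₁, h₁⟩ := exists_uniform (Submodule.span A {e}) fun y => by
    obtain ⟨t, ht, b, hb⟩ := he y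
    exact ⟨t, ht, hb ▸ Submodule.smul_mem _ b (Submodule.mem_span_singleton_self e)⟩
  let K₀ := LinearMap.ker (LinearMap.toSpanSingleton A M e)
  obtain ⟨t₂, ht₂, h₂⟩ := exists_uniform (M := K₀) ⊥ fun b => by
    obtain ⟨t, ht, h0⟩ := ha b.1 b.2
    exact ⟨t, ht, (Submodule.mem_bot A).2 (Subtype.ext h0)⟩
  refine ⟨t₁ * t₂, hp.mul_notMem ht₁ ht₂, fun q hq htq => ⟨e, fun x => ?_, fun b hb => ?_⟩⟩
  · obtain ⟨b, hb⟩ := Submodule.mem_span_singleton.1 (h₁ x)
    exact ⟨t₁, fun hc => htq (q.mul_mem_right _ hc), b, hb.symm⟩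
  · exact ⟨t₂, fun hc => htq (q.mul_mem_left _ hc),
      congrArg Subtype.val ((Submodule.mem_bot A).1 (h₂ ⟨b, hb⟩))⟩

/-- A module which agrees with a rank one module modulo `f` has rank one where `f` vanishes. -/
theorem rankOne_of_model [IsNoetherianRing A] [Module.Finite A M] {f : A} (hf : f ∈ p) {W P : Type u}
    [AddCommGroup W] [Module A W] [AddCommGroup P] [Module A P] (π : M →ₗ[A] W) (κ : P →ₗ[A] W)
    (hM : ∀ x : M, f • x = 0 → x = 0) (hπ : ∀ x, π x = 0 → ∃ y : M, f • y = x)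
    (hπc : ∀ w, ∃ t ∉ p, t • w ∈ LinearMap.range π) (hκ : LocIso κ p) (e : P)
    (he : ∀ v : P, ∃ t ∉ p, ∃ b : A, t • v = b • e) (ha : ∀ b : A, b • e = 0 → ∃ t ∉ p, f ∣ t * b) :
    RamSam.RankOne M p := by
  obtain ⟨t₀, ht₀, e', he'⟩ := hπc (κ e)
  refine ⟨e', fun x => ?_, fun b hb => ?_⟩
  · obtain ⟨t, ht, hkill⟩ := exists_kill (M := M ⧸ Submodule.span A {e'}) hf fun y => by
      obtain ⟨y, rfl⟩ := Submodule.mkQ_surjective _ y
      obtain ⟨t₁, ht₁, v, hv⟩ := hκ.2 (π y)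
      obtain ⟨t₂, ht₂, b, hb⟩ := he v
      obtain ⟨z, hz⟩ := hπ ((t₀ * (t₂ * t₁)) • y - b • e') (by
        rw [map_sub, map_smul, map_smul, he', mul_smul, mul_smul, ← hv, ← map_smul κ, hb, map_smul, smul_comm,
          sub_self])
      refine ⟨t₀ * (t₂ * t₁), hp.mul_notMem ht₀ (hp.mul_notMem ht₂ ht₁), Submodule.mkQ _ z, ?_⟩
      rw [← map_smul, ← map_smul, hz, map_sub, eq_comm, sub_eq_self, Submodule.mkQ_apply, Submodule.Quotient.mk_eq_zero]
      exact Submodule.smul_mem _ b (Submodule.mem_span_singleton_self e')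
    have h0 := hkill (Submodule.mkQ _ x)
    rw [← map_smul, Submodule.mkQ_apply, Submodule.Quotient.mk_eq_zero, Submodule.mem_span_singleton] at h0
    obtain ⟨b, hb⟩ := h0
    exact ⟨t, ht, b, hb.symm⟩
  · obtain ⟨t, ht, hkill⟩ := exists_kill (M := LinearMap.ker (LinearMap.toSpanSingleton A M e')) hf fun c => by
      have hc : c.1 • e' = 0 := c.2
      obtain ⟨t₁, ht₁, h1⟩ := hκ.1 ((c.1 * t₀) • e) (by
        rw [map_smul, mul_smul, ← he', ← map_smul, hc, map_zero])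
      obtain ⟨t₂, ht₂, c', hc'⟩ := ha (t₁ * (c.1 * t₀)) (by rw [mul_smul, h1])
      have hc'e : c' • e' = 0 := hM _ (by
        rw [← mul_smul, ← hc', show t₂ * (t₁ * (c.1 * t₀)) = t₂ * t₁ * t₀ * c.1 by ring, mul_smul, hc, smul_zero])
      refine ⟨t₂ * t₁ * t₀, hp.mul_notMem (hp.mul_notMem ht₂ ht₁) ht₀, ⟨c', hc'e⟩, Subtype.ext ?_⟩
      show t₂ * t₁ * t₀ * c.1 = f * c'
      rw [← hc']; ring
    exact ⟨t, ht, congrArg Subtype.val (hkill ⟨b, hb⟩)⟩

omit hp in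
/-- A denominator outside `q` for a power of `b`. -/
theorem exists_mul_pow {q : Ideal A} [q.IsPrime] (J : Ideal A) (b : A)
    (h : ∀ P : Ideal A, P.IsPrime → P ≤ q → b ∉ P → ¬ J ≤ P) : ∃ t ∉ q, ∃ K : ℕ, t * b ^ K ∈ J := by
  by_contra hne
  have hd : Disjoint (J : Set A) ((q.primeCompl ⊔ Submonoid.powers b : Submonoid A) : Set A) := by
    refine Set.disjoint_left.2 fun x hxJ hxS => ?_
    obtain ⟨t, ht, _, ⟨K, rfl⟩, rfl⟩ := Submonoid.mem_sup.1 hxS
    exact hne ⟨t, ht, K, hxJ⟩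
  obtain ⟨P, hP, hJP, hPd⟩ := Ideal.exists_le_prime_disjoint J _ hd
  refine h P hP (fun x hx => ?_) (fun hb => ?_) hJP
  · by_contra hxq
    exact Set.disjoint_left.1 hPd hx (Submonoid.mem_sup_left (show x ∈ q.primeCompl from hxq))
  · exact Set.disjoint_left.1 hPd hb (Submonoid.mem_sup_right (Submonoid.mem_powers b))

omit hp in
/-- Near `q`, a power of `q` multiplies an element into a submodule. -/
theorem exists_pow_smul_near [IsNoetherianRing A] {q : Ideal A} [q.IsPrime] {k : ℕ} {b : Fin k → A}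
    (hb : Ideal.span (Set.range b) = q) (S : Submodule A M) (y : M)
    (h : ∀ j, ∀ P : Ideal A, P.IsPrime → P ≤ q → b j ∉ P → ∃ t ∉ P, t • y ∈ S) :
    ∃ t ∉ q, ∃ L : ℕ, ∀ c ∈ q ^ L, (t * c) • y ∈ S := by
  choose t ht K hK using fun j => exists_mul_pow (q := q) (S.comap (LinearMap.toSpanSingleton A M y)) (b j)
    fun P hP hPq hbP hle => by
      obtain ⟨t, htP, hty⟩ := h j P hP hPq hbP
      exact htP (hle hty)
  refine ⟨∏ j, t j, fun hc => ?_, ?_⟩
  · obtain ⟨i, -, hi⟩ := (inferInstance : q.IsPrime).prod_mem_iff.1 hc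
    exact ht i hi
  obtain ⟨L, hL⟩ := H9Lef.exists_pow_le_span hb (Finset.univ.sup K)
  refine ⟨L, fun c hc => ?_⟩
  have key : Ideal.span (Set.range fun j => b j ^ Finset.univ.sup K) ≤
      (S.comap (LinearMap.toSpanSingleton A M y)).comap ((∏ j, t j) • LinearMap.id : A →ₗ[A] A) := by
    rw [Ideal.span, Submodule.span_le]
    rintro _ ⟨j, rfl⟩
    obtain ⟨d, hd⟩ := Nat.exists_eq_add_of_le (Finset.le_sup (f := K) (Finset.mem_univ j))
    obtain ⟨w, hw⟩ := Finset.dvd_prod_of_mem t (Finset.mem_univ j)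
    show ((∏ j, t j) * b j ^ Finset.univ.sup K) • y ∈ S
    rw [hd, hw, pow_add, show t j * w * (b j ^ K j * b j ^ d) = (w * b j ^ d) * (t j * b j ^ K j) by ring, mul_smul]
    exact S.smul_mem _ (hK j)
  exact key (hL hc)

omit hp in
/-- A uniform version for all elements of a finite module. -/
theorem exists_pow_smul_near' [IsNoetherianRing A] [Module.Finite A M] {q : Ideal A} [q.IsPrime] {k : ℕ} {b : Fin k → A}
    (hb : Ideal.span (Set.range b) = q) (S : Submodule A M)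
    (h : ∀ y : M, ∀ j, ∀ P : Ideal A, P.IsPrime → P ≤ q → b j ∉ P → ∃ t ∉ P, t • y ∈ S) :
    ∃ t ∉ q, ∃ L : ℕ, ∀ c ∈ q ^ L, ∀ y : M, (t * c) • y ∈ S := by
  classical
  obtain ⟨m, s, hs⟩ := Module.Finite.exists_fin (R := A) (M := M)
  choose t ht L hL using fun i => exists_pow_smul_near (q := q) hb S (s i) (h (s i))
  refine ⟨∏ i, t i, fun hc => ?_, Finset.univ.sup L, fun c hc y => ?_⟩
  · obtain ⟨i, -, hi⟩ := (inferInstance : q.IsPrime).prod_mem_iff.1 hc
    exact ht i hi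
  · have hle : Submodule.span A (Set.range s) ≤ S.comap (((∏ i, t i) * c) • LinearMap.id) := by
      rw [Submodule.span_le]
      rintro _ ⟨i, rfl⟩
      show ((∏ i, t i) * c) • s i ∈ S
      obtain ⟨w, hw⟩ := Finset.dvd_prod_of_mem t (Finset.mem_univ i)
      rw [hw, show t i * w * c = w * (t i * c) by ring, mul_smul]
      exact S.smul_mem w (hL i c (Ideal.pow_le_pow_right (Finset.le_sup (Finset.mem_univ i)) hc))
    exact hle (hs ▸ Submodule.mem_top)

omit hp in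
set_option maxHeartbeats 1000000 in
/-- Modify a module at one prime so that it becomes free of rank one there. -/
theorem exists_modify [IsNoetherianRing A] [Module.Finite A M] {q : Ideal A} [q.IsPrime] {k : ℕ} {b : Fin k → A}
    (hb : Ideal.span (Set.range b) = q) (n : ℕ) (m : Fin k → M) (hcomp : ∀ i j, b i ^ n • m j = b j ^ n • m i)
    (hgen : ∀ j, ∀ P : Ideal A, P.IsPrime → P ≤ q → b j ∉ P → Gen (m j) P) :
    ∃ (M₁ : Type u) (_ : AddCommGroup M₁) (_ : Module A M₁) (M' : Type u) (_ : AddCommGroup M') (_ : Module A M')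
      (ι : M →ₗ[A] M₁) (ρ : M' →ₗ[A] M₁), Module.Finite A M₁ ∧ Module.Finite A M' ∧
      (∀ P : Ideal A, P.IsPrime → ¬ q ≤ P → LocIso ι P ∧ LocIso ρ P) ∧ RamSam.RankOne M' q := by
  classical
  let S : Submodule A (M × A) := Submodule.span A (Set.range fun i => (m i, -(b i ^ n)))
  let ι : M →ₗ[A] (M × A) ⧸ S := S.mkQ ∘ₗ LinearMap.inl A M A
  let ψ : A →ₗ[A] (M × A) ⧸ S := S.mkQ ∘ₗ LinearMap.inr A M A
  have hmem : ∀ z ∈ S, ∃ c : Fin k → A, z.1 = ∑ i, c i • m i ∧ z.2 = -∑ i, c i * b i ^ n := fun z hz => by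
    obtain ⟨c, rfl⟩ := (Submodule.mem_span_range_iff_exists_fun A).1 hz
    exact ⟨c, by simp [Prod.fst_sum], by simp [Prod.snd_sum]⟩
  have hrel : ∀ j, ι (m j) = ψ (b j ^ n) := fun j => by
    rw [← sub_eq_zero]
    show S.mkQ ((m j, (0 : A))) - S.mkQ ((0 : M), b j ^ n) = 0
    rw [← map_sub, Submodule.mkQ_apply, Submodule.Quotient.mk_eq_zero]
    refine Submodule.subset_span ⟨j, ?_⟩
    simp
  have hsum : ∀ (c : Fin k → A) (j : Fin k), b j ^ n • (∑ i, c i • m i) = (∑ i, c i * b i ^ n) • m j := fun c j => by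
    rw [Finset.smul_sum, Finset.sum_smul]
    exact Finset.sum_congr rfl fun i _ => by rw [smul_comm, hcomp, mul_smul]
  have hιk : ∀ x, ι x = 0 → ∀ j, b j ^ n • x = 0 := fun x hx j => by
    obtain ⟨c, h1, h2⟩ := hmem _ ((Submodule.Quotient.mk_eq_zero S).1 hx)
    change x = _ at h1
    change (0 : A) = _ at h2
    rw [h1, hsum, neg_eq_zero.1 h2.symm, zero_smul]
  have hιc : ∀ y j, b j ^ n • y ∈ LinearMap.range ι := fun y j => by
    obtain ⟨⟨x, a⟩, rfl⟩ := Submodule.mkQ_surjective S y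
    refine ⟨b j ^ n • x + a • m j, ?_⟩
    rw [map_add, map_smul, map_smul, hrel, show ((x, a) : M × A) = LinearMap.inl A M A x + LinearMap.inr A M A a from
      by simp, map_add, smul_add]
    congr 1
    show a • ψ (b j ^ n) = b j ^ n • ψ a
    rw [← map_smul, ← map_smul, smul_eq_mul, smul_eq_mul, mul_comm]
  have hψk : ∀ a, ψ a = 0 → ∀ j, a • m j = 0 := fun a ha j => by
    obtain ⟨c, h1, h2⟩ := hmem _ ((Submodule.Quotient.mk_eq_zero S).1 ha)
    change (0 : M) = _ at h1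
    change a = _ at h2
    rw [h2, neg_smul, ← hsum, ← h1, smul_zero, neg_zero]
  obtain ⟨t₂, ht₂, L, hL⟩ := exists_pow_smul_near' (M := (M × A) ⧸ S) hb (LinearMap.range ψ) fun y j P hP hPq hbP => by
    obtain ⟨x, hx⟩ := hιc y j
    obtain ⟨t, ht, c, hc⟩ := (hgen j P hP hPq hbP).1 x
    refine ⟨t * b j ^ n, hP.mul_notMem ht fun h => hbP (hP.mem_of_pow_mem n h), c • b j ^ n, ?_⟩
    rw [map_smul, ← hrel, ← map_smul, ← hc, map_smul, hx, mul_smul]
  obtain ⟨t₃, ht₃, L', hL'⟩ := exists_pow_smul_near' (M := LinearMap.ker ψ) hb ⊥ fun a j P hP hPq hbP => by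
    obtain ⟨t, ht, h0⟩ := (hgen j P hP hPq hbP).2 a.1 (hψk a.1 a.2 j)
    exact ⟨t, ht, (Submodule.mem_bot A).2 (Subtype.ext h0)⟩
  obtain ⟨k₀, hk₀⟩ := Ideal.exists_pow_inf_eq_pow_smul q (LinearMap.ker ψ)
  let K := k₀ + L'
  have hsmall : ∀ a ∈ q ^ K, ψ a = 0 → t₃ * a = 0 := fun a ha hψ => by
    have h1 : a ∈ (q ^ K • ⊤ : Submodule A A) ⊓ LinearMap.ker ψ :=
      ⟨by rw [smul_eq_mul, Ideal.mul_top]; exact ha, hψ⟩
    rw [hk₀ K (Nat.le_add_right _ _), show K - k₀ = L' by omega] at h1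
    refine Submodule.smul_induction_on (p := fun x => t₃ * x = 0) h1 (fun c hc x hx => ?_)
      fun x y hx hy => by rw [mul_add, hx, hy, add_zero]
    have := congrArg Subtype.val ((Submodule.mem_bot A).1 (hL' c hc ⟨x, hx.2⟩))
    show t₃ * (c * x) = 0
    rw [← mul_assoc]
    exact this
  let M₂ : Submodule A ((M × A) ⧸ S) := LinearMap.range ψ ⊔ q ^ L • ⊤
  have hM₂ : ∀ y ∈ M₂, t₂ • y ∈ LinearMap.range ψ := fun y hy => by
    obtain ⟨u, hu, v, hv, rfl⟩ := Submodule.mem_sup.1 hy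
    rw [smul_add]
    refine add_mem (Submodule.smul_mem _ _ hu) (Submodule.smul_induction_on hv (fun c hc x _ => ?_)
      fun x y hx hy => by rw [smul_add]; exact add_mem hx hy)
    rw [smul_smul]
    exact hL c hc x
  have hqK : ∀ y ∈ (q ^ K • M₂ : Submodule A ((M × A) ⧸ S)), ∃ a ∈ q ^ K, ψ a = t₂ • y := fun y hy => by
    refine Submodule.smul_induction_on hy (fun c hc x hx => ?_) fun x y ⟨a, ha, hax⟩ ⟨a', ha', hay⟩ =>
      ⟨a + a', add_mem ha ha', by rw [map_add, hax, hay, smul_add]⟩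
    obtain ⟨a, ha⟩ := hM₂ x hx
    exact ⟨c • a, Ideal.mul_mem_right _ _ hc, by rw [map_smul, ha, smul_comm]⟩
  let γ : A →ₗ[A] ((M × A) ⧸ S) × (A ⧸ q ^ K) := ψ.prod (Submodule.mkQ (q ^ K))
  let M' : Submodule A (((M × A) ⧸ S) × (A ⧸ q ^ K)) :=
    LinearMap.range γ ⊔ (q ^ K • M₂).map (LinearMap.inl A _ _)
  let ρ : M' →ₗ[A] (M × A) ⧸ S := LinearMap.fst A _ _ ∘ₗ M'.subtype
  haveI : IsNoetherian A (((M × A) ⧸ S) × (A ⧸ q ^ K)) := isNoetherian_of_isNoetherianRing_of_finite A _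
  refine ⟨(M × A) ⧸ S, inferInstance, inferInstance, M', inferInstance, inferInstance, ι, ρ, inferInstance,
    inferInstance, fun P hP hqP => ?_, ?_⟩
  · obtain ⟨j, hj⟩ : ∃ j, b j ∉ P := by
      by_contra hall
      push_neg at hall
      exact hqP (hb ▸ Ideal.span_le.2 (by rintro _ ⟨j, rfl⟩; exact hall j))
    have hpow : ∀ i : ℕ, b j ^ i ∉ P := fun i h => hj (hP.mem_of_pow_mem i h)
    have hbq : b j ∈ q := hb ▸ Ideal.subset_span ⟨j, rfl⟩
    refine ⟨⟨fun x hx => ⟨_, hpow n, hιk x hx j⟩, fun y => ⟨_, hpow n, hιc y j⟩⟩, fun z hz => ?_, fun y => ?_⟩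
    · refine ⟨_, hpow K, Subtype.ext (Prod.ext ?_ ?_)⟩
      · show b j ^ K • ρ z = 0
        rw [hz, smul_zero]
      · show b j ^ K • z.1.2 = 0
        obtain ⟨a, ha⟩ := Submodule.mkQ_surjective (q ^ K) z.1.2
        rw [← ha, ← map_smul, Submodule.mkQ_apply, Submodule.Quotient.mk_eq_zero]
        exact Ideal.mul_mem_right _ _ (Ideal.pow_mem_pow hbq K)
    · have hy : b j ^ L • y ∈ M₂ :=
        Submodule.mem_sup_right (Submodule.smul_mem_smul (Ideal.pow_mem_pow hbq L) Submodule.mem_top)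
      refine ⟨b j ^ K * b j ^ L, hP.mul_notMem (hpow K) (hpow L),
        ⟨((b j ^ K * b j ^ L) • y, 0), Submodule.mem_sup_right ⟨_, ?_, rfl⟩⟩, rfl⟩
      show (b j ^ K * b j ^ L) • y ∈ q ^ K • M₂
      rw [mul_smul]
      exact Submodule.smul_mem_smul (Ideal.pow_mem_pow hbq K) hy
  · refine ⟨⟨γ 1, Submodule.mem_sup_left ⟨1, rfl⟩⟩, fun z => ?_, fun a ha => ?_⟩
    · obtain ⟨u, ⟨a, hu⟩, v, ⟨s, hs, hv⟩, huv⟩ := Submodule.mem_sup.1 z.2
      obtain ⟨a', ha', has⟩ := hqK s hs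
      refine ⟨t₂, ht₂, t₂ * a + a', Subtype.ext ?_⟩
      show t₂ • z.1 = (t₂ * a + a') • γ 1
      rw [← huv, ← hu, ← hv, ← map_smul γ, smul_eq_mul, mul_one, map_add, smul_add, ← map_smul γ, smul_eq_mul]
      congr 1
      refine Prod.ext has.symm ?_
      show t₂ • (0 : A ⧸ q ^ K) = Submodule.mkQ (q ^ K) a'
      rw [smul_zero, eq_comm, Submodule.mkQ_apply, Submodule.Quotient.mk_eq_zero]
      exact ha'
    · have h0 : a • γ 1 = 0 := congrArg Subtype.val ha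
      rw [← map_smul, smul_eq_mul, mul_one] at h0
      exact ⟨t₃, ht₃, hsmall a ((Submodule.Quotient.mk_eq_zero _).1 (congrArg Prod.snd h0)) (congrArg Prod.fst h0)⟩

end Groth.Agent.LefAlgz.PicL
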