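import Groth.Agent.LefAlgz.PicLift

/-!
# The limit module of a lifted line bundle
-/

noncomputable section

set_option autoImplicit false
set_option linter.style.haveILetI false
set_option backward.isDefEq.respectTransparency false
set_option backward.isDefEq.respectTransparency.types false

universe u

namespace Groth.Agent.LefAlgz.PicR

open Groth.Agent

variable {A : Type u} [CommRing A] [IsNoetherianRing A] {f : A}

/-- A finite module whose reduction modulo `f` agrees, away from `I`, with a module free of rank one modulo `f`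
there. -/
theorem exists_model (hnz : f ∈ nonZeroDivisors A) [IsAdicComplete (Ideal.span {f}) A] {I : Ideal A} {r : ℕ}
    {g : Fin r → A} (hg : Ideal.span (Set.range g) = I) {P : Type u} [AddCommGroup P] [Module A P] [Module.Finite A P]
    (G : Gens f g P) (h1 : FinH I 1 (A ⧸ Ideal.span {f})) (h2 : FinH I 2 (A ⧸ Ideal.span {f}))
    (h3 : Subsingleton (LocCoh.H I 3 (A ⧸ Ideal.span {f}))) :
    ∃ (M : Type u) (_ : AddCommGroup M) (_ : Module A M) (W : Type u) (_ : AddCommGroup W) (_ : Module A W)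
      (π : M →ₗ[A] W) (κ : P →ₗ[A] W), Module.Finite A M ∧ Module.Finite A W ∧
      (∀ x : M, f • x = 0 → x = 0) ∧ (∀ w : W, f • w = 0) ∧ (∀ x, π x = 0 → ∃ y : M, f • y = x) ∧
      (∀ (l : Fin r) (w : W), ∃ K : ℕ, g l ^ K • w ∈ LinearMap.range π) ∧
      (∀ (l : Fin r) (v : P), κ v = 0 → ∃ K : ℕ, g l ^ K • v = 0) ∧
      ∀ (l : Fin r) (w : W), ∃ K : ℕ, g l ^ K • w ∈ LinearMap.range κ := by
  have hI : Ideal.span {f} = Ideal.span {f ^ (0 + 1)} := by rw [zero_add, pow_one]
  have h3' : Subsingleton (LocCoh.H I 3 (Qn f 0)) := by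
    show Subsingleton (LocCoh.H I 3 (A ⧸ Ideal.span {f ^ (0 + 1)}))
    rwa [← hI]
  have h1' : FinH I 1 (Qn f 0) := by
    show FinH I 1 (A ⧸ Ideal.span {f ^ (0 + 1)})
    rwa [← hI]
  have h2' : FinH I 2 (Qn f 0) := by
    show FinH I 2 (A ⧸ Ideal.span {f ^ (0 + 1)})
    rwa [← hI]
  obtain ⟨S, hS⟩ := exists_cocSys hnz hg h3' G.c0 G.isCoc_c0 G.isUnit_c0
  have hgI : ∀ i, g i ∈ I := fun i => hg ▸ Ideal.subset_span ⟨i, rfl⟩
  let T := S.cx hnz
  let κ : P →ₗ[A] T.N 0 := LinearMap.codRestrict _ (LinearMap.pi fun i => G.X i) (fun v => G.X_mem S hnz hS v)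
  have hk : ∀ v, κ v = 0 → ∀ l, ∃ K : ℕ, g l ^ K • v = 0 :=
    fun v hv l => G.exists_kill_X (i := l) (congrFun (congrArg Subtype.val hv) l)
  have hc : ∀ x, ∀ l, ∃ K : ℕ, g l ^ K • x ∈ LinearMap.range κ := fun x l => by
    obtain ⟨K, v, h⟩ := G.exists_X_eq S hnz hS x.2 l
    exact ⟨K, v, Subtype.ext h.symm⟩
  have hsplit : Split g (Qn f 0) P := fun i => by
    obtain ⟨k, σ, hσ⟩ := G.exists_sec i
    exact ⟨1, k, LinearMap.pi fun _ => σ, G.φ i ∘ₗ LinearMap.proj 0, hσ⟩
  obtain ⟨hN, hH⟩ : Module.Finite A (T.N 0) ∧ Module.Finite A T.H := by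
    refine finite_cech (g := g) hg (X := ∀ i, B f 0 (g i)) (W := ∀ p : Fin r × Fin r, B f 0 (a2 g p))
      (T.d.app 0) T.Z ?_ ?_ ?_ ?_ (hsplit.finH_one hg h1') (hsplit.finH_two hg h1' h2') κ hk hc
    · rintro _ ⟨x, rfl⟩
      exact T.ed 0 x
    · exact subsingleton_pi (fun i => B f 0 (g i)) g hgI
        (fun i => by simpa using smul_bijective_L (C := Qn f 0) (dvd_refl (g i)) 1)
    · exact CocSys.torsionSub_level hnz (a2 g) (fun p => g p.1) (fun p => hgI p.1)
        (fun p => dvd_mul_right (g p.1) (g p.2))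
    · exact fun z hz l => S.exists_coboundary hnz hz l
  haveI : IsNoetherian A T.H := isNoetherian_of_isNoetherianRing_of_finite A _
  haveI := T.finite_M
  let π : T.M →ₗ[A] T.N 0 := LinearMap.codRestrict _ (T.ev 0) (T.ev_mem 0)
  refine ⟨T.M, inferInstance, inferInstance, T.N 0, inferInstance, inferInstance, π, κ, inferInstance, hN,
    fun x hx => T.smul_injective (hx.trans (smul_zero f).symm), fun w => Subtype.ext ?_,
    fun x hx => T.exists_smul_of_ev_zero x (congrArg Subtype.val hx), fun l w => ?_,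
    fun l v hv => hk v hv l, fun l w => hc w l⟩
  · show f • w.1 = 0
    have := T.C0.killed 0 w.1
    rwa [zero_add, pow_one] at this
  · obtain ⟨K, hK⟩ := T.pow_mem_stable (g := g l) (fun m s hs => S.exists_lift_pow hnz l m s hs)
      (n := 0) (s := w.1) w.2
    obtain ⟨m, hm⟩ := T.exists_ev_eq hK
    exact ⟨K, m, Subtype.ext hm⟩

end Groth.Agent.LefAlgz.PicR
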