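import Groth.Agent.LefAlgz.PicQuot
import Groth.Agent.LefAlgz.PicModel
import Mathlib.RingTheory.Ideal.KrullsHeightTheorem

/-!
# Extending invertible modules from a hypersurface in a punctured spectrum
-/

noncomputable section

set_option autoImplicit false
set_option linter.style.haveILetI false
set_option backward.isDefEq.respectTransparency false
set_option backward.isDefEq.respectTransparency.types false

universe u

open CategoryTheory AlgebraicGeometry IsLocalRing

namespace Groth.Agent.LefAlgz.PicM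

open Groth.Agent Groth.Agent.LefAlgz.PicL Groth.Agent.LefAlgz.PicQ

variable {A : Type u} [CommRing A] [IsNoetherianRing A] [IsLocalRing A] {f : A}

/-- A module inducing the given sheaf on the hypersurface. -/
def Extends (f : A) (L₀ : (↑(V f) : Scheme.{u}).Modules) (M : Type u) [AddCommGroup M] [Module A M] : Prop :=
  Nonempty ((Formal2.tmod (A ⧸ Ideal.span {f}) (Red f M)).restrict (V f).ι ≅ L₀)

theorem Extends.map (hf : f ∈ maximalIdeal A) {L₀ : (↑(V f) : Scheme.{u}).Modules} {M N : Type u} [AddCommGroup M]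
    [Module A M] [AddCommGroup N] [Module A N] (φ : M →ₗ[A] N)
    (h : ∀ p : Ideal A, p.IsPrime → f ∈ p → p ≠ maximalIdeal A → LocIso φ p) :
    Extends f L₀ M ↔ Extends f L₀ N := by
  obtain ⟨i⟩ := nonempty_iso_restrict hf (qmap f φ) fun p hp hfp hne => locIso_qmap hp (h p hp hfp hne)
  exact ⟨fun ⟨e⟩ => ⟨i.symm ≪≫ e⟩, fun ⟨e⟩ => ⟨i ≪≫ e⟩⟩

theorem exists_module (hf : f ∈ maximalIdeal A) (hnz : f ∈ nonZeroDivisors A) [IsAdicComplete (Ideal.span {f}) A]
    (h₁ : Module.Finite A (LocCoh.H (maximalIdeal A) 1 (A ⧸ Ideal.span {f})))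
    (h₂ : Module.Finite A (LocCoh.H (maximalIdeal A) 2 (A ⧸ Ideal.span {f})))
    (h₃ : Subsingleton (LocCoh.H (maximalIdeal A) 3 (A ⧸ Ideal.span {f})))
    (L₀ : (↑(V f) : Scheme.{u}).Modules) (hL : PicF.IsInvertible L₀) :
    ∃ (M : Type u) (_ : AddCommGroup M) (_ : Module A M), Module.Finite A M ∧ Extends f L₀ M ∧
      ∀ p : Ideal A, p.IsPrime → f ∈ p → p ≠ maximalIdeal A → RamSam.RankOne M p := by
  obtain ⟨P, _, _, _, _, r, g, hPfin, hrad, ⟨G⟩, ⟨eP⟩⟩ := exists_gens hf L₀ hL
  let I := Ideal.span (Set.range g)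
  have hIrad : (maximalIdeal A).radical = I.radical :=
    ((IsLocalRing.maximalIdeal.isMaximal A).isPrime.radical).trans hrad.symm
  have h1 : FinH I 1 (A ⧸ Ideal.span {f}) := LC.finite_H_of_radical_eq hIrad 1 (ModuleCat.of A _) h₁
  have h2 : FinH I 2 (A ⧸ Ideal.span {f}) := LC.finite_H_of_radical_eq hIrad 2 (ModuleCat.of A _) h₂
  have h3 : Subsingleton (LocCoh.H I 3 (A ⧸ Ideal.span {f})) :=
    LC.subsingleton_H_of_radical_eq hIrad 3 (ModuleCat.of A _) h₃
  obtain ⟨M, _, _, W, _, _, π, κ, hMfin, hWfin, hreg, hW, hπ, hπc, hκ, hκc⟩ :=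
    PicR.exists_model hnz (I := I) rfl G h1 h2 h3
  have hl : ∀ p : Ideal A, p.IsPrime → p ≠ maximalIdeal A → ∃ l, g l ∉ p := fun p hp hne => by
    by_contra hall
    push_neg at hall
    refine hne (le_antisymm (IsLocalRing.le_maximalIdeal hp.ne_top) ?_)
    rw [← hrad, ← hp.radical]
    exact Ideal.radical_mono (Ideal.span_le.2 (by rintro _ ⟨l, rfl⟩; exact hall l))
  have hκloc : ∀ p : Ideal A, p.IsPrime → p ≠ maximalIdeal A → LocIso κ p := fun p hp hne => by
    obtain ⟨l, hlp⟩ := hl p hp hne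
    have hpow : ∀ K : ℕ, g l ^ K ∉ p := fun K h => hlp (hp.mem_of_pow_mem K h)
    exact ⟨fun v hv => (hκ l v hv).elim fun K hK => ⟨_, hpow K, hK⟩,
      fun w => (hκc l w).elim fun K hK => ⟨_, hpow K, hK⟩⟩
  refine ⟨M, inferInstance, inferInstance, hMfin, ?_, fun p hp hfp hne => ?_⟩
  · have hTB : Module.IsTorsionBySet A W (Ideal.span {f} : Ideal A) := fun x a => by
      obtain ⟨c, hc⟩ := Ideal.mem_span_singleton'.1 a.2
      show (a : A) • x = 0
      rw [← hc, mul_smul, hW, smul_zero]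
    letI : Module (A ⧸ Ideal.span {f}) W := hTB.module
    haveI : IsScalarTower A (A ⧸ Ideal.span {f}) W := hTB.isScalarTower (S := A)
    let π' : Red f M →ₗ[A] W := Submodule.liftQ _ π fun x hx => by
      obtain ⟨y, rfl⟩ := mem_smul_top.1 hx
      show π (f • y) = 0
      rw [map_smul, hW]
    obtain ⟨i₁⟩ := nonempty_iso_restrict hf π' fun p hp hfp hne => by
      obtain ⟨l, hlp⟩ := hl p hp hne
      refine ⟨fun x hx => ⟨1, fun h1 => hp.ne_top ((Ideal.eq_top_iff_one p).2 h1), ?_⟩, fun w => ?_⟩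
      · obtain ⟨x, rfl⟩ := Submodule.mkQ_surjective _ x
        rw [one_smul, Submodule.mkQ_apply, Submodule.Quotient.mk_eq_zero, mem_smul_top]
        exact hπ x hx
      · obtain ⟨K, x, hx⟩ := hπc l w
        exact ⟨g l ^ K, fun h => hlp (hp.mem_of_pow_mem K h), Submodule.mkQ _ x, hx⟩
    obtain ⟨i₂⟩ := nonempty_iso_restrict hf κ fun p hp _ hne => hκloc p hp hne
    exact ⟨i₁ ≪≫ i₂.symm ≪≫ eP⟩
  · obtain ⟨l, hlp⟩ := hl p hp hne
    have hpow : ∀ K : ℕ, g l ^ K ∉ p := fun K h => hlp (hp.mem_of_pow_mem K h)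
    exact rankOne_of_model (hp := hp) hfp π κ hreg hπ (fun w => (hπc l w).elim fun K hK => ⟨_, hpow K, hK⟩)
      (hκloc p hp hne) (G.e l) (fun v => (G.span l v).elim fun K ⟨a, ha⟩ => ⟨_, hpow K, a, ha⟩)
      fun b hb => (G.ann l b hb).elim fun K hK => ⟨_, hpow K, hK⟩

/-- The open where a module has rank one. -/
def goodOpen (M : Type u) [AddCommGroup M] [Module A M] [Module.Finite A M] : (Spec (CommRingCat.of A)).Opens :=
  ⟨{p : Spec (CommRingCat.of A) | p ≠ IsLocalRing.closedPoint A ∧ RamSam.RankOne M (p : PrimeSpectrum A).asIdeal}, by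
    refine isOpen_iff_forall_mem_open.2 fun x ⟨hx, hr⟩ => ?_
    haveI : (x : PrimeSpectrum A).asIdeal.IsPrime := (x : PrimeSpectrum A).isPrime
    obtain ⟨t, ht, h⟩ := exists_nhd hr
    let W : (Spec (CommRingCat.of A)).Opens := H9FCoh.bOpen (R := CommRingCat.of A) t ⊓ FEt.puncturedSpec A
    have hW : ∀ y : Spec (CommRingCat.of A), y ∈ W ↔ t ∉ (y : PrimeSpectrum A).asIdeal ∧ y ≠ IsLocalRing.closedPoint A :=
      fun y => Iff.rfl
    refine ⟨(W : Set (Spec (CommRingCat.of A))), fun y hy => ?_, W.isOpen, (hW x).2 ⟨ht, hx⟩⟩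
    exact ⟨((hW y).1 hy).2, h _ (y : PrimeSpectrum A).isPrime ((hW y).1 hy).1⟩⟩

/-- The invertible module on an open where the module has rank one. -/
theorem exists_invertible (L₀ : (↑(V f) : Scheme.{u}).Modules) (M : Type u) [AddCommGroup M] [Module A M]
    [Module.Finite A M] (hM : Extends f L₀ M) (U' : (Spec (CommRingCat.of A)).Opens)
    (hU' : ∀ p : PrimeSpectrum A, (p : Spec (CommRingCat.of A)) ∈ U' → RamSam.RankOne M p.asIdeal)
    (h : V f ≤ Formal2.specQuotMap A f ⁻¹ᵁ U') :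
    ∃ L : (↑U' : Scheme.{u}).Modules, PicF.IsInvertible L ∧
      Nonempty ((Scheme.Modules.pullback ((Formal2.specQuotMap A f).resLE U' (V f) h)).obj L ≅ L₀) := by
  obtain ⟨e⟩ := hM
  obtain ⟨e₁⟩ := nonempty_iso_pullback_restrict (f := f) M U' h
  obtain ⟨e₂⟩ := nonempty_iso_pullback_tilde f M
  exact ⟨(Formal2.tmod A M).restrict U'.ι, PicS.isInvertible_restrict_tilde U' M hU',
    ⟨e₁ ≪≫ (Scheme.Modules.restrictFunctor (V f).ι).mapIso e₂ ≪≫ e⟩⟩

/-- The primes away from the closed point at which the module has not rank one. -/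
def Bad (M : Type u) [AddCommGroup M] [Module A M] (p : Ideal A) : Prop :=
  p.IsPrime ∧ p ≠ maximalIdeal A ∧ ¬ RamSam.RankOne M p

omit [IsNoetherianRing A] in
theorem Bad.not_mem {M : Type u} [AddCommGroup M] [Module A M]
    (hM : ∀ p : Ideal A, p.IsPrime → f ∈ p → p ≠ maximalIdeal A → RamSam.RankOne M p) {p : Ideal A}
    (h : Bad M p) : f ∉ p := fun hf => h.2.2 (hM p h.1 hf h.2.1)

/-- Between a prime not containing `f` and the closed point there is a prime containing `f`. -/
theorem exists_between {p q : Ideal A} (hp : p.IsPrime) (hq : q.IsPrime) (hpq : p < q) (hfq : f ∉ q)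
    (hf : f ∈ maximalIdeal A) : ∃ r : Ideal A, r.IsPrime ∧ p ≤ r ∧ f ∈ r ∧ r ≠ maximalIdeal A := by
  by_contra hne
  haveI := hp
  let R := A ⧸ p
  let mk := Ideal.Quotient.mk p
  have hker : RingHom.ker mk = p := Ideal.mk_ker
  let mR := (maximalIdeal A).map mk
  have hcomap : mR.comap mk = maximalIdeal A := by
    rw [Ideal.comap_map_of_surjective _ Ideal.Quotient.mk_surjective, ← RingHom.ker_eq_comap_bot, hker,
      sup_eq_left.mpr (IsLocalRing.le_maximalIdeal hp.ne_top)]
  have hmin : mR ∈ (Ideal.span {mk f}).minimalPrimes := by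
    refine ⟨⟨Ideal.map_isPrime_of_surjective Ideal.Quotient.mk_surjective
      (hker.le.trans (IsLocalRing.le_maximalIdeal hp.ne_top)),
      (Ideal.span_singleton_le_iff_mem _).2 (Ideal.mem_map_of_mem _ hf)⟩, fun J ⟨hJ, hfJ⟩ hJm => ?_⟩
    haveI := hJ
    have hr : J.comap mk = maximalIdeal A := by
      by_contra h'
      exact hne ⟨J.comap mk, hJ.comap _, hker.ge.trans (Ideal.comap_mono bot_le),
        hfJ (Ideal.mem_span_singleton_self _), h'⟩
    show mR ≤ J
    rw [← Ideal.map_comap_of_surjective mk Ideal.Quotient.mk_surjective J, hr]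
  haveI : mR.IsPrime := hmin.1.1
  haveI : (Ideal.span {mk f}).IsPrincipal := ⟨⟨mk f, rfl⟩⟩
  have hh := Ideal.height_le_one_of_isPrincipal_of_mem_minimalPrimes (Ideal.span {mk f}) mR hmin
  have hqk : RingHom.ker mk ≤ q := hker.le.trans hpq.le
  haveI hqR : (q.map mk).IsPrime := Ideal.map_isPrime_of_surjective Ideal.Quotient.mk_surjective hqk
  have hqback : (q.map mk).comap mk = q := by
    rw [Ideal.comap_map_of_surjective _ Ideal.Quotient.mk_surjective, ← RingHom.ker_eq_comap_bot,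
      sup_eq_left.mpr hqk]
  have hlt : q.map mk < mR := by
    refine lt_of_le_of_ne (Ideal.map_mono (IsLocalRing.le_maximalIdeal hq.ne_top)) fun he => hfq ?_
    have : q = maximalIdeal A := by rw [← hqback, he, hcomap]
    rw [this]; exact hf
  have hpos : (⊥ : Ideal R) < q.map mk := by
    refine bot_lt_iff_ne_bot.2 fun hb => hpq.ne ?_
    rw [← hqback, hb, ← RingHom.ker_eq_comap_bot, hker]
  have h3 : (q.map mk).height + 1 ≤ mR.height := Ideal.height_add_one_le_of_lt_of_isPrime hlt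
  have h2 : (⊥ : Ideal R).height + 1 ≤ (q.map mk).height := Ideal.height_add_one_le_of_lt_of_isPrime hpos
  have h4 : (2 : ℕ∞) ≤ 1 := by
    calc (2 : ℕ∞) = 0 + 1 + 1 := by norm_num
      _ ≤ (⊥ : Ideal R).height + 1 + 1 := by gcongr; exact zero_le
      _ ≤ (q.map mk).height + 1 := by gcongr
      _ ≤ mR.height := h3
      _ ≤ 1 := hh
  exact absurd h4 (by norm_num)

theorem Bad.mono {M : Type u} [AddCommGroup M] [Module A M] {p q : Ideal A} (h : Bad M p) (hq : q.IsPrime)
    (hpq : p ≤ q) (hne : q ≠ maximalIdeal A) : Bad M q :=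
  ⟨hq, hne, fun hr => h.2.2 ((Gen.mono (exists_rankOne hr).choose_spec hpq).rankOne)⟩

omit [IsNoetherianRing A] in
theorem Bad.mono' {M : Type u} [AddCommGroup M] [Module A M] {p : Ideal A} (h : Bad M p) : p.IsPrime := h.1

/-- Bad primes are maximal among bad primes. -/
theorem Bad.eq_of_le (hf : f ∈ maximalIdeal A) {M : Type u} [AddCommGroup M] [Module A M]
    (hM : ∀ p : Ideal A, p.IsPrime → f ∈ p → p ≠ maximalIdeal A → RamSam.RankOne M p) {p q : Ideal A}
    (h : Bad M p) (h' : Bad M q) (hpq : p ≤ q) : p = q := by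
  by_contra hne
  obtain ⟨r, hr, hpr, hfr, hrm⟩ := exists_between h.1 h'.1 (lt_of_le_of_ne hpq hne) (h'.not_mem hM) hf
  exact (h.mono hr hpr hrm).not_mem hM hfr

/-- There are finitely many bad primes. -/
theorem finite_bad (hf : f ∈ maximalIdeal A) (M : Type u) [AddCommGroup M] [Module A M] [Module.Finite A M]
    (hM : ∀ p : Ideal A, p.IsPrime → f ∈ p → p ≠ maximalIdeal A → RamSam.RankOne M p) :
    {p : Ideal A | Bad M p}.Finite := by
  let J : Ideal A := Ideal.span {t | ∀ q : Ideal A, q.IsPrime → q ≠ maximalIdeal A → t ∉ q → RamSam.RankOne M q}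
  have hJ : ∀ p : Ideal A, Bad M p → J ≤ p := fun p hp => Ideal.span_le.2 fun t ht => by
    by_contra htp
    exact hp.2.2 (ht p hp.1 hp.2.1 htp)
  refine (Ideal.finite_minimalPrimes_of_isNoetherianRing A J).subset fun p hp =>
    ⟨⟨hp.1, hJ p hp⟩, fun q ⟨hq, hJq⟩ hqp => ?_⟩
  show p ≤ q
  have hqm : q ≠ maximalIdeal A := fun he =>
    hp.2.1 (le_antisymm (IsLocalRing.le_maximalIdeal hp.1.ne_top) (he ▸ hqp))
  have hqb : Bad M q := ⟨hq, hqm, fun hr => by
    haveI := hq
    obtain ⟨t, ht, h⟩ := exists_nhd hr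
    exact ht (hJq (Ideal.subset_span fun q' hq' _ htq' => h q' hq' htq'))⟩
  exact (hqb.eq_of_le hf hM hp hqp).ge

/-- Generators on the punctured spectrum of a localisation give generators in the module. -/
theorem gen_of_localized {q : Ideal A} [q.IsPrime] {M : Type u} [AddCommGroup M] [Module A M] (p : Ideal A)
    (hp : p.IsPrime) (hpq : p ≤ q) (m : M)
    (h : Gen (LocalizedModule.mkLinearMap q.primeCompl M m) (p.map (algebraMap A (Localization.AtPrime q)))) :
    Gen m p := by
  let R := Localization.AtPrime q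
  let ℓ := LocalizedModule.mkLinearMap q.primeCompl M
  have hd : Disjoint (q.primeCompl : Set A) p := Set.disjoint_left.2 fun x hx hx' => hx (hpq hx')
  have hback : (p.map (algebraMap A R)).comap (algebraMap A R) = p :=
    IsLocalization.comap_map_of_isPrime_disjoint q.primeCompl R hp hd
  haveI : (p.map (algebraMap A R)).IsPrime := IsLocalization.isPrime_of_isPrime_disjoint q.primeCompl R p hp hd
  have hnum : ∀ T : R, T ∉ p.map (algebraMap A R) → ∀ (t : A) (s : q.primeCompl),
      T * algebraMap A R s = algebraMap A R t → t ∉ p := fun T hT t s hts ht => by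
    have : T * algebraMap A R s ∈ p.map (algebraMap A R) := hts ▸ Ideal.mem_map_of_mem _ ht
    rcases (inferInstance : (p.map (algebraMap A R)).IsPrime).mem_or_mem this with h' | h'
    · exact hT h'
    · exact hd.ne_of_mem s.2 (show (s : A) ∈ p by rw [← hback]; exact h') rfl
  refine ⟨fun x => ?_, fun b hb => ?_⟩
  · obtain ⟨T, hT, B, hB⟩ := h.1 (ℓ x)
    obtain ⟨⟨t, s₁⟩, hts⟩ := IsLocalization.surj q.primeCompl T
    obtain ⟨⟨b, s₂⟩, hbs⟩ := IsLocalization.surj q.primeCompl B
    have h1 : ℓ ((t * s₂) • x) = ℓ ((b * s₁) • m) := by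
      rw [map_smul, map_smul, ← algebraMap_smul R (t * (s₂ : A)), ← algebraMap_smul R (b * (s₁ : A)), map_mul,
        map_mul, ← hts, ← hbs, show T * algebraMap A R s₁ * algebraMap A R s₂ =
          algebraMap A R s₁ * algebraMap A R s₂ * T by ring, show B * algebraMap A R s₂ * algebraMap A R s₁ =
          algebraMap A R s₁ * algebraMap A R s₂ * B by ring, mul_smul _ T, mul_smul _ B]
      exact congrArg _ hB
    obtain ⟨u, hu⟩ := IsLocalizedModule.exists_of_eq (S := q.primeCompl) h1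
    refine ⟨(u : A) * (t * s₂), hp.mul_notMem (fun h => u.2 (hpq h))
      (hp.mul_notMem (hnum T hT t s₁ hts) fun h => s₂.2 (hpq h)), (u : A) * (b * s₁), ?_⟩
    rw [mul_smul, mul_smul (u : A) (b * (s₁ : A))]
    exact hu
  · obtain ⟨T, hT, h0⟩ := h.2 (algebraMap A R b) (by rw [algebraMap_smul, ← map_smul, hb, map_zero])
    obtain ⟨⟨t, s₁⟩, hts⟩ := IsLocalization.surj q.primeCompl T
    have h1 : algebraMap A R (t * b) = 0 := by
      rw [map_mul, ← hts, mul_right_comm, h0, zero_mul]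
    obtain ⟨u, hu⟩ := (IsLocalization.map_eq_zero_iff q.primeCompl R (t * b)).1 h1
    exact ⟨(u : A) * t, hp.mul_notMem (fun h => u.2 (hpq h)) (hnum T hT t s₁ hts), by rw [mul_assoc]; exact hu⟩

/-- Rank one passes to localisations. -/
theorem rankOne_localized {q : Ideal A} [q.IsPrime] {M : Type u} [AddCommGroup M] [Module A M]
    (P : Ideal (Localization.AtPrime q)) (hP : P.IsPrime)
    (h : RamSam.RankOne M (P.comap (algebraMap A (Localization.AtPrime q)))) :
    RamSam.RankOne (LocalizedModule q.primeCompl M) P := by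
  let R := Localization.AtPrime q
  let ℓ := LocalizedModule.mkLinearMap q.primeCompl M
  obtain ⟨e, he, ha⟩ := h
  have hu : ∀ s : q.primeCompl, IsUnit (algebraMap A R s) := IsLocalization.map_units R
  refine ⟨ℓ e, fun z => ?_, fun B hB => ?_⟩
  · obtain ⟨⟨x, s⟩, hz⟩ := IsLocalizedModule.surj q.primeCompl ℓ z
    obtain ⟨t, ht, b, hb⟩ := he x
    refine ⟨algebraMap A R s * algebraMap A R t, hP.mul_notMem
      (fun h => hP.ne_top (Ideal.eq_top_of_isUnit_mem _ h (hu s))) ht, algebraMap A R b, ?_⟩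
    rw [mul_comm, mul_smul, algebraMap_smul, algebraMap_smul, algebraMap_smul, ← map_smul ℓ, ← hb, map_smul]
    congr 1
  · obtain ⟨⟨b, s⟩, hbs⟩ := IsLocalization.surj q.primeCompl B
    have h1 : ℓ (b • e) = 0 := by
      rw [map_smul, ← algebraMap_smul R b, ← hbs, mul_comm, mul_smul, hB, smul_zero]
    obtain ⟨u, hu'⟩ := (IsLocalizedModule.eq_zero_iff q.primeCompl ℓ).1 h1
    obtain ⟨t, ht, h0⟩ := ha ((u : A) * b) (by rw [mul_smul]; exact hu')
    refine ⟨algebraMap A R t * algebraMap A R u, hP.mul_notMem ht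
      (fun h => hP.ne_top (Ideal.eq_top_of_isUnit_mem _ h (hu u))), ?_⟩
    refine (hu s).mul_left_eq_zero.1 ?_
    rw [mul_assoc, hbs, ← map_mul, ← map_mul, mul_assoc, h0, map_zero]

/-- One bad prime can be repaired. -/
theorem exists_step (hf : f ∈ maximalIdeal A)
    (h₅ : ∀ (q : Ideal A) [q.IsPrime], f ∉ q → (∀ (q' : Ideal A), q'.IsPrime → q ≤ q' → f ∉ q' → q' = q) →
      Formal2.PicTrivial (↑(FEt.puncturedSpec (Localization.AtPrime q)) : Scheme.{u}))
    (L₀ : (↑(V f) : Scheme.{u}).Modules) (M : Type u) [AddCommGroup M] [Module A M] [Module.Finite A M]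
    (hE : Extends f L₀ M) (hM : ∀ p : Ideal A, p.IsPrime → f ∈ p → p ≠ maximalIdeal A → RamSam.RankOne M p)
    {q : Ideal A} (hqb : Bad M q) :
    ∃ (M' : Type u) (_ : AddCommGroup M') (_ : Module A M'), Module.Finite A M' ∧ Extends f L₀ M' ∧
      (∀ p : Ideal A, p.IsPrime → f ∈ p → p ≠ maximalIdeal A → RamSam.RankOne M' p) ∧
      ∀ p : Ideal A, Bad M' p → Bad M p ∧ p ≠ q := by
  haveI := hqb.1
  have hfq := hqb.not_mem hM
  have hmax : ∀ q' : Ideal A, q'.IsPrime → q ≤ q' → f ∉ q' → q' = q := fun q' hq' hle hfq' =>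
    (hqb.eq_of_le hf hM (hqb.mono hq' hle fun he => hfq' (he ▸ hf)) hle).symm
  have habove : ∀ p : Ideal A, p.IsPrime → p ≠ maximalIdeal A → q ≤ p → p = q := fun p hp hne hle =>
    (hqb.eq_of_le hf hM (hqb.mono hp hle hne) hle).symm
  let R := Localization.AtPrime q
  haveI : IsNoetherianRing R := IsLocalization.isNoetherianRing q.primeCompl R inferInstance
  let N := LocalizedModule q.primeCompl M
  haveI : Module.Finite R N := Module.Finite.of_isLocalizedModule q.primeCompl (LocalizedModule.mkLinearMap q.primeCompl M)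
  let U : (Spec (CommRingCat.of R)).Opens := FEt.puncturedSpec R
  have hrank : ∀ P : PrimeSpectrum R, (P : Spec (CommRingCat.of R)) ∈ U → RamSam.RankOne N P.asIdeal := fun P hP => by
    refine rankOne_localized P.asIdeal P.isPrime ?_
    have hle : P.asIdeal.comap (algebraMap A R) ≤ q := by
      conv_rhs => rw [← IsLocalization.AtPrime.comap_maximalIdeal R q]
      exact Ideal.comap_mono (IsLocalRing.le_maximalIdeal P.isPrime.ne_top)
    have hne : P.asIdeal.comap (algebraMap A R) ≠ q := fun he => hP (PrimeSpectrum.ext (by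
      show P.asIdeal = maximalIdeal R
      rw [← IsLocalization.map_comap q.primeCompl R P.asIdeal, ← IsLocalization.map_comap q.primeCompl R (maximalIdeal R)]
      exact congrArg (Ideal.map (algebraMap A R)) (he.trans (IsLocalization.AtPrime.comap_maximalIdeal R q).symm)))
    by_contra hr
    refine hne (Bad.eq_of_le hf hM ⟨P.isPrime.comap _, fun he => ?_, hr⟩ hqb hle)
    exact hfq (hle (he ▸ hf))
  obtain ⟨i⟩ := h₅ q hfq hmax _ (PicS.isInvertible_restrict_tilde U N hrank)
  obtain ⟨k, b, hb⟩ := Submodule.fg_iff_exists_fin_generating_family.1 (IsNoetherian.noetherian q)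
  have hbq : ∀ j, b j ∈ q := fun j => hb ▸ Submodule.subset_span ⟨j, rfl⟩
  obtain ⟨n, μ, hcomp, hgen⟩ := PicS.exists_gens_of_trivial U N i (fun j => algebraMap A R (b j)) fun j P hP he => by
    refine hP ?_
    rw [he]
    show algebraMap A R (b j) ∈ maximalIdeal R
    show b j ∈ (maximalIdeal R).comap (algebraMap A R)
    exact (IsLocalization.AtPrime.comap_maximalIdeal R q).ge (hbq j)
  let ℓ := LocalizedModule.mkLinearMap q.primeCompl M
  choose x hx using fun j => IsLocalizedModule.surj q.primeCompl ℓ (μ j)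
  let s₀ : q.primeCompl := ∏ j, (x j).2
  have hs : ∀ j, ∃ y : M, ℓ y = (s₀ : A) • μ j := fun j => by
    obtain ⟨c, hc⟩ := Finset.dvd_prod_of_mem (fun j => ((x j).2 : A)) (Finset.mem_univ j)
    refine ⟨c • (x j).1, ?_⟩
    rw [map_smul, ← hx j, Submonoid.smul_def, smul_smul, mul_comm, ← hc, Submonoid.coe_finset_prod]
  choose y hy using hs
  have hdiff : ∀ p : Fin k × Fin k, ∃ u : q.primeCompl, (u : A) • (b p.1 ^ n • y p.2 - b p.2 ^ n • y p.1) = 0 :=
    fun p => by
    refine (IsLocalizedModule.eq_zero_iff q.primeCompl ℓ).1 ?_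
    rw [map_sub, map_smul, map_smul, hy, hy, ← algebraMap_smul R (b p.1 ^ n), ← algebraMap_smul R (b p.2 ^ n),
      map_pow, map_pow, smul_comm _ (s₀ : A), smul_comm _ (s₀ : A), hcomp p.1 p.2, sub_self]
  choose u hu using hdiff
  let u₀ : q.primeCompl := ∏ p, u p
  let m : Fin k → M := fun j => (u₀ : A) • y j
  have hcomp' : ∀ i j, b i ^ n • m j = b j ^ n • m i := fun i j => by
    obtain ⟨c, hc⟩ := Finset.dvd_prod_of_mem (fun p => ((u p) : A)) (Finset.mem_univ (i, j))
    have h0 : (u₀ : A) • (b i ^ n • y j - b j ^ n • y i) = 0 := by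
      rw [show (u₀ : A) = c * (u (i, j) : A) by rw [Submonoid.coe_finset_prod, hc, mul_comm], mul_smul, hu,
        smul_zero]
    rw [smul_sub, sub_eq_zero] at h0
    show b i ^ n • (u₀ : A) • y j = b j ^ n • (u₀ : A) • y i
    rw [smul_comm, h0, smul_comm]
  have hgen' : ∀ j, ∀ P : Ideal A, P.IsPrime → P ≤ q → b j ∉ P → Gen (m j) P := fun j P hP hPq hbP => by
    have hd : Disjoint (q.primeCompl : Set A) P := Set.disjoint_left.2 fun x hx hx' => hx (hPq hx')
    have hPR : (P.map (algebraMap A R)).IsPrime := IsLocalization.isPrime_of_isPrime_disjoint q.primeCompl R P hP hd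
    have hback : (P.map (algebraMap A R)).comap (algebraMap A R) = P :=
      IsLocalization.comap_map_of_isPrime_disjoint q.primeCompl R hP hd
    obtain ⟨h1, h2⟩ := hgen j _ hPR fun h => hbP (by rw [← hback]; exact h)
    refine gen_of_localized P hP hPq (m j) ?_
    obtain ⟨v, hv⟩ := ((IsLocalization.map_units R u₀).mul (IsLocalization.map_units R s₀)).exists_left_inv
    have hm : ℓ (m j) = (algebraMap A R u₀ * algebraMap A R s₀) • μ j := by
      rw [map_smul, hy, mul_smul, algebraMap_smul, algebraMap_smul]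
    refine ⟨fun z => ?_, fun B hB => ?_⟩
    · obtain ⟨T, hT, B, hB⟩ := h1 z
      refine ⟨T, hT, B * v, ?_⟩
      rw [hm, smul_smul, mul_assoc, hv, mul_one]
      exact hB
    · rw [hm, smul_smul] at hB
      obtain ⟨T, hT, h0⟩ := h2 _ hB
      refine ⟨T, hT, ?_⟩
      linear_combination v * h0 - T * B * hv
  obtain ⟨M₁, _, _, M', _, _, ι, ρ, _, _, hloc, hr⟩ := exists_modify (q := q) hb n m hcomp' hgen'
  have hnle : ∀ p : Ideal A, p.IsPrime → p ≠ maximalIdeal A → p ≠ q → ¬ q ≤ p := fun p hp hne hpq hle =>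
    hpq (habove p hp hne hle)
  have hsame : ∀ p : Ideal A, p.IsPrime → p ≠ maximalIdeal A → p ≠ q → (RamSam.RankOne M p ↔ RamSam.RankOne M' p) :=
    fun p hp hne hpq => by
      haveI := hp
      exact (rankOne_iff (hloc p hp (hnle p hp hne hpq)).1).trans (rankOne_iff (hloc p hp (hnle p hp hne hpq)).2).symm
  have hfne : ∀ p : Ideal A, f ∈ p → p ≠ q := fun p hfp he => hfq (he ▸ hfp)
  refine ⟨M', inferInstance, inferInstance, inferInstance, ?_, fun p hp hfp hne => ?_, fun p hp => ?_⟩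
  · rw [Extends.map hf ρ fun p hp hfp hne => (hloc p hp (hnle p hp hne (hfne p hfp))).2,
      ← Extends.map hf ι fun p hp hfp hne => (hloc p hp (hnle p hp hne (hfne p hfp))).1]
    exact hE
  · exact (hsame p hp hne (hfne p hfp)).1 (hM p hp hfp hne)
  · have hpq : p ≠ q := fun he => hp.2.2 (he ▸ hr)
    exact ⟨⟨hp.1, hp.2.1, fun h => hp.2.2 ((hsame p hp.1 hp.2.1 hpq).1 h)⟩, hpq⟩

/-- All bad primes can be repaired. -/
theorem exists_good (hf : f ∈ maximalIdeal A)
    (h₅ : ∀ (q : Ideal A) [q.IsPrime], f ∉ q → (∀ (q' : Ideal A), q'.IsPrime → q ≤ q' → f ∉ q' → q' = q) →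
      Formal2.PicTrivial (↑(FEt.puncturedSpec (Localization.AtPrime q)) : Scheme.{u}))
    (L₀ : (↑(V f) : Scheme.{u}).Modules) (S : Finset (Ideal A)) :
    ∀ (M : Type u) [AddCommGroup M] [Module A M] [Module.Finite A M], Extends f L₀ M →
      (∀ p : Ideal A, p.IsPrime → f ∈ p → p ≠ maximalIdeal A → RamSam.RankOne M p) → (∀ p, Bad M p → p ∈ S) →
      ∃ (M' : Type u) (_ : AddCommGroup M') (_ : Module A M'), Module.Finite A M' ∧ Extends f L₀ M' ∧
        ∀ p : Ideal A, p.IsPrime → p ≠ maximalIdeal A → RamSam.RankOne M' p := by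
  classical
  induction S using Finset.induction with
  | empty =>
    intro M _ _ _ hE _ hS
    exact ⟨M, inferInstance, inferInstance, inferInstance, hE, fun p hp hne => by
      by_contra h
      exact Finset.notMem_empty p (hS p ⟨hp, hne, h⟩)⟩
  | insert q S hqS ih =>
    intro M _ _ _ hE hM hS
    by_cases hq : Bad M q
    · obtain ⟨M', _, _, _, hE', hM', hbad⟩ := exists_step hf h₅ L₀ M hE hM hq
      exact ih M' hE' hM' fun p hp => Finset.mem_of_mem_insert_of_ne (hS p (hbad p hp).1) (hbad p hp).2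
    · exact ih M hE hM fun p hp => Finset.mem_of_mem_insert_of_ne (hS p hp) fun he => hq (he ▸ hp)

end Groth.Agent.LefAlgz.PicM
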