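import Groth.Agent.LefAlgz.PicShf
import Groth.Agent.LefAlgz.PicGens
import Groth.Agent.LefAlgz.ModLocal
import Groth.Agent.LC.TopDim2

/-!
# Sheaves on the hypersurface in the punctured spectrum from modules killed by `f`
-/

noncomputable section

set_option autoImplicit false
set_option linter.style.haveILetI false
set_option backward.isDefEq.respectTransparency false
set_option backward.isDefEq.respectTransparency.types false

universe u

open CategoryTheory AlgebraicGeometry IsLocalRing TensorProduct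

namespace Groth.Agent.LefAlgz.PicQ

open Groth.Agent Groth.Agent.LefAlgz.PicL

variable {A : Type u} [CommRing A] [IsNoetherianRing A] [IsLocalRing A] {f : A}

/-- The hypersurface in the punctured spectrum, as an open of the hypersurface. -/
abbrev V (f : A) : (Spec (CommRingCat.of (A ⧸ Ideal.span {f}))).Opens :=
  Formal2.specQuotMap A f ⁻¹ᵁ FEt.puncturedSpec A

omit [IsNoetherianRing A] in
theorem mem_V (p : PrimeSpectrum (A ⧸ Ideal.span {f})) :
    (p : Spec (CommRingCat.of (A ⧸ Ideal.span {f}))) ∈ V f ↔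
      p.asIdeal.comap (Ideal.Quotient.mk (Ideal.span {f})) ≠ maximalIdeal A :=
  ⟨fun h he => h (PrimeSpectrum.ext he), fun h he => h (congrArg PrimeSpectrum.asIdeal he)⟩

omit [IsNoetherianRing A] in
theorem mem_comap (p : Ideal (A ⧸ Ideal.span {f})) : f ∈ p.comap (Ideal.Quotient.mk (Ideal.span {f})) := by
  rw [Ideal.mem_comap, Ideal.Quotient.eq_zero_iff_mem.2 (Ideal.mem_span_singleton_self f)]
  exact zero_mem p

omit [IsNoetherianRing A] in
theorem smul_mk {X : Type u} [AddCommGroup X] [Module A X] [Module (A ⧸ Ideal.span {f}) X]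
    [IsScalarTower A (A ⧸ Ideal.span {f}) X] (a : A) (x : X) :
    (Ideal.Quotient.mk (Ideal.span {f}) a) • x = a • x := by
  show algebraMap A (A ⧸ Ideal.span {f}) a • x = a • x
  exact algebraMap_smul _ a x

/-- Modules killed by `f` which agree at all primes of the open give isomorphic sheaves. -/
theorem nonempty_iso_restrict (hf : f ∈ maximalIdeal A) {X Y : Type u} [AddCommGroup X] [Module A X]
    [Module (A ⧸ Ideal.span {f}) X] [IsScalarTower A (A ⧸ Ideal.span {f}) X] [AddCommGroup Y] [Module A Y]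
    [Module (A ⧸ Ideal.span {f}) Y] [IsScalarTower A (A ⧸ Ideal.span {f}) Y] (φ : X →ₗ[A] Y)
    (h : ∀ p : Ideal A, p.IsPrime → f ∈ p → p ≠ maximalIdeal A → LocIso φ p) :
    Nonempty ((Formal2.tmod (A ⧸ Ideal.span {f}) X).restrict (V f).ι ≅
      (Formal2.tmod (A ⧸ Ideal.span {f}) Y).restrict (V f).ι) := by
  haveI : Nontrivial (A ⧸ Ideal.span {f}) := Ideal.Quotient.nontrivial_iff.2 fun hc =>
    (IsLocalRing.maximalIdeal.isMaximal A).ne_top (top_unique (hc ▸ (Ideal.span_singleton_le_iff_mem _).2 hf))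
  haveI : IsLocalRing (A ⧸ Ideal.span {f}) :=
    IsLocalRing.of_surjective' _ Ideal.Quotient.mk_surjective
  let B := A ⧸ Ideal.span {f}
  suffices key : ∀ V' : (Spec (CommRingCat.of B)).Opens, V' = LocCoh.puncturedOpen B (maximalIdeal B) →
      Nonempty ((Formal2.tmod B X).restrict V'.ι ≅ (Formal2.tmod B Y).restrict V'.ι) from
    key (V f) ((CILift.preimage_punctured A (Ideal.span {f})).trans (puncturedSpec_eq B))
  rintro _ rfl
  let ψ : X →ₗ[B] Y := φ.extendScalarsOfSurjective Ideal.Quotient.mk_surjective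
  have hloc : ∀ P : Ideal B, P.IsPrime → ¬ maximalIdeal B ≤ P →
      LocIso φ (P.comap (Ideal.Quotient.mk (Ideal.span {f}))) := fun P hP hm => by
    refine h _ (hP.comap _) (mem_comap P) fun he => hm ?_
    haveI : IsLocalHom (Ideal.Quotient.mk (Ideal.span {f})) := IsLocalHom.of_surjective _ Ideal.Quotient.mk_surjective
    rw [← Ideal.map_comap_of_surjective _ Ideal.Quotient.mk_surjective P, he,
      ← IsLocalRing.maximalIdeal_comap (f := Ideal.Quotient.mk (Ideal.span {f})),
      Ideal.map_comap_of_surjective _ Ideal.Quotient.mk_surjective]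
  haveI : IsIso ((Scheme.Modules.restrictFunctor (LocCoh.puncturedOpen B (maximalIdeal B)).ι).map
      (Formal2.tmodMap B ψ)) := by
    refine isIso_rt_map ψ (fun x hx a ha => ?_) fun y a ha => ?_
    · obtain ⟨K, hK⟩ := exists_pow_mem_of_local (𝔞 := maximalIdeal B) (⊥ : Submodule B X) x (fun P hP hm => by
        obtain ⟨t, ht, h0⟩ := (hloc P hP hm).1 x hx
        exact ⟨Ideal.Quotient.mk _ t, ht, 1, by rw [pow_one, smul_mk, h0]; exact zero_mem _⟩) ha
      exact ⟨K, (Submodule.mem_bot B).1 hK⟩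
    · exact exists_pow_mem_of_local (𝔞 := maximalIdeal B) (LinearMap.range ψ) y (fun P hP hm => by
        obtain ⟨t, ht, x, hx⟩ := (hloc P hP hm).2 y
        exact ⟨Ideal.Quotient.mk _ t, ht, 1, x, by rw [pow_one, smul_mk]; exact hx⟩) ha
  exact ⟨asIso ((Scheme.Modules.restrictFunctor (LocCoh.puncturedOpen B (maximalIdeal B)).ι).map
      (Formal2.tmodMap B ψ))⟩

/-- The reduction of a module modulo `f`. -/
abbrev Red (f : A) (M : Type u) [AddCommGroup M] [Module A M] : Type u :=
  M ⧸ (Ideal.span {f} • ⊤ : Submodule A M)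

variable {M N : Type u} [AddCommGroup M] [Module A M] [AddCommGroup N] [Module A N]

omit [IsNoetherianRing A] [IsLocalRing A] in
theorem mem_smul_top {x : M} : x ∈ (Ideal.span {f} • ⊤ : Submodule A M) ↔ ∃ y : M, f • y = x := by
  rw [Submodule.ideal_span_singleton_smul, Submodule.mem_smul_pointwise_iff_exists]
  exact exists_congr fun y => and_iff_right Submodule.mem_top

/-- The reduced map. -/
def qmap (f : A) (φ : M →ₗ[A] N) : Red f M →ₗ[A] Red f N :=
  Submodule.mapQ _ _ φ fun x hx => by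
    obtain ⟨y, rfl⟩ := mem_smul_top.1 hx
    exact mem_smul_top.2 ⟨φ y, (map_smul φ f y).symm⟩

omit [IsNoetherianRing A] [IsLocalRing A] in
theorem locIso_qmap {φ : M →ₗ[A] N} {p : Ideal A} (hp : p.IsPrime) (h : LocIso φ p) : LocIso (qmap f φ) p := by
  refine ⟨fun x hx => ?_, fun y => ?_⟩
  · obtain ⟨x, rfl⟩ := Submodule.mkQ_surjective _ x
    obtain ⟨y, hy⟩ := mem_smul_top.1 ((Submodule.Quotient.mk_eq_zero _).1 hx)
    obtain ⟨t, ht, z, hz⟩ := h.2 y
    obtain ⟨t', ht', h0⟩ := h.1 (t • x - f • z) (by rw [map_sub, map_smul, map_smul, hz, smul_comm, hy, sub_self])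
    refine ⟨t' * t, hp.mul_notMem ht' ht, ?_⟩
    rw [← map_smul, Submodule.mkQ_apply, Submodule.Quotient.mk_eq_zero, mem_smul_top]
    refine ⟨t' • z, ?_⟩
    rw [smul_sub, sub_eq_zero] at h0
    rw [mul_smul, h0, smul_comm]
  · obtain ⟨y, rfl⟩ := Submodule.mkQ_surjective _ y
    obtain ⟨t, ht, z, hz⟩ := h.2 y
    exact ⟨t, ht, Submodule.mkQ _ z, (congrArg (Submodule.mkQ _) hz).trans (map_smul _ t y)⟩

omit [IsLocalRing A] in
/-- Pullback to the hypersurface is reduction. -/
theorem nonempty_iso_pullback_tilde (f : A) (M : Type u) [AddCommGroup M] [Module A M] :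
    Nonempty ((Scheme.Modules.pullback (Formal2.specQuotMap A f)).obj (Formal2.tmod A M) ≅
      Formal2.tmod (A ⧸ Ideal.span {f}) (Red f M)) := by
  let g := CommRingCat.ofHom (Ideal.Quotient.mk (Ideal.span {f}))
  let e₀ : (A ⧸ Ideal.span {f}) ⊗[A] M ≃ₗ[A] Red f M := TensorProduct.quotTensorEquivQuotSMul M (Ideal.span {f})
  let e : (A ⧸ Ideal.span {f}) ⊗[A] M ≃ₗ[A ⧸ Ideal.span {f}] Red f M :=
    LinearEquiv.extendScalarsOfSurjective Ideal.Quotient.mk_surjective e₀
  refine ⟨(QCoh.tildePullbackIso g).app (ModuleCat.of A M) ≪≫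
    (tilde.functor (CommRingCat.of (A ⧸ Ideal.span {f}))).mapIso ?_⟩
  exact LinearEquiv.toModuleIso e

/-- An invertible module on the open of the hypersurface is given by a module with local generators. -/
theorem exists_gens (hf : f ∈ maximalIdeal A) (L₀ : (↑(V f) : Scheme.{u}).Modules) (hL : PicF.IsInvertible L₀) :
    ∃ (P : Type u) (_ : AddCommGroup P) (_ : Module A P) (_ : Module (A ⧸ Ideal.span {f}) P)
      (_ : IsScalarTower A (A ⧸ Ideal.span {f}) P) (r : ℕ) (g : Fin r → A), Module.Finite A P ∧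
      (Ideal.span (Set.range g)).radical = maximalIdeal A ∧ Nonempty (PicR.Gens f g P) ∧
      Nonempty ((Formal2.tmod (A ⧸ Ideal.span {f}) P).restrict (V f).ι ≅ L₀) := by
  classical
  let B := A ⧸ Ideal.span {f}
  obtain ⟨P, _, _, _, hiso, hrank⟩ := PicS.exists_module (R := B) (V f) L₀ hL
  letI : Module A P := Module.compHom P (algebraMap A B)
  haveI : IsScalarTower A B P := IsScalarTower.of_algebraMap_smul fun _ _ => rfl
  haveI : Module.Finite A P := Module.Finite.trans B P
  let Good : A → Prop := fun a => ∃ e : P, (∀ x : P, ∃ b : A, a • x = b • e) ∧ ∀ b : A, b • e = 0 → f ∣ a * b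
  have hkill : ∀ x : P, f • x = 0 := fun x => by
    rw [← smul_mk (f := f) f x, Ideal.Quotient.eq_zero_iff_mem.2 (Ideal.mem_span_singleton_self f), zero_smul]
  let G : Set A := {a | a ∈ maximalIdeal A ∧ Good a}
  have hfG : f ∈ G := ⟨hf, 0, fun x => ⟨0, by rw [hkill, smul_zero]⟩, fun b _ => dvd_mul_right f b⟩
  have hrad : (Ideal.span G).radical = maximalIdeal A := by
    refine le_antisymm ?_ ?_
    · rw [← (IsLocalRing.maximalIdeal.isMaximal A).isPrime.radical]
      exact Ideal.radical_mono (Ideal.span_le.2 fun a ha => ha.1)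
    · rw [Ideal.radical_eq_sInf]
      refine le_sInf fun p ⟨hle, hp⟩ => ?_
      by_contra hne
      have hfp : f ∈ p := hle (Ideal.subset_span hfG)
      have hpI : RingHom.ker (Ideal.Quotient.mk (Ideal.span {f})) ≤ p := by
        rw [Ideal.mk_ker]; exact (Ideal.span_singleton_le_iff_mem _).2 hfp
      let P₀ : PrimeSpectrum B := ⟨p.map (Ideal.Quotient.mk _),
        Ideal.map_isPrime_of_surjective Ideal.Quotient.mk_surjective hpI⟩
      have hback : P₀.asIdeal.comap (Ideal.Quotient.mk (Ideal.span {f})) = p := by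
        rw [Ideal.comap_map_of_surjective _ Ideal.Quotient.mk_surjective, ← RingHom.ker_eq_comap_bot,
          sup_eq_left.mpr hpI]
      obtain ⟨e, he, ha⟩ := hrank P₀ ((mem_V P₀).2 (by rw [hback]; exact fun h => hne h.ge))
      haveI := P₀.isPrime
      obtain ⟨t₁, ht₁, h₁⟩ := exists_uniform (A := B) (p := P₀.asIdeal) (Submodule.span B {e}) fun y => by
        obtain ⟨t, ht, b, hb⟩ := he y
        exact ⟨t, ht, hb ▸ Submodule.smul_mem _ b (Submodule.mem_span_singleton_self e)⟩
      obtain ⟨t₂, ht₂, h₂⟩ := exists_uniform (A := B) (p := P₀.asIdeal)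
          (M := LinearMap.ker (LinearMap.toSpanSingleton B P e)) ⊥ fun b => by
        obtain ⟨t, ht, h0⟩ := ha b.1 b.2
        exact ⟨t, ht, (Submodule.mem_bot B).2 (Subtype.ext h0)⟩
      obtain ⟨u₁, rfl⟩ := Ideal.Quotient.mk_surjective t₁
      obtain ⟨u₂, rfl⟩ := Ideal.Quotient.mk_surjective t₂
      obtain ⟨s, hs, hsp⟩ := SetLike.not_le_iff_exists.1 hne
      have hu : s * u₁ * u₂ ∉ p := hp.mul_notMem (hp.mul_notMem hsp
        (fun h => ht₁ (Ideal.mem_map_of_mem _ h))) fun h => ht₂ (Ideal.mem_map_of_mem _ h)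
      refine hu (hle (Ideal.subset_span ⟨Ideal.mul_mem_right _ _ (Ideal.mul_mem_right _ _ hs), e, fun x => ?_,
        fun b hb => ?_⟩))
      · obtain ⟨c, hc⟩ := Submodule.mem_span_singleton.1 (h₁ x)
        obtain ⟨c', rfl⟩ := Ideal.Quotient.mk_surjective c
        refine ⟨s * u₂ * c', ?_⟩
        rw [smul_mk, smul_mk] at hc
        rw [show s * u₁ * u₂ = s * u₂ * u₁ by ring, mul_smul, ← hc, ← mul_smul]
      · have hb' : Ideal.Quotient.mk (Ideal.span {f}) b • e = 0 := by rw [smul_mk, hb]
        have h0 := congrArg Subtype.val ((Submodule.mem_bot B).1 (h₂ ⟨_, hb'⟩))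
        have h0' : Ideal.Quotient.mk (Ideal.span {f}) (u₂ * b) = 0 := by rw [map_mul]; exact h0
        rw [Ideal.Quotient.eq_zero_iff_mem, Ideal.mem_span_singleton] at h0'
        rw [show s * u₁ * u₂ * b = s * u₁ * (u₂ * b) by ring]
        exact h0'.mul_left _
  obtain ⟨s', hs', hspan⟩ := (Submodule.fg_span_iff_fg_span_finset_subset G).1
    (IsNoetherian.noetherian (Submodule.span A G : Submodule A A))
  let g : Fin s'.card → A := fun i => (s'.equivFin.symm i).1
  have hg : Ideal.span (Set.range g) = Ideal.span G := by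
    have : Set.range g = (s' : Set A) := Set.ext fun a => ⟨fun ⟨i, hi⟩ => hi ▸ (s'.equivFin.symm i).2,
      fun ha => ⟨s'.equivFin ⟨a, ha⟩, by simp [g]⟩⟩
    rw [this]
    exact hspan.symm
  choose e he ha using fun i => (hs' (s'.equivFin.symm i).2).2
  refine ⟨P, inferInstance, inferInstance, inferInstance, inferInstance, s'.card, g, inferInstance,
    hg ▸ hrad, ⟨{ e := e, killed := hkill, span := fun i v => ?_, ann := fun i b hb => ?_ }⟩, hiso⟩
  · obtain ⟨b, hb⟩ := he i v
    exact ⟨1, b, by rw [pow_one]; exact hb⟩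
  · exact ⟨1, by rw [pow_one]; exact ha i b hb⟩

omit [IsNoetherianRing A] in
/-- The pullback to the hypersurface of the sheaf of a module on a neighbourhood. -/
theorem nonempty_iso_pullback_restrict (M : Type u) [AddCommGroup M] [Module A M]
    (U' : (Spec (CommRingCat.of A)).Opens) (h : V f ≤ Formal2.specQuotMap A f ⁻¹ᵁ U') :
    Nonempty ((Scheme.Modules.pullback ((Formal2.specQuotMap A f).resLE U' (V f) h)).obj
        ((Formal2.tmod A M).restrict U'.ι) ≅
      ((Scheme.Modules.pullback (Formal2.specQuotMap A f)).obj (Formal2.tmod A M)).restrict (V f).ι) :=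
  ⟨(Scheme.Modules.pullback ((Formal2.specQuotMap A f).resLE U' (V f) h)).mapIso
      ((Scheme.Modules.restrictFunctorIsoPullback U'.ι).app _) ≪≫
    (Scheme.Modules.pullbackComp _ U'.ι).app _ ≪≫
    (Scheme.Modules.pullbackCongr (Scheme.Hom.resLE_comp_ι _ h)).app _ ≪≫
    ((Scheme.Modules.pullbackComp (V f).ι (Formal2.specQuotMap A f)).app _).symm ≪≫
    ((Scheme.Modules.restrictFunctorIsoPullback (V f).ι).app _).symm⟩

end Groth.Agent.LefAlgz.PicQ
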