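import Groth.Agent.LefAlgz.CechTower
import Mathlib.RingTheory.Ideal.Quotient.Operations

/-!
# Functions on standard opens modulo powers of `f`, as towers of rings
-/

noncomputable section

set_option autoImplicit false
set_option linter.style.haveILetI false
set_option backward.isDefEq.respectTransparency false
set_option backward.isDefEq.respectTransparency.types false

universe u

namespace Groth.Agent.LefAlgz.PicR

open Groth.Agent

variable {A : Type u} [CommRing A] (f : A)

/-- The truncation. -/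
abbrev Qn (n : ℕ) : Type u := A ⧸ Ideal.span {f ^ (n + 1)}

/-- Functions on a standard open of a truncation. -/
abbrev B (n : ℕ) (a : A) : Type u := H9Pur.L (Qn f n) a

theorem span_le (n : ℕ) : Ideal.span {f ^ (n + 1 + 1)} ≤ Ideal.span {f ^ (n + 1)} :=
  Ideal.span_singleton_le_span_singleton.2 ⟨f, pow_succ f (n + 1)⟩

/-- Reduction on a standard open, as an algebra map. -/
def rd (n : ℕ) (a : A) : B f (n + 1) a →ₐ[A] B f n a :=
  H9Lef.extL a (H9Pur.isUnit_L a)
    ((IsScalarTower.toAlgHom A (Qn f n) (B f n a)).comp (Ideal.Quotient.factorₐ A (span_le f n)))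

theorem rd_algebraMap (n : ℕ) (a : A) (c : Qn f (n + 1)) :
    rd f n a (algebraMap _ (B f (n + 1) a) c) =
      algebraMap (Qn f n) (B f n a) (Ideal.Quotient.factor (span_le f n) c) :=
  H9Lef.extL_algebraMap _ _ _ c

theorem resC_rd (n : ℕ) {a b : A} (h : a ∣ b) (x : B f (n + 1) a) :
    resC (Qn f n) h (rd f n a x) = rd f n b (resC (Qn f (n + 1)) h x) :=
  H9Lef.ext_L (φ := (resC (Qn f n) h).comp (rd f n a)) (ψ := (rd f n b).comp (resC (Qn f (n + 1)) h))
    (fun c => by rw [AlgHom.comp_apply, AlgHom.comp_apply, rd_algebraMap, resC_algebraMap, resC_algebraMap,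
      rd_algebraMap]) x

theorem algebraMap_mk (n : ℕ) (a c : A) :
    algebraMap (Qn f n) (B f n a) (Ideal.Quotient.mk _ c) = algebraMap A (B f n a) c :=
  (IsScalarTower.algebraMap_apply A (Qn f n) (B f n a) c).symm

theorem algebraMap_pow (n : ℕ) (a : A) : algebraMap A (B f n a) (f ^ (n + 1)) = 0 := by
  rw [← algebraMap_mk, Ideal.Quotient.eq_zero_iff_mem.2 (Ideal.mem_span_singleton_self _), map_zero]

theorem smul_mk (n : ℕ) (b c : A) :
    b • (Ideal.Quotient.mk (Ideal.span {f ^ (n + 1)}) c) = Ideal.Quotient.mk _ (b * c) := rfl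

/-- The tower of functions on a standard open. -/
def tw (hnz : f ∈ nonZeroDivisors A) (a : A) : FTower A f where
  B n := B f n a
  red n := (rd f n a).toLinearMap
  red_surj n z := by
    obtain ⟨k, c, hc⟩ := exists_frac_L (C := Qn f n) a z
    obtain ⟨c', rfl⟩ := Ideal.Quotient.mk_surjective c
    obtain ⟨w, hw⟩ := (smul_bijective_L (C := Qn f (n + 1)) (dvd_refl a) k).2
      (algebraMap (Qn f (n + 1)) (B f (n + 1) a) (Ideal.Quotient.mk _ c'))
    refine ⟨w, (smul_bijective_L (C := Qn f n) (dvd_refl a) k).1 ?_⟩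
    show a ^ k • rd f n a w = a ^ k • z
    rw [hc, ← map_smul, show a ^ k • w = _ from hw, rd_algebraMap]
    rfl
  ker_red n z hz := by
    obtain ⟨k, c, hc⟩ := exists_frac_L (C := Qn f (n + 1)) a z
    obtain ⟨c', rfl⟩ := Ideal.Quotient.mk_surjective c
    have h0 : algebraMap (Qn f n) (B f n a) (Ideal.Quotient.mk _ c') = 0 := by
      have h := congrArg (rd f n a) hc
      rw [map_smul, show rd f n a z = 0 from hz, smul_zero, rd_algebraMap] at h
      exact h.symm
    obtain ⟨l, hl⟩ := exists_kill_L h0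
    rw [smul_mk, Ideal.Quotient.eq_zero_iff_mem, Ideal.mem_span_singleton] at hl
    obtain ⟨d, hd⟩ := hl
    obtain ⟨w, hw⟩ := (smul_bijective_L (C := Qn f (n + 1)) (dvd_refl a) (l + k)).2 (algebraMap A (B f (n + 1) a) d)
    refine ⟨w, (smul_bijective_L (C := Qn f (n + 1)) (dvd_refl a) (l + k)).1 ?_⟩
    show a ^ (l + k) • f ^ (n + 1) • w = a ^ (l + k) • z
    rw [smul_comm, show a ^ (l + k) • w = _ from hw, pow_add a, mul_smul, hc, algebraMap_mk, Algebra.smul_def,
      Algebra.smul_def, ← map_mul, ← map_mul]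
    exact congrArg _ hd.symm
  killed n z := by rw [Algebra.smul_def, algebraMap_pow, zero_mul]
  reg n z hz := by
    obtain ⟨k, c, hc⟩ := exists_frac_L (C := Qn f (n + 1)) a z
    obtain ⟨c', rfl⟩ := Ideal.Quotient.mk_surjective c
    have h0 : algebraMap (Qn f (n + 1)) (B f (n + 1) a) (Ideal.Quotient.mk _ (f * c')) = 0 := by
      rw [algebraMap_mk, map_mul, ← algebraMap_mk f (n + 1) a c', ← hc, ← Algebra.smul_def, smul_comm, hz, smul_zero]
    obtain ⟨l, hl⟩ := exists_kill_L h0
    rw [smul_mk, Ideal.Quotient.eq_zero_iff_mem, Ideal.mem_span_singleton] at hl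
    obtain ⟨d, hd⟩ := hl
    have hd' : a ^ l * c' = f ^ (n + 1) * d :=
      (mul_cancel_left_mem_nonZeroDivisors hnz).1 (by linear_combination hd)
    obtain ⟨w, hw⟩ := (smul_bijective_L (C := Qn f (n + 1)) (dvd_refl a) (l + k)).2 (algebraMap A (B f (n + 1) a) d)
    refine ⟨w, (smul_bijective_L (C := Qn f (n + 1)) (dvd_refl a) (l + k)).1 ?_⟩
    show a ^ (l + k) • f ^ (n + 1) • w = a ^ (l + k) • z
    rw [smul_comm, show a ^ (l + k) • w = _ from hw, pow_add a, mul_smul, hc, algebraMap_mk, Algebra.smul_def,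
      Algebra.smul_def, ← map_mul, ← map_mul]
    exact congrArg _ hd'.symm

variable {f} (hnz : f ∈ nonZeroDivisors A)

/-- Restriction, as a map of towers. -/
def resHom {a b : A} (h : a ∣ b) : FTower.Hom (tw f hnz a) (tw f hnz b) where
  app n := (resC (Qn f n) h).toLinearMap
  comm n x := resC_rd f n h x

/-- Reduction to level zero. -/
abbrev pr (n : ℕ) {a : A} (x : B f n a) : B f 0 a := (tw f hnz a).pr n x

/-- Multiplication by `f^{n+1}` from level zero. -/
abbrev mu (n : ℕ) {a : A} : B f 0 a →ₗ[A] B f (n + 1) a := (tw f hnz a).mu n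

theorem pr_zero {a : A} (x : B f 0 a) : pr hnz 0 x = x := (tw f hnz a).dn_self _ x

theorem pr_succ (n : ℕ) {a : A} (x : B f (n + 1) a) : pr hnz (n + 1) x = pr hnz n (rd f n a x) :=
  (tw f hnz a).pr_succ n x

theorem pr_mul (n : ℕ) {a : A} (x y : B f n a) : pr hnz n (x * y) = pr hnz n x * pr hnz n y := by
  induction n with
  | zero => rw [pr_zero, pr_zero, pr_zero]
  | succ n ih => rw [pr_succ, pr_succ, pr_succ, map_mul, ih]

theorem pr_sub (n : ℕ) {a : A} (x y : B f n a) : pr hnz n (x - y) = pr hnz n x - pr hnz n y :=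
  map_sub ((tw f hnz a).pr n) x y

theorem pr_one (n : ℕ) {a : A} : pr hnz n (1 : B f n a) = 1 := by
  induction n with
  | zero => rw [pr_zero]
  | succ n ih => rw [pr_succ, map_one, ih]

theorem resC_pr (n : ℕ) {a b : A} (h : a ∣ b) (x : B f n a) :
    resC (Qn f 0) h (pr hnz n x) = pr hnz n (resC (Qn f n) h x) :=
  (resHom hnz h).app_dn (Nat.zero_le n) x

theorem resC_mu (n : ℕ) {a b : A} (h : a ∣ b) (x : B f 0 a) :
    resC (Qn f (n + 1)) h (mu hnz n x) = mu hnz n (resC (Qn f 0) h x) :=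
  (resHom hnz h).app_mu n x

theorem mul_mu (n : ℕ) {a : A} (x : B f (n + 1) a) (y : B f 0 a) :
    x * mu hnz n y = mu hnz n (pr hnz (n + 1) x * y) := by
  obtain ⟨y', rfl⟩ : ∃ y' : B f (n + 1) a, pr hnz (n + 1) y' = y := (tw f hnz a).pr_surj (n + 1) y
  show x * mu hnz n (pr hnz (n + 1) y') = mu hnz n (pr hnz (n + 1) x * pr hnz (n + 1) y')
  rw [← pr_mul]
  rw [show mu hnz n (pr hnz (n + 1) y') = f ^ (n + 1) • y' from (tw f hnz a).mu_pr n y',
    show mu hnz n (pr hnz (n + 1) (x * y')) = f ^ (n + 1) • (x * y') from (tw f hnz a).mu_pr n (x * y')]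
  exact mul_smul_comm _ x y'

theorem pr_mu (n : ℕ) {a : A} (y : B f 0 a) : pr hnz (n + 1) (mu hnz n y) = 0 := by
  rw [pr_succ, show rd f n a (mu hnz n y) = 0 from (tw f hnz a).red_mu n y]
  exact map_zero ((tw f hnz a).pr n)

theorem mu_mul_mu (n : ℕ) {a : A} (x y : B f 0 a) : mu hnz n x * mu hnz n y = 0 := by
  rw [mul_mu, pr_mu, zero_mul, map_zero]

theorem isUnit_of_pr (n : ℕ) {a : A} {x : B f n a} (h : IsUnit (pr hnz n x)) : IsUnit x := by
  obtain ⟨y₀, hy₀⟩ := h.exists_right_inv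
  obtain ⟨y, rfl⟩ : ∃ y : B f n a, pr hnz n y = y₀ := (tw f hnz a).pr_surj n y₀
  change pr hnz n x * pr hnz n y = 1 at hy₀
  have h1 : pr hnz n (x * y - 1) = 0 := by rw [pr_sub, pr_mul, hy₀, pr_one, sub_self]
  obtain ⟨w, hw⟩ : ∃ w : B f n a, f • w = x * y - 1 := (tw f hnz a).exists_smul_of_pr n _ h1
  have hnil : IsNilpotent (x * y - 1) := by
    refine ⟨n + 1, ?_⟩
    rw [← hw, Algebra.smul_def, mul_pow, ← map_pow, algebraMap_pow, zero_mul]
  have h2 : IsUnit (x * y) := by
    have := hnil.isUnit_one_add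
    rwa [add_sub_cancel] at this
  exact isUnit_of_mul_isUnit_left h2

end Groth.Agent.LefAlgz.PicR
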