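import Groth.Agent.CILift.Hyper
import Groth.Agent.LefAlgz.PicLoc
import Groth.Agent.LefAlgz.ModCoh

/-!
# Rank one modules and invertible sheaves on opens of a spectrum
-/

noncomputable section

set_option autoImplicit false
set_option linter.style.haveILetI false
set_option linter.unusedSectionVars false
set_option backward.isDefEq.respectTransparency false
set_option backward.isDefEq.respectTransparency.types false

universe u

open CategoryTheory CategoryTheory.Limits AlgebraicGeometry TopologicalSpace Opposite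

namespace Groth.Agent.LefAlgz.PicS

open Groth.Agent Groth.Agent.RamSam Groth.Agent.ParaFX Groth.Agent.ParaFX.StalkIso Groth.Agent.LefAlgz.PicL

variable {R : Type u} [CommRing R] [IsNoetherianRing R]

set_option maxHeartbeats 800000 in
/-- A module of rank one on an open gives an invertible sheaf there. -/
theorem isInvertible_restrict_tilde (U : (Spec (CommRingCat.of R)).Opens) (N : Type u) [AddCommGroup N] [Module R N]
    [Module.Finite R N] (hN : ∀ q : PrimeSpectrum R, (q : Spec (CommRingCat.of R)) ∈ U → RankOne N q.asIdeal) :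
    PicF.IsInvertible ((Formal2.tmod R N).restrict U.ι) := by
  let A := CommRingCat.of R
  let X := Spec A
  haveI : IsNoetherianRing A := inferInstanceAs (IsNoetherianRing R)
  haveI : IsNoetherian X := inferInstance
  let NA : ModuleCat.{u} A := ModuleCat.of R N
  let E : X.Modules := tilde (R := A) NA
  have hEq : Coh.IsQCoh E := inferInstanceAs ((tilde (R := A) NA).IsQuasicoherent)
  haveI : Module.FinitePresentation R N := Module.finitePresentation_of_finite R N
  have hEc : Coh.IsCoh E :=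
    QCoh.isCoh_iff_isFP.2 ((QCoh.isFP_tilde_iff (R := A) NA).2 ‹_›)
  let η₀ : N ≃ₗ[R] (moduleSpecΓFunctor (R := A)).obj E :=
    (tilde.toTildeΓNatIso.app NA).toLinearEquiv
  let sec : N → Γ(E, ⊤) := fun x => η₀ x
  have hsec : ∀ q : X, q ∈ U → ∃ e : N,
      Function.Bijective fun a : X.presheaf.stalk q => a • E.presheaf.germ ⊤ q trivial (sec e) := by
    intro q hq
    obtain ⟨e, he, hann⟩ := hN q hq
    refine ⟨e, stalk_gen_of_rankOne A E hEq q (sec e) (fun x => ?_) fun b hb => ?_⟩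
    · obtain ⟨r, hr, b, hb⟩ := he (η₀.symm x)
      refine ⟨r, hr, b, ?_⟩
      have := congrArg η₀ hb
      rw [map_smul, map_smul, LinearEquiv.apply_symm_apply] at this
      exact this
    · exact hann b (η₀.injective (by rw [map_smul, map_zero]; exact hb))
  show PicF.IsInvertible (E.restrict U.ι)
  refine isInvertible_restrict_of_local E U fun q hq => ?_
  obtain ⟨e, he⟩ := hsec q hq
  obtain ⟨φ, hφ⟩ := exists_hom_generating (isAffineOpen_top X) hEq q _ he
  let W₀ : X.Opens := ⟨_, isOpen_bij (StalkPair.isCoh_of_invertible (StalkPair.isInvertible_structureModule X))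
    hEc φ⟩
  refine ⟨W₀ ⊓ U, ⟨hφ, hq⟩, inf_le_right, ?_⟩
  haveI : IsIso ((Scheme.Modules.restrictFunctor (W₀ ⊓ U).ι).map φ) := by
    refine (NatIso.isIso_map_iff (Scheme.Modules.restrictFunctorIsoPullback (W₀ ⊓ U).ι) φ).2 ?_
    exact isIso_of_bij _ fun w => (bij_pullback_iff (W₀ ⊓ U).ι φ w).2 w.2.1
  exact isInvertible_of_iso (asIso ((Scheme.Modules.restrictFunctor (W₀ ⊓ U).ι).map φ))
    (isInvertible_restrict (W₀ ⊓ U).ι (StalkPair.isInvertible_structureModule X))

/-- A finite module for an invertible sheaf on an open. -/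
theorem exists_module (U : (Spec (CommRingCat.of R)).Opens) (L : (U : Scheme.{u}).Modules)
    (hL : PicF.IsInvertible L) :
    ∃ (N : Type u) (_ : AddCommGroup N) (_ : Module R N), Module.Finite R N ∧
      Nonempty ((Formal2.tmod R N).restrict U.ι ≅ L) ∧
      ∀ q : PrimeSpectrum R, (q : Spec (CommRingCat.of R)) ∈ U → RankOne N q.asIdeal := by
  let A := CommRingCat.of R
  haveI : IsNoetherianRing A := inferInstanceAs (IsNoetherianRing R)
  haveI : IsNoetherian (Spec A) := inferInstance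
  have hLc := StalkPair.isCoh_of_invertible hL
  obtain ⟨E, hEq, hEft, ⟨eE⟩⟩ := QCoh.exists_extension_abs (KZ.extStep U) L hLc.1 hLc.2
  haveI : IsIso (Scheme.Modules.fromTildeΓ (R := A) E) :=
    (isQuasicoherent_iff_isIso_fromTildeΓ (R := A) E).1 hEq
  let M := (moduleSpecΓFunctor (R := A)).obj E
  have hEfp : CohB1.IsFP E := QCoh.isCoh_iff_isFP.1 ⟨hEq, hEft⟩
  haveI : Module.FinitePresentation R M := (QCoh.isFP_iff_finitePresentation E hEq).1 hEfp
  exact ⟨M, inferInstance, inferInstance, inferInstance,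
    ⟨(Scheme.Modules.restrictFunctor U.ι).mapIso (asIso (Scheme.Modules.fromTildeΓ (R := A) E)) ≪≫ eE⟩,
    fun q hq => CILift.rankOne_of_invertible (R := A) U hL hEq eE q.asIdeal hq⟩

set_option maxHeartbeats 1600000 in
/-- Compatible generators from a trivialisation. -/
theorem exists_gens_of_trivial (U : (Spec (CommRingCat.of R)).Opens) (N : Type u) [AddCommGroup N] [Module R N]
    (i : (Formal2.tmod R N).restrict U.ι ≅ Coh.structureModule (U : Scheme.{u})) {k : ℕ} (b : Fin k → R)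
    (hb : ∀ j, H9FCoh.bOpen (R := CommRingCat.of R) (b j) ≤ U) :
    ∃ (n : ℕ) (m : Fin k → N), (∀ i j, b i ^ n • m j = b j ^ n • m i) ∧
      ∀ j, ∀ P : Ideal R, P.IsPrime → b j ∉ P → Gen (m j) P := by
  let A := CommRingCat.of R
  letI : (Spec A).Over (Spec (CommRingCat.of R)) := ⟨𝟙 _⟩
  let D : R → (Spec A).Opens := fun a => H9FCoh.bOpen (R := A) a
  let W : R → (U : Scheme.{u}).Opens := fun a => U.ι ⁻¹ᵁ D a
  have hWD : ∀ a, D a ≤ U → U.ι ''ᵁ W a = D a := fun a ha => by
    rw [Scheme.Hom.image_preimage_eq_opensRange_inf, Scheme.Opens.opensRange_ι]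
    exact inf_eq_right.2 ha
  obtain ⟨σ, hσres, hσspan, hσann⟩ : ∃ σ : ∀ a, D a ≤ U → H9Lef.Sct R N (D a),
      (∀ a a' ha ha' (h : D a' ≤ D a), H9Lef.sres h (σ a ha) = σ a' ha') ∧
      (∀ a ha (y : H9Lef.Sct R N (D a)), ∃ (K : ℕ) (c : R), a ^ K • y = c • σ a ha) ∧
      ∀ a ha (c : R), c • σ a ha = 0 → ∃ K : ℕ, a ^ K * c = 0 := by
    let η := i.inv
    have hbij : ∀ V, Function.Bijective (η.app V) := fun V => by
      haveI : IsIso (η.app V) := ⟨i.hom.app V,
        by rw [← Scheme.Modules.Hom.comp_app, i.inv_hom_id]; rfl,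
        by rw [← Scheme.Modules.Hom.comp_app, i.hom_inv_id]; rfl⟩
      exact ConcreteCategory.bijective_of_isIso (η.app V)
    let one : ∀ V : (U : Scheme.{u}).Opens, Γ(Coh.structureModule (U : Scheme.{u}), V) := fun V =>
      (1 : Γ((U : Scheme.{u}), V))
    let τ : ∀ a, H9Lef.Sct R N (U.ι ''ᵁ W a) := fun a => η.app (W a) (one (W a))
    have hlin : ∀ a (c : R), (show H9Lef.Sct R N (U.ι ''ᵁ W a) from
        η.app (W a) (H9FCoh.secRing (A := R) (W a) c • one (W a))) = c • τ a := fun a c => by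
      have h := congr(($(Algz7.smulMod_naturality η c)).app (W a) (one (W a)))
      rw [← Algz7.restrict_smulMod (A := R) U.ι (Category.comp_id _)] at h
      exact h
    refine ⟨fun a ha => H9Lef.sres (hWD a ha).ge (τ a), fun a a' ha ha' h => ?_, fun a ha y => ?_, fun a ha c hc => ?_⟩
    · have hW : W a' ≤ W a := fun x hx => h hx
      have hn : τ a' = H9Lef.sres (Scheme.Hom.image_mono U.ι hW) (τ a) := by
        have h1 : (Coh.structureModule (U : Scheme.{u})).presheaf.map (homOfLE hW).op (one (W a)) = one (W a') :=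
          map_one ((U : Scheme.{u}).presheaf.map (homOfLE hW).op).hom
        show η.app (W a') (one (W a')) = _
        rw [← h1]
        exact ConcreteCategory.congr_hom (η.mapPresheaf.naturality (homOfLE hW).op) (one (W a))
      show H9Lef.sres (A := R) (M := N) h (H9Lef.sres (A := R) (M := N) (hWD a ha).ge (τ a)) =
        H9Lef.sres (A := R) (M := N) (hWD a' ha').ge (τ a')
      rw [hn, H9Lef.sres_sres, H9Lef.sres_sres]
    · obtain ⟨hfrac, -⟩ := basicOpen_sec (R := A) U a ha
      obtain ⟨z, hz⟩ := (hbij (W a)).2 (H9Lef.sres (hWD a ha).le y)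
      obtain ⟨K, c, hc⟩ := hfrac (show Γ((U : Scheme.{u}), W a) from z)
      refine ⟨K, c, ?_⟩
      have h1 : a ^ K • H9Lef.sres (hWD a ha).le y = c • τ a := by
        rw [← hlin a c, ← hz]
        have h := congr(($(Algz7.smulMod_naturality η (a ^ K))).app (W a) z)
        rw [← Algz7.restrict_smulMod (A := R) U.ι (Category.comp_id _)] at h
        refine Eq.trans h.symm ?_
        refine congrArg (η.app (W a)) ?_
        show H9FCoh.secRing (A := R) (W a) (a ^ K) * (show Γ((U : Scheme.{u}), W a) from z) =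
          H9FCoh.secRing (A := R) (W a) c * 1
        rw [mul_one]
        exact hc
      have h2 := congrArg (H9Lef.sres (hWD a ha).ge) h1
      rw [map_smul, map_smul, H9Lef.sres_sres] at h2
      rw [← h2]
      congr 1
    · obtain ⟨-, hzero⟩ := basicOpen_sec (R := A) U a ha
      have hinj : Function.Injective (H9Lef.sres (A := R) (M := N) (hWD a ha).ge) := fun u v huv => by
        have := congrArg (H9Lef.sres (hWD a ha).le) huv
        rw [H9Lef.sres_sres, H9Lef.sres_sres] at this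
        have hid : ∀ w : H9Lef.Sct R N (U.ι ''ᵁ W a), H9Lef.sres (A := R) (M := N) (le_refl (U.ι ''ᵁ W a)) w = w :=
          fun w =>
          ConcreteCategory.congr_hom ((TildeTorsion.P (A := A) (ModuleCat.of R N)).map_id (op _)) w
        rwa [hid, hid] at this
      have h1 : c • τ a = 0 := hinj (by rw [map_smul, map_zero]; exact hc)
      rw [← hlin] at h1
      have h2 : H9FCoh.secRing (A := R) (W a) c • one (W a) = 0 :=
        (hbij (W a)).1 (h1.trans (map_zero (η.app (W a)).hom).symm)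
      have h3 : H9FCoh.secRing (A := R) (W a) c * 1 = 0 := h2
      rw [mul_one] at h3
      exact hzero c h3
  have hloc : ∀ a : R, IsLocalizedModule (Submonoid.powers a) (H9Lef.sec N (D a)) := fun a =>
    H9Lef.isLocalizedModule_sec N a
  choose w hw using fun j => by
    haveI := hloc (b j)
    exact IsLocalizedModule.surj (Submonoid.powers (b j)) (H9Lef.sec N (D (b j))) (σ (b j) (hb j))
  choose k₀ hk₀ using fun j => (w j).2.2
  let K₀ := Finset.univ.sup k₀
  obtain ⟨m₀, hm₀⟩ : ∃ m₀ : Fin k → N, ∀ j, H9Lef.sec N (D (b j)) (m₀ j) = b j ^ K₀ • σ (b j) (hb j) := by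
    refine ⟨fun j => b j ^ (K₀ - k₀ j) • (w j).1, fun j => ?_⟩
    have hm' : b j ^ k₀ j • σ (b j) (hb j) = H9Lef.sec N (D (b j)) (w j).1 := by
      rw [← hw j, Submonoid.smul_def, ← hk₀ j]
    simp only [map_smul, ← hm', smul_smul, ← pow_add, Nat.sub_add_cancel (Finset.le_sup (f := k₀) (Finset.mem_univ j)), K₀]
  have hdiff : ∀ p : Fin k × Fin k, ∃ L : ℕ,
      (b p.1 * b p.2) ^ L • (b p.1 ^ K₀ • m₀ p.2 - b p.2 ^ K₀ • m₀ p.1) = 0 := fun p => by
    have hl : D (b p.1 * b p.2) ≤ D (b p.1) := PrimeSpectrum.basicOpen_mul_le_left _ _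
    have hr : D (b p.1 * b p.2) ≤ D (b p.2) := PrimeSpectrum.basicOpen_mul_le_right _ _
    have hU := hl.trans (hb p.1)
    haveI := hloc (b p.1 * b p.2)
    have h1 := congrArg (H9Lef.sres hl) (hm₀ p.1)
    have h2 := congrArg (H9Lef.sres hr) (hm₀ p.2)
    rw [H9Lef.sres_sec, map_smul (H9Lef.sres hl) (b p.1 ^ K₀), hσres _ _ _ hU hl] at h1
    rw [H9Lef.sres_sec, map_smul (H9Lef.sres hr) (b p.2 ^ K₀), hσres _ _ _ hU hr] at h2
    have h0 : H9Lef.sec N (D (b p.1 * b p.2)) (b p.1 ^ K₀ • m₀ p.2 - b p.2 ^ K₀ • m₀ p.1) = 0 := by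
      rw [map_sub, map_smul, map_smul, h1, h2, smul_comm, sub_self]
    obtain ⟨⟨_, L, rfl⟩, hL⟩ :=
      (IsLocalizedModule.eq_zero_iff (Submonoid.powers (b p.1 * b p.2)) (H9Lef.sec N (D (b p.1 * b p.2)))).1 h0
    exact ⟨L, hL⟩
  choose L hL using hdiff
  let L₀ := Finset.univ.sup L
  refine ⟨K₀ + L₀, fun j => b j ^ L₀ • m₀ j, fun i j => ?_, fun j P hP hbP => ?_⟩
  · obtain ⟨d, hd⟩ := Nat.exists_eq_add_of_le (Finset.le_sup (f := L) (Finset.mem_univ (i, j)))
    have h := congrArg ((b i * b j) ^ d • ·) (hL (i, j))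
    simp only [smul_zero, smul_smul, ← pow_add, add_comm d] at h
    rw [← show L₀ = L (i, j) + d from hd, smul_sub, sub_eq_zero, smul_smul ((b i * b j) ^ L₀) (b i ^ K₀) (m₀ j),
      smul_smul ((b i * b j) ^ L₀) (b j ^ K₀) (m₀ i)] at h
    rw [smul_smul (b i ^ (K₀ + L₀)) (b j ^ L₀) (m₀ j), smul_smul (b j ^ (K₀ + L₀)) (b i ^ L₀) (m₀ i),
      show b i ^ (K₀ + L₀) * b j ^ L₀ = (b i * b j) ^ L₀ * b i ^ K₀ by ring,
      show b j ^ (K₀ + L₀) * b i ^ L₀ = (b i * b j) ^ L₀ * b j ^ K₀ by ring]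
    exact h
  · haveI := hloc (b j)
    have hpow : ∀ e : ℕ, b j ^ e ∉ P := fun e h => hbP (hP.mem_of_pow_mem e h)
    have hsecm : H9Lef.sec N (D (b j)) (b j ^ L₀ • m₀ j) = b j ^ (L₀ + K₀) • σ (b j) (hb j) := by
      rw [map_smul, hm₀, smul_smul, ← pow_add]
    refine ⟨fun x => ?_, fun c hc => ?_⟩
    · obtain ⟨K, c, hc⟩ := hσspan _ (hb j) (H9Lef.sec N (D (b j)) x)
      have h0 : H9Lef.sec N (D (b j)) (b j ^ (L₀ + K₀ + K) • x - c • (b j ^ L₀ • m₀ j)) = 0 := by
        rw [map_sub, map_smul, map_smul _ c, hsecm, pow_add (b j) (L₀ + K₀) K, mul_smul, hc, smul_comm, sub_self]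
      obtain ⟨⟨_, e, rfl⟩, he⟩ :=
        (IsLocalizedModule.eq_zero_iff (Submonoid.powers (b j)) (H9Lef.sec N (D (b j)))).1 h0
      refine ⟨b j ^ e * b j ^ (L₀ + K₀ + K), hP.mul_notMem (hpow _) (hpow _), b j ^ e * c, ?_⟩
      rw [mul_smul, mul_smul (b j ^ e) c, ← sub_eq_zero, ← smul_sub]
      exact he
    · have h0 := congrArg (H9Lef.sec N (D (b j))) hc
      rw [map_zero, map_smul, hsecm, smul_smul] at h0
      obtain ⟨K, hK⟩ := hσann _ (hb j) _ h0
      exact ⟨b j ^ (K + (L₀ + K₀)), hpow _, by rw [← hK, pow_add (b j) K]; ring⟩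

end Groth.Agent.LefAlgz.PicS
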