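import Groth.Agent.LefAlgz.AlgStab
import Groth.Agent.LefAlgz.LCKill
import Groth.Agent.LefAlgz.FreeCrit
import Groth.Agent.AdicLib.Basic

/-!
# Descending an algebraization along a finite map which is an isomorphism off `f`
-/

noncomputable section

set_option autoImplicit false
set_option linter.style.haveILetI false
set_option backward.isDefEq.respectTransparency false
set_option backward.isDefEq.respectTransparency.types false

universe u

open IsLocalRing TensorProduct Groth.Agent.Pi1Ext.RegPurity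

namespace Groth.Agent.LefAlgz

open Groth.Agent

/-- A square: a finite algebra `B`, and an ideal of `A` mapped bijectively onto a principal ideal of `B`. -/
structure IsPinch (A B : Type u) [CommRing A] [CommRing B] [Algebra A B] (e : A) (I₀ : Ideal A) : Prop where
  mem : e ∈ I₀
  nzd : algebraMap A B e ∈ nonZeroDivisors B
  inj : ∀ i ∈ I₀, algebraMap A B i = 0 → i = 0
  onto : ∀ b : B, ∃ i ∈ I₀, algebraMap A B i = algebraMap A B e * b
  into : ∀ i ∈ I₀, ∃ b : B, algebraMap A B i = algebraMap A B e * b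

section Glue

variable {A B : Type u} [CommRing A] [CommRing B] [Algebra A B] {e : A} {I₀ : Ideal A}
  {MB S C : Type u} [CommRing MB] [Algebra A MB] [CommRing S] [Algebra A S] [CommRing C] [Algebra A C]

/-- Pairs agreeing in `S`. -/
def glue (ρ : MB →ₐ[A] S) (θ : C →ₐ[A] S) : Subalgebra A (MB × C) :=
  AlgHom.equalizer (ρ.comp (AlgHom.fst A MB C)) (θ.comp (AlgHom.snd A MB C))

theorem mem_glue {ρ : MB →ₐ[A] S} {θ : C →ₐ[A] S} {z : MB × C} : z ∈ glue ρ θ ↔ ρ z.1 = θ z.2 := Iff.rfl

variable [Algebra B MB] [IsScalarTower A B MB]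

theorem glue_kernel (hI : IsPinch A B e I₀) (hC : ∀ i ∈ I₀, ∀ x : C, i • x = 0) (ρ : MB →ₐ[A] S)
    (θ : C →ₐ[A] S) {a : A} {K : ℕ} {w : MB} (m : glue ρ θ) (hm2 : m.1.2 = 0)
    (hm1 : m.1.1 = algebraMap A B e • w)
    (hw : a ^ K • w ∈ Submodule.span B (Set.range fun z : glue ρ θ => z.1.1)) :
    a ^ K • m ∈ I₀ • (⊤ : Submodule A (glue ρ θ)) := by
  obtain ⟨c, hc⟩ := Finsupp.mem_span_range_iff_exists_finsupp.1 hw
  choose i hi hib using fun z => hI.onto (c z)
  have heq : a ^ K • m = ∑ z ∈ c.support, i z • z := by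
    refine Subtype.ext (Prod.ext ?_ ?_)
    · simp only [AddSubmonoidClass.coe_finsetSum, Prod.fst_sum, SetLike.val_smul, Prod.smul_fst]
      rw [hm1, smul_comm, ← hc]
      simp only [Finsupp.sum, Finset.smul_sum]
      refine Finset.sum_congr rfl fun z _ => ?_
      rw [smul_smul, ← hib z, algebraMap_smul]
    · simp only [AddSubmonoidClass.coe_finsetSum, Prod.snd_sum, SetLike.val_smul, Prod.smul_snd]
      rw [hm2, smul_zero]
      exact (Finset.sum_eq_zero fun z _ => hC _ (hi z) _).symm
  rw [heq]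
  exact Submodule.sum_mem _ fun z _ => Submodule.smul_mem_smul (hi z) Submodule.mem_top

end Glue

variable {A B : Type u} [CommRing A] [IsNoetherianRing A] [IsLocalRing A] [CommRing B] [Algebra A B]
  [Module.Finite A B] {e : A} {I₀ : Ideal A}

set_option maxHeartbeats 1000000 in
set_option synthInstance.maxHeartbeats 100000 in
/-- Finite algebras over a pinched ring, étale along `V(I₀)` off the closed point. -/
theorem exists_model (hI : IsPinch A B e I₀) (he : e ∈ maximalIdeal A) (hI₀ : I₀ ≤ maximalIdeal A)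
    {MB S C : Type u} [CommRing MB] [Algebra B MB] [Module.Finite B MB] [CommRing S] [Algebra B S]
    [CommRing C] [Algebra (A ⧸ I₀) C] [Module.Finite (A ⧸ I₀) C] [IsLocalRing (A ⧸ I₀)] (hC : EtOff (A ⧸ I₀) C)
    [Algebra (A ⧸ I₀) (B ⧸ Ideal.span {algebraMap A B e})]
    [IsScalarTower A (A ⧸ I₀) (B ⧸ Ideal.span {algebraMap A B e})]
    (ρ : MB →ₐ[B] S)
    (κ : (B ⧸ Ideal.span {algebraMap A B e}) ⊗[A ⧸ I₀] C →ₐ[B] S)
    (hinj : Function.Injective fun x : MB => algebraMap A B e • x)
    (hρe : ∀ y, ρ (algebraMap A B e • y) = 0) (hρker : ∀ x, ρ x = 0 → ∃ y, algebraMap A B e • y = x)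
    (hloc : ∀ b ∈ (maximalIdeal A).map (algebraMap A B),
      (∀ s, ∃ K m, b ^ K • s = ρ m) ∧ (∀ s, ∃ K c, b ^ K • s = κ c) ∧ (∀ c, κ c = 0 → ∃ K, b ^ K • c = 0)) :
    ∃ (M : Type u) (_ : CommRing M) (_ : Algebra A M) (_ : Module.Finite A M)
      (π : (A ⧸ I₀) ⊗[A] M →ₐ[A ⧸ I₀] C),
      (∀ b ∈ maximalIdeal (A ⧸ I₀), IsoAway π b) ∧
      ∀ (p : Ideal A) [p.IsPrime], I₀ ≤ p → p ≠ maximalIdeal A → ∃ h ∉ p, EtAway A M h := by
  classical
  let T := A ⧸ I₀
  let B' := B ⧸ Ideal.span {algebraMap A B e}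
  letI : Algebra A C := ((algebraMap T C).comp (algebraMap A T)).toAlgebra
  haveI : IsScalarTower A T C := IsScalarTower.of_algebraMap_eq fun _ => rfl
  letI : Algebra A MB := ((algebraMap B MB).comp (algebraMap A B)).toAlgebra
  haveI : IsScalarTower A B MB := IsScalarTower.of_algebraMap_eq fun _ => rfl
  letI : Algebra A S := ((algebraMap B S).comp (algebraMap A B)).toAlgebra
  haveI : IsScalarTower A B S := IsScalarTower.of_algebraMap_eq fun _ => rfl
  haveI : Module.Finite A T := inferInstance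
  haveI : Module.Finite A C := Module.Finite.trans T C
  haveI : Module.Finite A MB := Module.Finite.trans B MB
  have hsB : ∀ (a : A) (k : ℕ) (s : S), (algebraMap A B a) ^ k • s = a ^ k • s := fun a k s => by
    rw [← map_pow, algebraMap_smul]
  let θ : C →ₐ[A] S :=
    { toRingHom := κ.toRingHom.comp (Algebra.TensorProduct.includeRight (R := T) (A := B') (B := C)).toRingHom
      commutes' := fun a => by
        show κ ((1 : B') ⊗ₜ[T] algebraMap T C (algebraMap A T a)) = algebraMap B S (algebraMap A B a)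
        rw [← Algebra.TensorProduct.tmul_one_eq_one_tmul, ← IsScalarTower.algebraMap_apply A T B']
        exact κ.commutes (algebraMap A B a) }
  have hθ : ∀ c, θ c = κ ((1 : B') ⊗ₜ[T] c) := fun _ => rfl
  let M := glue (ρ.restrictScalars A) θ
  haveI : IsNoetherian A (MB × C) := isNoetherian_of_isNoetherianRing_of_finite A _
  haveI : Module.Finite A M :=
    Module.Finite.of_injective M.val.toLinearMap Subtype.val_injective
  have hC0 : ∀ i ∈ I₀, ∀ x : C, i • x = 0 := fun i hi x => by
    rw [← algebraMap_smul T, show algebraMap A T i = 0 from Ideal.Quotient.eq_zero_iff_mem.2 hi, zero_smul]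
  have hmapmem : ∀ a ∈ maximalIdeal A, algebraMap A B a ∈ (maximalIdeal A).map (algebraMap A B) :=
    fun a ha => Ideal.mem_map_of_mem _ ha
  -- density of the second projection
  have hsurj : ∀ a ∈ maximalIdeal A, ∀ x : C, ∃ K, ∃ m : M, m.1.2 = a ^ K • x := fun a ha x => by
    obtain ⟨K, y, hy⟩ := (hloc _ (hmapmem a ha)).1 (θ x)
    rw [hsB] at hy
    exact ⟨K, ⟨(y, a ^ K • x), mem_glue.2 (hy.symm.trans (map_smul θ _ x).symm)⟩, rfl⟩
  -- multiples of `e` in the first projection
  have hemem : ∀ w : MB, (algebraMap A B e • w, (0 : C)) ∈ M := fun w => mem_glue.2 (by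
    show ρ (algebraMap A B e • w) = θ 0
    rw [hρe, map_zero])
  let P : Submodule B MB := Submodule.span B (Set.range fun z : M => z.1.1)
  have hgen : ∀ a ∈ maximalIdeal A, ∀ w : MB, ∃ K, a ^ K • w ∈ P := fun a ha w => by
    obtain ⟨K, c, hc⟩ := (hloc _ (hmapmem a ha)).2.1 (ρ w)
    rw [hsB] at hc
    obtain ⟨K', y, hy, hy'⟩ : ∃ (K' : ℕ), ∃ y ∈ P, ρ y = a ^ K' • κ c ∧ True := by
      clear hc
      induction c using TensorProduct.induction_on with
      | zero => exact ⟨0, 0, zero_mem _, by rw [map_zero, map_zero, smul_zero], trivial⟩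
      | tmul b x =>
        obtain ⟨K', m, hm⟩ := hsurj a ha x
        obtain ⟨b, rfl⟩ := Ideal.Quotient.mk_surjective b
        refine ⟨K', b • m.1.1, Submodule.smul_mem _ _ (Submodule.subset_span ⟨m, rfl⟩), ?_, trivial⟩
        rw [map_smul, show ρ m.1.1 = θ m.1.2 from m.2, hm, map_smul, hθ, smul_comm,
          show (Ideal.Quotient.mk (Ideal.span {algebraMap A B e}) b : B') ⊗ₜ[T] x = b • ((1 : B') ⊗ₜ[T] x) by
            rw [smul_tmul', Algebra.smul_def, mul_one]; rfl, map_smul]
      | add c d hc hd =>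
        obtain ⟨k, y, hy, hy', -⟩ := hc
        obtain ⟨k', y', hy1, hy1', -⟩ := hd
        refine ⟨k + k', a ^ k' • y + a ^ k • y', add_mem (P.smul_of_tower_mem _ hy) (P.smul_of_tower_mem _ hy1),
          ?_, trivial⟩
        have e1 : ρ (a ^ k' • y) = a ^ k' • ρ y := map_smul (ρ.restrictScalars A) _ _
        have e2 : ρ (a ^ k • y') = a ^ k • ρ y' := map_smul (ρ.restrictScalars A) _ _
        rw [map_add, e1, e2, hy', hy1', map_add, smul_add, smul_smul, smul_smul, ← pow_add, ← pow_add,
          add_comm k' k]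
    obtain ⟨w', hw'⟩ := hρker (a ^ (K' + K) • w - y) (by
      rw [map_sub, show ρ (a ^ (K' + K) • w) = a ^ (K' + K) • ρ w from map_smul (ρ.restrictScalars A) _ _,
        pow_add, mul_smul, hc, hy'.1, sub_self])
    refine ⟨K' + K, ?_⟩
    rw [sub_eq_iff_eq_add.1 hw'.symm]
    exact add_mem (Submodule.subset_span ⟨⟨_, hemem w'⟩, rfl⟩) hy
  have hker : ∀ a ∈ maximalIdeal A, ∀ m : M, m.1.2 = 0 → ∃ K, a ^ K • m ∈ I₀ • (⊤ : Submodule A M) := by
    intro a ha m hm
    obtain ⟨w, hw⟩ := hρker m.1.1 ((show ρ m.1.1 = θ m.1.2 from m.2).trans (by rw [hm, map_zero]))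
    obtain ⟨K, hK⟩ := hgen a ha w
    exact ⟨K, glue_kernel hI hC0 (ρ.restrictScalars A) θ m hm hw.symm hK⟩
  -- the comparison modulo the ideal
  let snd' : M →ₐ[A] C := (AlgHom.snd A MB C).comp M.val
  let π : T ⊗[A] M →ₐ[T] C := Algebra.TensorProduct.lift (Algebra.ofId T C) snd' fun _ _ => Commute.all _ _
  have hπ : ∀ m : M, π ((1 : T) ⊗ₜ[A] m) = m.1.2 := fun m => by simp [π, snd']
  have hT1 : ∀ z : T ⊗[A] M, ∃ m : M, (1 : T) ⊗ₜ[A] m = z := fun z => by
    induction z using TensorProduct.induction_on with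
    | zero => exact ⟨0, tmul_zero _ _⟩
    | tmul b m =>
      obtain ⟨a, rfl⟩ := Ideal.Quotient.mk_surjective b
      refine ⟨a • m, ?_⟩
      rw [tmul_smul, smul_tmul', Algebra.smul_def, mul_one]
      rfl
    | add x y hx hy =>
      obtain ⟨a, rfl⟩ := hx
      obtain ⟨b, rfl⟩ := hy
      exact ⟨a + b, tmul_add _ _ _⟩
  have hsT : ∀ (N : Type u) [AddCommGroup N] [Module A N] [Module T N] [IsScalarTower A T N] (a : A) (n : ℕ) (x : N),
      (algebraMap A T a) ^ n • x = a ^ n • x := fun N _ _ _ _ a n x => by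
    rw [← map_pow, algebraMap_smul]
  have hπiso : ∀ b ∈ maximalIdeal T, IsoAway π b := fun b hb => by
    obtain ⟨a, rfl⟩ := Ideal.Quotient.mk_surjective b
    have ha : a ∈ maximalIdeal A := by
      rw [IsLocalRing.mem_maximalIdeal, mem_nonunits_iff] at hb ⊢
      exact fun h => hb (h.map _)
    refine ⟨fun x => ?_, fun z hz => ?_⟩
    · obtain ⟨K, m, hm⟩ := hsurj a ha x
      exact ⟨K, (1 : T) ⊗ₜ[A] m, (hsT C a K x).trans (hm.symm.trans (hπ m).symm)⟩
    · obtain ⟨m, rfl⟩ := hT1 z
      obtain ⟨K, hK⟩ := hker a ha m ((hπ m).symm.trans hz)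
      refine ⟨K, (hsT (T ⊗[A] M) a K _).trans ?_⟩
      rw [← tmul_smul]
      have : ∀ n ∈ I₀ • (⊤ : Submodule A M), (1 : T) ⊗ₜ[A] n = 0 := fun n hn => by
        induction hn using Submodule.smul_induction_on' with
        | smul i hi n _ =>
          rw [tmul_smul, smul_tmul', Algebra.smul_def, mul_one,
            show algebraMap A T i = 0 from Ideal.Quotient.eq_zero_iff_mem.2 hi, zero_tmul]
        | add x _ y _ hx hy => rw [tmul_add, hx, hy, add_zero]
      exact this _ hK
  refine ⟨M, inferInstance, inferInstance, inferInstance, π, hπiso, fun p _ hIp hne => ?_⟩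
  obtain ⟨a, ha, hap⟩ : ∃ a ∈ maximalIdeal A, a ∉ p := SetLike.not_le_iff_exists.1 fun h =>
    hne (le_antisymm (IsLocalRing.le_maximalIdeal (Ideal.IsPrime.ne_top inferInstance)) h)
  -- coordinates of `C` at the prime
  let mk := Ideal.Quotient.mk I₀
  haveI hq : (p.map mk).IsPrime := Ideal.map_isPrime_of_surjective Ideal.Quotient.mk_surjective
    (by rw [Ideal.mk_ker]; exact hIp)
  have hmem : ∀ z : A, mk z ∈ p.map mk ↔ z ∈ p := fun z => by
    rw [← Ideal.mem_comap, Ideal.comap_map_of_surjective mk Ideal.Quotient.mk_surjective, ← RingHom.ker_eq_comap_bot,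
      Ideal.mk_ker, sup_eq_left.2 hIp]
  have haT : mk a ∈ maximalIdeal T := by
    rw [IsLocalRing.mem_maximalIdeal, mem_nonunits_iff]
    intro hu
    haveI : IsLocalHom mk := IsLocalHom.of_surjective _ Ideal.Quotient.mk_surjective
    exact (IsLocalRing.mem_maximalIdeal a).1 ha (IsUnit.of_map mk a hu)
  obtain ⟨d, x, u, hu, l, hl, hspan⟩ := exists_coordinates (hC (mk a) haT) (p.map mk) fun h => hap ((hmem a).1 h)
  obtain ⟨u₀, rfl⟩ := Ideal.Quotient.mk_surjective u
  have hu₀ : u₀ ∉ p := fun h => hu ((hmem u₀).2 h)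
  choose K m hm using fun i => hsurj a ha (x i)
  let R := Localization.AtPrime p
  let N := R ⊗[A] M
  let j : M →ₗ[A] N := TensorProduct.mk A R M 1
  haveI : IsLocalizedModule p.primeCompl j :=
    (isLocalizedModule_iff_isBaseChange p.primeCompl R _).2 (TensorProduct.isBaseChange A M R)
  let ev : (Fin d → R) →ₗ[R] N := Fintype.linearCombination R fun i => j (m i)
  have hev : ∀ α : Fin d → A, ev (fun i => algebraMap A R (α i)) = j (∑ i, α i • m i) := fun α => by
    rw [map_sum]
    simp only [ev, Fintype.linearCombination_apply, algebraMap_smul, map_smul]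
  have hI₀R : I₀.map (algebraMap A R) ≤ (⊥ : Ideal R).jacobson :=
    ((Ideal.map_mono hIp).trans Localization.AtPrime.map_eq_maximalIdeal.le).trans
      (IsLocalRing.maximalIdeal_le_jacobson ⊥)
  have hevsurj : Function.Surjective ev := by
    refine LinearMap.range_eq_top.1 (top_le_iff.1
      (Submodule.le_of_le_smul_of_le_jacobson_bot (Module.Finite.fg_top (R := R) (M := N)) hI₀R fun z _ => ?_))
    obtain ⟨⟨n, s⟩, hz⟩ := IsLocalizedModule.surj p.primeCompl j z
    obtain ⟨v, hv, hvspan⟩ := hspan n.1.2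
    obtain ⟨v, rfl⟩ := Ideal.Quotient.mk_surjective v
    obtain ⟨γ, hγ⟩ := (Submodule.mem_span_range_iff_exists_fun T).1 hvspan
    choose γ₀ hγ₀ using fun i => Ideal.Quotient.mk_surjective (γ i)
    let Kt := ∑ i, K i
    let α : Fin d → A := fun i => γ₀ i * a ^ (Kt - K i)
    have hKi : ∀ i, K i ≤ Kt := fun i => Finset.single_le_sum (fun i _ => Nat.zero_le (K i)) (Finset.mem_univ i)
    let n' : M := (a ^ Kt * v) • n - ∑ i, α i • m i
    have hn' : n'.1.2 = 0 := by
      simp only [n', AddSubgroupClass.coe_sub, Prod.snd_sub, SetLike.val_smul, Prod.smul_snd,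
        AddSubmonoidClass.coe_finsetSum, Prod.snd_sum]
      rw [sub_eq_zero, mul_smul, show v • n.1.2 = mk v • n.1.2 from (algebraMap_smul T v _).symm, ← hγ, Finset.smul_sum]
      refine Finset.sum_congr rfl fun i _ => ?_
      rw [hm, ← hγ₀ i, show mk (γ₀ i) • x i = γ₀ i • x i from algebraMap_smul T _ _, smul_smul, smul_smul]
      simp only [α]
      rw [mul_assoc, ← pow_add, Nat.sub_add_cancel (hKi i), mul_comm]
    obtain ⟨K', hK'⟩ := hker a ha n' hn'
    have hunit : IsUnit (algebraMap A R (a ^ K' * (a ^ Kt * v) * s)) := by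
      refine IsLocalization.map_units R (⟨_, ?_⟩ : p.primeCompl)
      have ha' : ∀ k, a ^ k ∈ p.primeCompl := fun k h => hap (Ideal.IsPrime.mem_of_pow_mem inferInstance k h)
      exact p.primeCompl.mul_mem (p.primeCompl.mul_mem (ha' _) (p.primeCompl.mul_mem (ha' _)
        (fun h => hv ((hmem v).2 h)))) s.2
    obtain ⟨w, hw⟩ := hunit.exists_left_inv
    have hz2 : algebraMap A R (a ^ K' * (a ^ Kt * v) * s) • z ∈
        LinearMap.range ev ⊔ I₀.map (algebraMap A R) • (⊤ : Submodule R N) := by
      rw [algebraMap_smul, mul_smul, show (s : A) • z = j n from hz, ← map_smul j,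
        show (a ^ K' * (a ^ Kt * v)) • n = a ^ K' • n' + a ^ K' • ∑ i, α i • m i by
          rw [← smul_add, sub_add_cancel, mul_smul], map_add]
      refine add_mem (Submodule.mem_sup_right ?_) (Submodule.mem_sup_left ?_)
      · have : ∀ q ∈ I₀ • (⊤ : Submodule A M), j q ∈ I₀.map (algebraMap A R) • (⊤ : Submodule R N) := fun q hq => by
          induction hq using Submodule.smul_induction_on' with
          | smul i hi q _ =>
            rw [map_smul, ← algebraMap_smul R i]
            exact Submodule.smul_mem_smul (Ideal.mem_map_of_mem _ hi) Submodule.mem_top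
          | add x _ y _ hx hy => rw [map_add]; exact add_mem hx hy
        exact this _ hK'
      · rw [map_smul, ← hev]
        exact ⟨_, LinearMap.map_smul_of_tower ev (a ^ K') _⟩
    have := Submodule.smul_mem _ w hz2
    rwa [smul_smul, hw, one_smul] at this
  have hevinj : ∀ α : Fin d → A, (∃ t ∉ p, t • ∑ i, α i • m i = 0) → ∀ i, ∃ v ∉ p, v * α i = 0 := by
    rintro α ⟨t, ht, hsum⟩ i
    have ha' : ∀ k, a ^ k ∉ p := fun k h => hap (Ideal.IsPrime.mem_of_pow_mem inferInstance k h)
    -- in `C`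
    have hC1 : ∀ i, ∃ v ∉ p, v * α i ∈ I₀ := fun i => by
      have h2 := congrArg (fun z : M => z.1.2) hsum
      simp only [SetLike.val_smul, Prod.smul_snd, AddSubmonoidClass.coe_finsetSum, Prod.snd_sum, hm,
        ZeroMemClass.coe_zero, Prod.snd_zero] at h2
      have h3 := congrArg (l i) h2
      have hlA : ∀ (c : A) (y : C), l i (c • y) = mk c * l i y := fun c y => by
        rw [show c • y = mk c • y from (algebraMap_smul T c y).symm, map_smul]
        rfl
      simp only [hlA, map_sum, hl, map_zero, mul_ite, mul_zero,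
        Finset.sum_ite_eq, Finset.mem_univ, if_true] at h3
      refine ⟨t * a ^ K i * u₀, fun h => ?_, Ideal.Quotient.eq_zero_iff_mem.1 ?_⟩
      · rcases Ideal.IsPrime.mem_or_mem inferInstance h with h | h
        · exact (Ideal.IsPrime.mem_or_mem inferInstance h).elim ht (ha' _)
        · exact hu₀ h
      · rw [← h3]
        simp only [map_mul]
        show mk t * mk (a ^ K i) * mk u₀ * mk (α i) = mk t * (mk (α i) * (mk (a ^ K i) * mk u₀))
        ring
    -- in `B`, descending induction
    have hstep : ∀ β : Fin d → B, (∃ t ∉ p, t • ∑ i, β i • (m i).1.1 = 0) →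
        ∀ i, ∃ v ∉ p, ∃ γ, v • β i = algebraMap A B e * γ := by
      rintro β ⟨t, ht, h⟩ i
      let z : B' ⊗[T] C := ∑ i, (Ideal.Quotient.mk _ (t • a ^ K i • β i) : B') ⊗ₜ[T] x i
      have hz : κ z = 0 := by
        have h2 := congrArg ρ h
        rw [map_zero, show ρ (t • ∑ i, β i • (m i).1.1) = t • ρ (∑ i, β i • (m i).1.1) from
          map_smul (ρ.restrictScalars A) _ _, map_sum] at h2
        rw [← h2, Finset.smul_sum, map_sum]
        refine Finset.sum_congr rfl fun i _ => ?_
        rw [show (Ideal.Quotient.mk _ (t • a ^ K i • β i) : B') ⊗ₜ[T] x i =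
          (t • a ^ K i • β i) • ((1 : B') ⊗ₜ[T] x i) by rw [smul_tmul', Algebra.smul_def (A := B'), mul_one]; rfl,
          map_smul κ, map_smul ρ (β i), show ρ (m i).1.1 = θ (m i).1.2 from (m i).2, hm, map_smul θ, hθ,
          smul_assoc, smul_assoc, smul_comm (a ^ K i) (β i)]
      obtain ⟨k, hk⟩ := (hloc _ (hmapmem a ha)).2.2 z hz
      let lB : B' ⊗[T] C →ₗ[T] B' := (TensorProduct.rid T B').toLinearMap ∘ₗ (l i).lTensor B'
      have hlz : lB z = mk u₀ • (Ideal.Quotient.mk _ (t • a ^ K i • β i) : B') := by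
        have hlt : ∀ (b : B') (y : C), lB (b ⊗ₜ[T] y) = l i y • b := fun b y => rfl
        simp only [z, map_sum, hlt, hl, ite_smul, zero_smul, Finset.sum_ite_eq, Finset.mem_univ, if_true]
        rfl
      have h4 : lB ((algebraMap A B a) ^ k • z) = mk (a ^ k) • lB z := by
        rw [← map_smul]
        congr 1
        rw [← map_pow, ← algebraMap_smul B' (algebraMap A B (a ^ k)) z, ← algebraMap_smul B' (mk (a ^ k)) z]
        congr 1
        rw [← IsScalarTower.algebraMap_apply A B B']
        exact IsScalarTower.algebraMap_apply A T B' _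
      rw [hk, map_zero, hlz, show mk (a ^ k) = algebraMap A T (a ^ k) from rfl, algebraMap_smul,
        show mk u₀ = algebraMap A T u₀ from rfl, algebraMap_smul] at h4
      obtain ⟨γ, hγ⟩ := Ideal.mem_span_singleton'.1 (Ideal.Quotient.eq_zero_iff_mem.1
        (show Ideal.Quotient.mk (Ideal.span {algebraMap A B e}) (a ^ k • u₀ • t • a ^ K i • β i) = 0 from by
          rw [h4]; rfl))
      refine ⟨a ^ k * (u₀ * (t * a ^ K i)), fun h => ?_, γ, ?_⟩
      · rcases Ideal.IsPrime.mem_or_mem inferInstance h with h | h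
        · exact ha' _ h
        · rcases Ideal.IsPrime.mem_or_mem inferInstance h with h | h
          · exact hu₀ h
          · exact (Ideal.IsPrime.mem_or_mem inferInstance h).elim ht (ha' _)
      · rw [mul_smul, mul_smul, mul_smul, ← hγ, mul_comm]
    have hB : ∀ n, ∃ v ∉ p, ∃ γ : Fin d → B, (∀ i, v • algebraMap A B (α i) = algebraMap A B e ^ n * γ i) ∧
        ∃ t ∉ p, t • ∑ i, γ i • (m i).1.1 = 0 := by
      intro n
      induction n with
      | zero =>
        refine ⟨1, fun h => (Ideal.IsPrime.ne_top inferInstance) ((Ideal.eq_top_iff_one p).2 h),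
          fun i => algebraMap A B (α i), fun i => by rw [one_smul, pow_zero, one_mul], t, ht, ?_⟩
        have h := congrArg (fun z : M => z.1.1) hsum
        simp only [SetLike.val_smul, Prod.smul_fst, AddSubmonoidClass.coe_finsetSum, Prod.fst_sum,
          ZeroMemClass.coe_zero, Prod.fst_zero] at h
        simpa only [algebraMap_smul] using h
      | succ n ih =>
        obtain ⟨v, hv, γ, hγ, t, ht, hsum'⟩ := ih
        choose w hw δ hδ using hstep γ ⟨t, ht, hsum'⟩
        let W := ∏ i, w i
        have hW : W ∉ p := fun h => by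
          obtain ⟨i, -, hi⟩ := Ideal.IsPrime.prod_mem_iff.1 h
          exact hw i hi
        have hd : ∀ i, w i ∣ W := fun i => Finset.dvd_prod_of_mem w (Finset.mem_univ i)
        choose c hc using hd
        refine ⟨W * v, fun h => (Ideal.IsPrime.mem_or_mem inferInstance h).elim hW hv, fun i => c i • δ i,
          fun i => ?_, t, ht, hinj ?_⟩
        · rw [mul_smul, hγ, ← mul_smul_comm, hc, mul_comm (w i), mul_smul, hδ, pow_succ, mul_assoc]
          simp only [mul_smul_comm]
        · show algebraMap A B e • t • ∑ i, (c i • δ i) • (m i).1.1 = algebraMap A B e • 0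
          have h5 : ∀ i, algebraMap A B e • (c i • δ i) • (m i).1.1 = (W • γ i) • (m i).1.1 := fun i => by
            rw [smul_smul, mul_smul_comm, ← hδ, smul_smul, mul_comm (c i), ← hc]
          have h6 : algebraMap A B e • ∑ i, (c i • δ i) • (m i).1.1 = W • ∑ i, γ i • (m i).1.1 := by
            rw [Finset.smul_sum, Finset.smul_sum]
            exact Finset.sum_congr rfl fun i _ => (h5 i).trans (smul_assoc _ _ _)
          rw [smul_zero, smul_comm, h6, smul_comm, hsum', smul_zero]
    -- Krull intersection in the localisation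
    have hzero : ∃ v ∉ p, v • algebraMap A B (α i) = 0 := by
      let LB := LocalizedModule p.primeCompl B
      let jB := LocalizedModule.mkLinearMap p.primeCompl B
      haveI : Module.Finite R LB := Module.Finite.of_isLocalizedModule p.primeCompl jB
      have h0 : jB (algebraMap A B (α i)) ∈ (⨅ n : ℕ, Ideal.span {algebraMap A R e} ^ n • (⊤ : Submodule R LB)) := by
        refine Submodule.mem_iInf _ |>.2 fun n => ?_
        obtain ⟨v, hv, γ, hγ, -⟩ := hB n
        obtain ⟨w, hw⟩ := (IsLocalization.map_units R (⟨v, hv⟩ : p.primeCompl)).exists_left_inv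
        have h := congrArg jB (hγ i)
        rw [map_smul, show algebraMap A B e ^ n * γ i = e ^ n • γ i by rw [Algebra.smul_def, map_pow], map_smul] at h
        have h' : jB (algebraMap A B (α i)) = (algebraMap A R e) ^ n • w • jB (γ i) := by
          rw [← one_smul R (jB _), ← hw, mul_smul, algebraMap_smul, h, ← map_pow, algebraMap_smul, smul_comm]
        rw [h', Ideal.span_singleton_pow]
        exact Submodule.smul_mem_smul (Ideal.mem_span_singleton_self _) Submodule.mem_top
      rw [Ideal.iInf_pow_smul_eq_bot_of_le_jacobson (Ideal.span {algebraMap A R e})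
        ((Ideal.span_singleton_le_iff_mem _).2 (hI₀R (Ideal.mem_map_of_mem _ hI.mem)))] at h0
      obtain ⟨⟨v, hv⟩, hv'⟩ := (IsLocalizedModule.eq_zero_iff p.primeCompl jB).1 ((Submodule.mem_bot R).1 h0)
      exact ⟨v, hv, hv'⟩
    obtain ⟨v, hv, hv0⟩ := hzero
    obtain ⟨v', hv', hvI⟩ := hC1 i
    refine ⟨v * v', fun h => (Ideal.IsPrime.mem_or_mem inferInstance h).elim hv hv', hI.inj _ ?_ ?_⟩
    · rw [mul_assoc]; exact Ideal.mul_mem_left _ _ hvI
    · rw [mul_right_comm, map_mul, map_mul, ← Algebra.smul_def v (algebraMap A B (α i)), hv0, zero_mul]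
  have hfree : Function.Injective ev := (injective_iff_map_eq_zero _).2 fun r hr => by
    obtain ⟨⟨s, hs⟩, hα⟩ := IsLocalization.exist_integer_multiples_of_finite p.primeCompl r
    choose α hα using hα
    have h1 : j (∑ i, α i • m i) = 0 := by
      rw [← hev, show (fun i => algebraMap A R (α i)) = (s : A) • r from funext fun i => hα i,
        LinearMap.map_smul_of_tower, hr, smul_zero]
    obtain ⟨⟨t, ht⟩, ht'⟩ := (IsLocalizedModule.eq_zero_iff p.primeCompl j).1 h1
    funext i
    obtain ⟨v, hv, hv0⟩ := hevinj α ⟨t, ht, ht'⟩ i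
    have h2 : algebraMap A R (v * s) * r i = 0 := by
      rw [map_mul, mul_assoc, ← Algebra.smul_def s, ← show algebraMap A R (α i) = s • r i from hα i, ← map_mul, hv0,
        map_zero]
    exact (IsLocalization.map_units R (⟨_, p.primeCompl.mul_mem hv hs⟩ : p.primeCompl)).mul_right_eq_zero.1 h2
  haveI : Module.Free R N := Module.Free.of_equiv (LinearEquiv.ofBijective ev ⟨hfree, hevsurj⟩)
  -- étale modulo the ideal
  have hMT : EtAway T (T ⊗[A] M) (mk a) := Groth.Agent.Pi1Ext.PuritySch.etAway_of_isoAway (hπiso _ haT) (hC _ haT)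
  let J := I₀.map (algebraMap A R)
  let TR := R ⧸ J
  letI : Algebra T TR := (Ideal.Quotient.lift I₀ (algebraMap A TR) fun z hz => by
    rw [IsScalarTower.algebraMap_apply A R TR]
    exact Ideal.Quotient.eq_zero_iff_mem.2 (Ideal.mem_map_of_mem _ hz)).toAlgebra
  haveI : IsScalarTower A T TR := IsScalarTower.of_algebraMap_eq fun z => rfl
  have hu' : IsUnit (algebraMap T TR (mk a)) := by
    show IsUnit (algebraMap T TR (algebraMap A T a))
    rw [← IsScalarTower.algebraMap_apply A T TR, IsScalarTower.algebraMap_apply A R TR]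
    exact (IsLocalization.map_units R (⟨a, hap⟩ : p.primeCompl)).map _
  haveI : Algebra.Etale TR (TR ⊗[T] (T ⊗[A] M)) := etale_tensor_of_etAway hMT TR hu'
  haveI : Algebra.Etale TR (TR ⊗[A] M) := etale_cancel A T TR M
  haveI : Algebra.Etale TR (TR ⊗[R] N) := etale_cancel' A R TR M
  exact exists_etAway_of_etale_atPrime p
    (etale_of_free_quot J ((Ideal.map_mono hIp).trans Localization.AtPrime.map_eq_maximalIdeal.le))

end Groth.Agent.LefAlgz
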