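import Groth.Agent.Hartogs.Basic
import Groth.Agent.ParaFX.Functions
/-! Depth of the stalk at the closed point of a local scheme. -/

universe u

open AlgebraicGeometry CategoryTheory

namespace Groth.Agent.LefAlgz

theorem depth_stalk_closedPoint (A : Type u) [CommRing A] [IsLocalRing A] :
    LocCoh.depth ((Spec (CommRingCat.of A)).presheaf.stalk (IsLocalRing.closedPoint A))
      ((Spec (CommRingCat.of A)).presheaf.stalk (IsLocalRing.closedPoint A)) = LocCoh.depth A A := by
  let σ := (AlgebraicGeometry.stalkClosedPointIso (CommRingCat.of A)).commRingCatIsoToRingEquiv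
  exact Alg6.depth_eq_of_semilinear σ.toRingHom σ.surjective σ.toAddEquiv (fun r z => map_mul σ r z)

end Groth.Agent.LefAlgz
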