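import Mathlib.LinearAlgebra.Quotient.Basic
import Mathlib.RingTheory.Noetherian.Basic
import Mathlib.LinearAlgebra.Pi

/-!
# Towers of flat liftings over powers of an element, and complexes of them
-/

noncomputable section

set_option autoImplicit false

universe u

namespace Groth.Agent.LefAlgz

variable {A : Type u} [CommRing A]

/-- Modules `B n` over `A/f^{n+1}` which are successive flat liftings of one another. -/
structure FTower (A : Type u) [CommRing A] (f : A) where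
  B : ℕ → Type u
  [grp : ∀ n, AddCommGroup (B n)]
  [mod : ∀ n, Module A (B n)]
  red : ∀ n, B (n + 1) →ₗ[A] B n
  red_surj : ∀ n, Function.Surjective (red n)
  ker_red : ∀ n x, red n x = 0 → ∃ y, f ^ (n + 1) • y = x
  killed : ∀ n (x : B n), f ^ (n + 1) • x = 0
  reg : ∀ n (x : B (n + 1)), f • x = 0 → ∃ y, f ^ (n + 1) • y = x

attribute [instance] FTower.grp FTower.mod

/-- Descend a linear map along a surjection. -/
def descend {P Q R : Type u} [AddCommGroup P] [Module A P] [AddCommGroup Q] [Module A Q] [AddCommGroup R]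
    [Module A R] (q : P →ₗ[A] Q) (hq : Function.Surjective q) (h : P →ₗ[A] R)
    (hh : ∀ x, q x = 0 → h x = 0) : Q →ₗ[A] R :=
  ((LinearMap.ker q).liftQ h fun x hx => hh x hx) ∘ₗ (q.quotKerEquivOfSurjective hq).symm.toLinearMap

theorem descend_apply {P Q R : Type u} [AddCommGroup P] [Module A P] [AddCommGroup Q] [Module A Q]
    [AddCommGroup R] [Module A R] (q : P →ₗ[A] Q) (hq : Function.Surjective q) (h : P →ₗ[A] R)
    (hh : ∀ x, q x = 0 → h x = 0) (x : P) : descend q hq h hh (q x) = h x := by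
  show ((LinearMap.ker q).liftQ h fun x hx => hh x hx) ((q.quotKerEquivOfSurjective hq).symm (q x)) = h x
  rw [show (q.quotKerEquivOfSurjective hq).symm (q x) = Submodule.Quotient.mk x from
    (q.quotKerEquivOfSurjective hq).symm_apply_eq.2 rfl]
  rfl

namespace FTower

variable {f : A} (T : FTower A f)

theorem red_pow (n : ℕ) (y : T.B (n + 1)) : T.red n (f ^ (n + 1) • y) = 0 := by
  rw [map_smul, T.killed]

/-- Multiplication by `f` into the next level. -/
def nu (n : ℕ) : T.B n →ₗ[A] T.B (n + 1) :=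
  descend (T.red n) (T.red_surj n) (LinearMap.lsmul A (T.B (n + 1)) f) fun x hx => by
    obtain ⟨y, rfl⟩ := T.ker_red n x hx
    show f • f ^ (n + 1) • y = 0
    rw [smul_smul, ← pow_succ', T.killed]

theorem nu_red (n : ℕ) (x : T.B (n + 1)) : T.nu n (T.red n x) = f • x := descend_apply _ _ _ _ x

theorem red_nu (n : ℕ) (x : T.B n) : T.red n (T.nu n x) = f • x := by
  obtain ⟨x, rfl⟩ := T.red_surj n x
  rw [nu_red, map_smul]

theorem nu_injective (n : ℕ) : Function.Injective (T.nu n) := by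
  rw [injective_iff_map_eq_zero]
  intro x hx
  obtain ⟨x, rfl⟩ := T.red_surj n x
  rw [nu_red] at hx
  obtain ⟨y, rfl⟩ := T.reg n x hx
  exact T.red_pow n y

theorem reg_pow (m : ℕ) : ∀ (k j : ℕ) (x : T.B m), k + j = m + 1 → f ^ k • x = 0 → ∃ y, f ^ j • y = x := by
  intro k
  induction k with
  | zero => exact fun j x _ h => ⟨0, by rw [smul_zero]; simpa using h.symm⟩
  | succ k ih =>
    intro j x hkj h
    rw [pow_succ', mul_smul] at h
    obtain ⟨y, hy⟩ : ∃ y, f ^ m • y = f ^ k • x := by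
      cases m with
      | zero => exact ⟨f ^ k • x, by rw [pow_zero, one_smul]⟩
      | succ m => exact T.reg m _ h
    obtain ⟨w, hw⟩ := ih (j + 1) (x - f ^ j • y) (by omega) (by
      rw [smul_sub, smul_smul, ← pow_add, show k + j = m by omega, hy, sub_self])
    exact ⟨f • w + y, by rw [smul_add, smul_smul, ← pow_succ, hw, sub_add_cancel]⟩

/-- The reduction between two levels. -/
def dn {n m : ℕ} (h : n ≤ m) : T.B m →ₗ[A] T.B n :=
  Nat.leRecOn (C := fun k => T.B k →ₗ[A] T.B n) h (fun {k} F => F ∘ₗ T.red k) LinearMap.id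

theorem dn_self {n : ℕ} (h : n ≤ n) (x : T.B n) : T.dn h x = x := by
  rw [dn, Nat.leRecOn_self]
  rfl

theorem dn_succ {n m : ℕ} (h : n ≤ m) (h' : n ≤ m + 1) (x : T.B (m + 1)) :
    T.dn h' x = T.dn h (T.red m x) := by
  rw [dn, Nat.leRecOn_succ h]
  rfl

theorem red_dn {n m : ℕ} (h : n + 1 ≤ m) (h' : n ≤ m) (x : T.B m) : T.red n (T.dn h x) = T.dn h' x := by
  induction m, h using Nat.le_induction with
  | base => rw [dn_self, dn_succ T le_rfl h', dn_self]
  | succ m h ih => rw [dn_succ T h, dn_succ T ((Nat.le_succ n).trans h), ih]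

theorem dn_dn {n k m : ℕ} (h₁ : n ≤ k) (h₂ : k ≤ m) (x : T.B m) :
    T.dn h₁ (T.dn h₂ x) = T.dn (h₁.trans h₂) x := by
  induction m, h₂ using Nat.le_induction with
  | base => rw [dn_self]
  | succ m h ih => rw [dn_succ T h, dn_succ T (h₁.trans h), ih]

theorem dn_pow {n m : ℕ} (h : n ≤ m) {i : ℕ} (hi : n + 1 ≤ i) (y : T.B m) : T.dn h (f ^ i • y) = 0 := by
  obtain ⟨j, rfl⟩ := Nat.exists_eq_add_of_le hi
  rw [map_smul, pow_add, mul_comm, mul_smul, T.killed, smul_zero]

/-- The reduction to level zero. -/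
def pr (n : ℕ) : T.B n →ₗ[A] T.B 0 := T.dn (Nat.zero_le n)

theorem pr_succ (n : ℕ) (x : T.B (n + 1)) : T.pr (n + 1) x = T.pr n (T.red n x) :=
  T.dn_succ (Nat.zero_le n) _ x

theorem pr_surj (n : ℕ) : Function.Surjective (T.pr n) := by
  induction n with
  | zero => exact fun x => ⟨x, T.dn_self _ x⟩
  | succ n ih =>
    intro x
    obtain ⟨y, rfl⟩ := ih x
    obtain ⟨z, rfl⟩ := T.red_surj n y
    exact ⟨z, T.pr_succ n z⟩

theorem pr_smul (n : ℕ) (y : T.B n) : T.pr n (f • y) = 0 := by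
  have := T.dn_pow (Nat.zero_le n) (i := 1) le_rfl y
  rwa [pow_one] at this

theorem exists_smul_of_pr (n : ℕ) : ∀ x : T.B n, T.pr n x = 0 → ∃ y, f • y = x := by
  induction n with
  | zero =>
    intro x hx
    rw [pr, dn_self] at hx
    exact ⟨0, by rw [smul_zero, hx]⟩
  | succ n ih =>
    intro x hx
    rw [pr_succ] at hx
    obtain ⟨y, hy⟩ := ih _ hx
    obtain ⟨y, rfl⟩ := T.red_surj n y
    obtain ⟨w, hw⟩ := T.ker_red n (x - f • y) (by rw [map_sub, map_smul, hy, sub_self])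
    exact ⟨f ^ n • w + y, by rw [smul_add, smul_smul, ← pow_succ', hw, sub_add_cancel]⟩

theorem exists_nu_of_pr (n : ℕ) (x : T.B (n + 1)) (hx : T.pr (n + 1) x = 0) : ∃ y, T.nu n y = x := by
  obtain ⟨y, rfl⟩ := T.exists_smul_of_pr _ x hx
  exact ⟨T.red n y, T.nu_red n y⟩

/-- Multiplication by `f^{n+1}` from level zero. -/
def mu (n : ℕ) : T.B 0 →ₗ[A] T.B (n + 1) :=
  descend (T.pr (n + 1)) (T.pr_surj (n + 1)) (LinearMap.lsmul A (T.B (n + 1)) (f ^ (n + 1))) fun x hx => by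
    obtain ⟨y, rfl⟩ := T.exists_smul_of_pr _ x hx
    show f ^ (n + 1) • f • y = 0
    rw [smul_smul, ← pow_succ, T.killed]

theorem mu_pr (n : ℕ) (x : T.B (n + 1)) : T.mu n (T.pr (n + 1) x) = f ^ (n + 1) • x := descend_apply _ _ _ _ x

theorem mu_injective (n : ℕ) : Function.Injective (T.mu n) := by
  rw [injective_iff_map_eq_zero]
  intro x hx
  obtain ⟨x, rfl⟩ := T.pr_surj (n + 1) x
  rw [mu_pr] at hx
  obtain ⟨y, rfl⟩ := T.reg_pow (n + 1) (n + 1) 1 x rfl hx
  rw [pow_one, pr_smul]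

theorem red_mu (n : ℕ) (z : T.B 0) : T.red n (T.mu n z) = 0 := by
  obtain ⟨x, rfl⟩ := T.pr_surj (n + 1) z
  rw [mu_pr, red_pow]

theorem exists_mu (n : ℕ) (x : T.B (n + 1)) (hx : T.red n x = 0) : ∃ z, T.mu n z = x := by
  obtain ⟨y, rfl⟩ := T.ker_red n x hx
  exact ⟨T.pr (n + 1) y, T.mu_pr n y⟩

theorem nu_mu (n : ℕ) (z : T.B 0) : T.nu (n + 1) (T.mu n z) = T.mu (n + 1) z := by
  obtain ⟨x, rfl⟩ := T.pr_surj (n + 2) z
  conv_lhs => rw [pr_succ, mu_pr, map_smul, nu_red]
  rw [mu_pr, smul_smul, ← pow_succ]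

/-- A morphism of towers. -/
structure Hom (T T' : FTower A f) where
  app : ∀ n, T.B n →ₗ[A] T'.B n
  comm : ∀ n x, app n (T.red n x) = T'.red n (app (n + 1) x)

namespace Hom

variable {T} {T' : FTower A f} (φ : Hom T T')

theorem app_nu (n : ℕ) (x : T.B n) : φ.app (n + 1) (T.nu n x) = T'.nu n (φ.app n x) := by
  obtain ⟨x, rfl⟩ := T.red_surj n x
  rw [nu_red, map_smul, φ.comm, nu_red]

theorem app_dn {n m : ℕ} (h : n ≤ m) (x : T.B m) : φ.app n (T.dn h x) = T'.dn h (φ.app m x) := by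
  induction m, h using Nat.le_induction with
  | base => rw [dn_self, dn_self]
  | succ m h ih => rw [dn_succ T h, dn_succ T' h, ih, φ.comm]

theorem app_mu (n : ℕ) (z : T.B 0) : φ.app (n + 1) (T.mu n z) = T'.mu n (φ.app 0 z) := by
  obtain ⟨x, rfl⟩ := T.pr_surj (n + 1) z
  rw [mu_pr, map_smul, pr, φ.app_dn, ← pr, mu_pr]

end Hom

end FTower

/-- A complex of three towers. -/
structure Cx (A : Type u) [CommRing A] (f : A) where
  C0 : FTower A f
  C1 : FTower A f
  C2 : FTower A f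
  d : FTower.Hom C0 C1
  e : FTower.Hom C1 C2
  ed : ∀ n x, e.app n (d.app n x) = 0

namespace Cx

variable {f : A} (T : Cx A f)

/-- The kernel at each level. -/
def N (n : ℕ) : Submodule A (T.C0.B n) := LinearMap.ker (T.d.app n)

theorem mem_N {n : ℕ} {x : T.C0.B n} : x ∈ T.N n ↔ T.d.app n x = 0 := LinearMap.mem_ker

/-- The cycles at level zero. -/
def Z : Submodule A (T.C1.B 0) := LinearMap.ker (T.e.app 0)

/-- The boundaries at level zero. -/
def bd : Submodule A T.Z := (LinearMap.range (T.d.app 0)).comap T.Z.subtype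

/-- The first cohomology at level zero. -/
abbrev H : Type u := T.Z ⧸ T.bd

theorem red_mem {n : ℕ} {x : T.C0.B (n + 1)} (hx : x ∈ T.N (n + 1)) : T.C0.red n x ∈ T.N n := by
  rw [mem_N, T.d.comm, T.mem_N.1 hx, map_zero]

theorem dn_mem {n m : ℕ} (h : n ≤ m) {x : T.C0.B m} (hx : x ∈ T.N m) : T.C0.dn h x ∈ T.N n := by
  rw [mem_N, T.d.app_dn, T.mem_N.1 hx, map_zero]

theorem nu_mem {n : ℕ} {x : T.C0.B n} (hx : x ∈ T.N n) : T.C0.nu n x ∈ T.N (n + 1) := by
  rw [mem_N, T.d.app_nu, T.mem_N.1 hx, map_zero]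

/-- Lifts to the next level of kernel elements. -/
def P (n : ℕ) : Submodule A (T.C0.B (n + 1)) := (T.N n).comap (T.C0.red n)

theorem exists_obs (n : ℕ) (x : T.P n) : ∃ z : T.Z, T.C1.mu n z = T.d.app (n + 1) x := by
  obtain ⟨z, hz⟩ := T.C1.exists_mu n (T.d.app (n + 1) x) (by rw [← T.d.comm]; exact x.2)
  refine ⟨⟨z, T.C2.mu_injective n ?_⟩, hz⟩
  rw [← T.e.app_mu, hz, T.ed, map_zero]

theorem obs_unique {n : ℕ} {z z' : T.Z} (h : T.C1.mu n z = T.C1.mu n z') : z = z' :=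
  Subtype.ext (T.C1.mu_injective n h)

/-- The obstruction of a lift. -/
def obs (n : ℕ) : T.P n →ₗ[A] T.Z where
  toFun x := (T.exists_obs n x).choose
  map_add' x y := T.obs_unique (by
    rw [(T.exists_obs n (x + y)).choose_spec, Submodule.coe_add, map_add, Submodule.coe_add, map_add,
      (T.exists_obs n x).choose_spec, (T.exists_obs n y).choose_spec])
  map_smul' a x := T.obs_unique (by
    rw [(T.exists_obs n (a • x)).choose_spec, Submodule.coe_smul, map_smul, RingHom.id_apply, Submodule.coe_smul,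
      map_smul, (T.exists_obs n x).choose_spec])

theorem mu_obs (n : ℕ) (x : T.P n) : T.C1.mu n (T.obs n x) = T.d.app (n + 1) x :=
  (T.exists_obs n x).choose_spec

/-- The projection from lifts. -/
def proj (n : ℕ) : T.P n →ₗ[A] T.N n :=
  LinearMap.codRestrict _ ((T.C0.red n) ∘ₗ (T.P n).subtype) fun x => x.2

theorem proj_surj (n : ℕ) : Function.Surjective (T.proj n) := fun s => by
  obtain ⟨x, hx⟩ := T.C0.red_surj n s
  exact ⟨⟨x, by show T.C0.red n x ∈ T.N n; rw [hx]; exact s.2⟩, Subtype.ext hx⟩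

/-- The obstruction to lifting a kernel element to the next level. -/
def delta (n : ℕ) : T.N n →ₗ[A] T.H :=
  descend (T.proj n) (T.proj_surj n) (T.bd.mkQ ∘ₗ T.obs n) fun x hx => by
    obtain ⟨y, hy⟩ := T.C0.exists_mu n x (congrArg Subtype.val hx)
    show Submodule.Quotient.mk (T.obs n x) = 0
    rw [Submodule.Quotient.mk_eq_zero]
    exact ⟨y, T.C1.mu_injective n (by rw [← T.d.app_mu, hy]; exact (T.mu_obs n x).symm)⟩

theorem delta_proj (n : ℕ) (x : T.P n) : T.delta n (T.proj n x) = Submodule.Quotient.mk (T.obs n x) :=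
  descend_apply _ _ _ _ x

theorem exists_lift_of_delta {n : ℕ} (s : T.N n) (h : T.delta n s = 0) :
    ∃ s' ∈ T.N (n + 1), T.C0.red n s' = s := by
  obtain ⟨x, rfl⟩ := T.proj_surj n s
  rw [delta_proj, Submodule.Quotient.mk_eq_zero] at h
  obtain ⟨y, hy⟩ := h
  refine ⟨x.1 - T.C0.mu n y, ?_, ?_⟩
  · rw [mem_N, map_sub, T.d.app_mu, hy]
    exact sub_eq_zero.2 (T.mu_obs n x).symm
  · rw [map_sub, T.C0.red_mu, sub_zero]
    rfl

theorem delta_nu {n : ℕ} (s : T.N n) : T.delta (n + 1) ⟨T.C0.nu n s, T.nu_mem s.2⟩ = T.delta n s := by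
  obtain ⟨x, rfl⟩ := T.proj_surj n s
  have hmem : T.C0.nu (n + 1) x.1 ∈ T.P (n + 1) := by
    show T.C0.red (n + 1) (T.C0.nu (n + 1) x.1) ∈ T.N (n + 1)
    rw [T.C0.red_nu, ← T.C0.nu_red]
    exact T.nu_mem x.2
  have hp : T.proj (n + 1) ⟨_, hmem⟩ = ⟨T.C0.nu n (T.proj n x).1, T.nu_mem (T.proj n x).2⟩ :=
    Subtype.ext (show T.C0.red (n + 1) (T.C0.nu (n + 1) x.1) = T.C0.nu n (T.C0.red n x.1) by
      rw [T.C0.red_nu, T.C0.nu_red])
  rw [← hp, delta_proj, delta_proj]
  congr 1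
  refine T.obs_unique (n := n + 1) ?_
  rw [T.mu_obs, T.d.app_nu, ← T.mu_obs, T.C1.nu_mu]

theorem range_delta_mono : Monotone fun n => LinearMap.range (T.delta n) :=
  monotone_nat_of_le_succ fun n => by
    rintro _ ⟨s, rfl⟩
    exact ⟨⟨T.C0.nu n s, T.nu_mem s.2⟩, T.delta_nu s⟩

theorem exists_delta_stable [IsNoetherian A T.H] :
    ∃ c, ∀ m, c ≤ m → LinearMap.range (T.delta c) = LinearMap.range (T.delta m) :=
  monotone_stabilizes_iff_noetherian.2 inferInstance ⟨_, T.range_delta_mono⟩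

/-- Classes of high level are obstructions of highly divisible elements. -/
theorem exists_divisible {c : ℕ} (t : T.N c) :
    ∀ i m, m = c + i → ∃ (t' : T.N m) (y : T.C0.B m), T.delta m t' = T.delta c t ∧ f ^ i • y = t'.1 := by
  intro i
  induction i with
  | zero =>
    rintro m rfl
    exact ⟨t, t.1, rfl, by rw [pow_zero, one_smul]⟩
  | succ i ih =>
    rintro m rfl
    obtain ⟨t', y, h1, h2⟩ := ih (c + i) rfl
    obtain ⟨y', rfl⟩ := T.C0.red_surj (c + i) y
    refine ⟨⟨T.C0.nu (c + i) t', T.nu_mem t'.2⟩, y', (T.delta_nu t').trans h1, ?_⟩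
    show f ^ (i + 1) • y' = T.C0.nu (c + i) t'.1
    rw [← h2, map_smul, T.C0.nu_red, smul_smul, ← pow_succ]

end Cx

end Groth.Agent.LefAlgz
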